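import Cfsg.Statements.S4303
import Cfsg.Agent.Lib.H9SylowNum

set_option autoImplicit false
universe u
open Cfsg

namespace Cfsg.Agent.S4303

open Subgroup CfsgLib CfsgLib.H9

theorem list_of_parts (p n : ℕ) [hp : Fact p.Prime] (hn : n ≠ 0)
    (h : ∀ q : ℕ, q.Prime → q ^ n.factorization q ≡ 1 [MOD p]) :
    ∃ l : List ℕ, l.prod = n ∧ ∀ m ∈ l, IsPrimePow m ∧ m % p = 1 := by
  refine ⟨n.primeFactors.toList.map fun q => q ^ n.factorization q, ?_, ?_⟩
  · rw [Finset.prod_map_toList]
    exact Nat.prod_factorization_pow_eq_self hn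
  · intro m hm
    rw [List.mem_map] at hm
    obtain ⟨q, hq, rfl⟩ := hm
    rw [Finset.mem_toList] at hq
    have hq' := Nat.prime_of_mem_primeFactors hq
    refine ⟨hq'.isPrimePow.pow ?_, ?_⟩
    · rw [← Nat.support_factorization, Finsupp.mem_support_iff] at hq
      exact hq
    · have := h q hq'
      rwa [Nat.ModEq, Nat.mod_eq_of_lt hp.out.one_lt] at this

/-- For a finite group `G` and a prime `p`, the number of Sylow `p`-subgroups of `G` is a product of natural numbers each of which is either a prime power congruent to 1 modulo `p` or the number of Sylow `p`-subgroups of some finite simple group. -/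
theorem result {G : Type u} [Group G] [Finite G]
    (p : ℕ) [Fact p.Prime] :
    ∃ l : List ℕ, l.prod = Nat.card (Sylow p G) ∧
      ∀ m ∈ l, (IsPrimePow m ∧ m % p = 1) ∨
        ∃ (S : Type u) (_ : Group S) (_ : Finite S), IsSimpleGroup S ∧ m = Nat.card (Sylow p S) := by
  refine card_induction (P := fun X _ _ => ∃ l : List ℕ, l.prod = Nat.card (Sylow p X) ∧
      ∀ m ∈ l, (IsPrimePow m ∧ m % p = 1) ∨
        ∃ (S : Type u) (_ : Group S) (_ : Finite S), IsSimpleGroup S ∧ m = Nat.card (Sylow p S))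
      ?_ G
  intro G _ _ ih
  obtain ⟨P⟩ : Nonempty (Sylow p G) := inferInstance
  rcases subsingleton_or_nontrivial G with h | h
  · refine ⟨[], ?_, by simp⟩
    rw [card_sylow_eq_index P, Subsingleton.elim (normalizer _) ⊤]
    simp
  by_cases hs : IsSimpleGroup G
  · exact ⟨[Nat.card (Sylow p G)], by simp, fun m hm => Or.inr ⟨G, _, inferInstance, hs, by
      simpa using hm⟩⟩
  have : ∃ N : Subgroup G, N.Normal ∧ N ≠ ⊥ ∧ N ≠ ⊤ := by
    by_contra hcon
    push Not at hcon
    exact hs ⟨fun N hN => (em (N = ⊥)).imp_right (hcon N hN)⟩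
  obtain ⟨K, hK, h0, h1⟩ := this
  obtain ⟨l₁, hl₁, hm₁⟩ := ih _ (card_quotient_lt h0)
  by_cases hPK : (P : Subgroup G) ⊓ K = ⊥
  · have hc : (Nat.card K).Coprime p := by
      have := IsSylowIn.sylow_inf_normal P K
      rw [hPK, IsSylowIn.bot_iff] at this
      exact ((Fact.out : p.Prime).coprime_iff_not_dvd.2 this).symm
    obtain ⟨l₂, hl₂, hm₂⟩ := list_of_parts p _ index_ne_zero_of_finite fun q hq =>
      ordProj_relIndex_normalizer_modEq_one K P
        (by rw [normalizer_eq_top K]; exact le_top) hc hq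
    refine ⟨l₁ ++ l₂, ?_, fun m hm => ?_⟩
    · rw [List.prod_append, hl₁, hl₂, card_sylow_eq_quotient_mul K P]
      rfl
    · rcases List.mem_append.1 hm with hm | hm
      exacts [hm₁ m hm, Or.inl (hm₂ m hm)]
  · obtain ⟨l₂, hl₂, hm₂⟩ := ih _ (card_lt_of_ne_top h1)
    set N := ((P : Subgroup G) ⊔ K) ⊓ normalizer (((P : Subgroup G) ⊓ K : Subgroup G) : Set G)
      with hN
    have hle : (P : Subgroup G) ⊓ K ≤ N := le_inf (inf_le_left.trans le_sup_left) le_normalizer
    have hn : (((P : Subgroup G) ⊓ K).subgroupOf N).Normal :=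
      (normal_subgroupOf_iff_le_normalizer hle).2 inf_le_right
    obtain ⟨l₃, hl₃, hm₃⟩ := ih (N ⧸ ((P : Subgroup G) ⊓ K).subgroupOf N)
      (lt_of_lt_of_le (card_quotient_lt (by
        rw [Ne, subgroupOf_eq_bot, disjoint_iff, inf_eq_left.2 hle]
        exact hPK)) (card_le_card_group N))
    refine ⟨l₁ ++ l₂ ++ l₃, ?_, fun m hm => ?_⟩
    · rw [List.prod_append, List.prod_append, hl₁, hl₂, hl₃, card_sylow_product K P N hN]
    · rcases List.mem_append.1 hm with hm | hm
      · rcases List.mem_append.1 hm with hm | hm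
        exacts [hm₁ m hm, hm₂ m hm]
      · exact hm₃ m hm

end Cfsg.Agent.S4303
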