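import Cfsg.Statements.S4068
import Mathlib
import Cfsg.Agent.Lib.H5AutOrbits
import Cfsg.Agent.Lib.H5Small
import Cfsg.Agent.Lib.H5Count
import Cfsg.Agent.Lib.CoreSolvable
import Cfsg.Agent.Lib.FrobMain
import Cfsg.Agent.Lib.CharBurnside
import Cfsg.Agent.Lib.PGroupBasic
import Cfsg.Agent.Lib.PComplement
import Cfsg.Agent.Lib.SchurZassenhausConj
import Cfsg.Agent.Lib.ClassCount

set_option autoImplicit false
open Cfsg

namespace Cfsg.Agent.S4068
open Subgroup Cfsg CfsgLib CfsgLib.H5

theorem card_prime_of_hasFPF {A : Type*} [Group A] [Finite A] [Nontrivial A] (h : Frob.HasFPF A)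
    (hodd : Odd (Nat.card A)) (hord : ∀ x : A, x ≠ 1 → (orderOf x).Prime) :
    (Nat.card A).Prime := by
  have := h.isSolvable_of_odd hodd
  obtain ⟨M, hM⟩ := exists_isMinNormal (G := A)
  obtain ⟨q, hq, hc, he⟩ := hM.exists_isElementaryAbelian inferInstance
  obtain ⟨⟨y, hy⟩, hy1⟩ := ne_bot_iff_exists_ne_one.mp hM.2.1
  replace hy1 : y ≠ 1 := by simpa using hy1
  have := Fact.mk hq
  have hyo : orderOf y = q := orderOf_eq_prime (he y hy) hy1
  have : zpowers y = ⊤ := eq_top_iff.mpr fun x _ => by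
    by_cases hx1 : x = 1
    · exact hx1 ▸ one_mem _
    have h1 := hM.1.conj_mem y hy x
    have h2 := h.commute_of_normalizes (hord x hx1) hq (pow_orderOf_eq_one x) hyo
      (h.mem_zpowers_of_commute hq (he _ h1) (he y hy) hy1
        (PGrp.isMulCommutative_iff_forall.mp hc _ h1 _ hy))
    refine h.mem_zpowers_of_commute hq ?_ (he y hy) hy1 h2
    by_contra h3
    have h4 : (orderOf x).Coprime (orderOf y) := by
      rw [hyo, Nat.coprime_primes (hord x hx1) hq]
      rintro rfl
      exact h3 (pow_orderOf_eq_one x)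
    have h5 := h2.orderOf_mul_eq_mul_orderOf_of_coprime h4
    have h6 := (hord x hx1).one_lt
    have h7 := hq.one_lt
    by_cases h8 : x * y = 1
    · rw [h8, orderOf_one, hyo] at h5; nlinarith
    · exact Nat.not_prime_mul h6.ne' (hyo ▸ h7.ne') (h5 ▸ hord _ h8)
  rw [← card_top, ← this, Nat.card_zpowers, hyo]
  exact hq

section
variable {G : Type*} [Group G] [Finite G]

theorem mem_cent_conj (g x h : G) :
    h ∈ centralizer ({g * x * g⁻¹} : Set G) ↔ g⁻¹ * h * g ∈ centralizer ({x} : Set G) := by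
  simp only [mem_centralizer_singleton_iff]
  constructor
  · intro h1
    calc g⁻¹ * h * g * x = g⁻¹ * (h * (g * x * g⁻¹)) * g := by group
      _ = _ := by rw [h1]; group
  · intro h1
    calc h * (g * x * g⁻¹) = g * (g⁻¹ * h * g * x) * g⁻¹ := by group
      _ = _ := by rw [h1]; group

theorem self_mem_cent (x : G) : x ∈ centralizer ({x} : Set G) :=
  mem_centralizer_singleton_iff.mpr rfl

variable (hord : ∀ x : G, x ≠ 1 → (orderOf x).Prime)
  (horb : ∀ x y : G, orderOf x = orderOf y → ∃ α : MulAut G, α x = y)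

include hord in
theorem orderOf_eq_of_mem_cent {x y : G} (hx : x ≠ 1) (hy : y ≠ 1)
    (h : y ∈ centralizer ({x} : Set G)) : orderOf y = orderOf x := by
  by_contra hne
  have h5 := Commute.orderOf_mul_eq_mul_orderOf_of_coprime (mem_centralizer_singleton_iff.mp h)
    ((Nat.coprime_primes (hord y hy) (hord x hx)).mpr hne)
  have h6 := (hord x hx).one_lt
  have h7 := (hord y hy).one_lt
  by_cases h8 : y * x = 1
  · rw [h8, orderOf_one] at h5; nlinarith
  · exact Nat.not_prime_mul h7.ne' h6.ne' (h5 ▸ hord _ h8)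

include hord in
theorem isPGroup_cent {x : G} (hx : x ≠ 1) : IsPGroup (orderOf x) (centralizer ({x} : Set G)) :=
  isPGroup_of_forall_orderOf fun y hy => by
    by_cases h : y = 1
    · exact ⟨0, by simp [h]⟩
    · exact ⟨1, by rw [orderOf_eq_of_mem_cent hord hx h hy, pow_one]⟩

include horb in
theorem card_cent_eq {x y : G} (h : orderOf x = orderOf y) :
    Nat.card (centralizer ({x} : Set G)) = Nat.card (centralizer ({y} : Set G)) := by
  obtain ⟨α, rfl⟩ := horb x y h
  refine Nat.card_congr (Equiv.subtypeEquiv α.toEquiv fun g => ?_)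
  simp only [mem_centralizer_singleton_iff, MulEquiv.toEquiv_eq_coe, EquivLike.coe_coe, ← map_mul,
    EmbeddingLike.apply_eq_iff_eq]

include hord horb in
theorem exists_sylow_cent {p : ℕ} [Fact p.Prime] {x : G} (hx : orderOf x = p) :
    ∃ P : Sylow p G, centralizer ({x} : Set G) = P := by
  have hx1 : x ≠ 1 := by rintro rfl; exact (Fact.out : p.Prime).one_lt.ne (by simpa using hx)
  obtain ⟨P, hP⟩ := (hx ▸ isPGroup_cent hord hx1).exists_le_sylow
  have := P.isPGroup'.isNilpotent
  have : Nontrivial (P : Subgroup G) := ⟨⟨x, hP (self_mem_cent x)⟩, 1, by simpa using hx1⟩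
  obtain ⟨z, -, hz1, hz⟩ :=
    PGrp.exists_ne_one_mem_center_of_normal (⊤ : Subgroup (P : Subgroup G)) top_ne_bot
  have h1 := orderOf_eq_of_mem_cent hord (x := z) (by simpa using hz1) hx1
    (mem_centralizer_singleton_iff.mpr
      (congrArg Subtype.val (mem_center_iff.mp hz ⟨x, hP (self_mem_cent x)⟩)))
  refine ⟨P, eq_of_le_of_card_ge hP ?_⟩
  rw [card_cent_eq horb h1]
  exact card_le_of_le fun y hy => mem_centralizer_singleton_iff.mpr
    (congrArg Subtype.val (mem_center_iff.mp hz ⟨y, hy⟩))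

include hord horb in
theorem cent_eq_of_le {x y : G} (hx : x ≠ 1) (hy : y ≠ 1)
    (h : centralizer ({x} : Set G) ≤ centralizer ({y} : Set G)) :
    centralizer ({y} : Set G) = centralizer ({x} : Set G) :=
  (eq_of_le_of_card_ge h (card_cent_eq horb
    (orderOf_eq_of_mem_cent hord hy hx (h (self_mem_cent x))).symm).le).symm

include hord horb in
theorem ncard_order {z : G} (hz : z ≠ 1) : {x : G | orderOf x = orderOf z}.ncard =
    (normalizer ((centralizer ({z} : Set G) : Subgroup G) : Set G)).index *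
      {y : G | y ≠ 1 ∧ centralizer ({y} : Set G) = centralizer ({z} : Set G)}.ncard := by
  rw [← ncard_conj_of_TI_top]
  · congr 1
    ext x
    simp only [Set.mem_setOf_eq]
    constructor
    · intro hx
      have := Fact.mk (hord z hz)
      obtain ⟨P, hP⟩ := exists_sylow_cent hord horb (x := z) rfl
      obtain ⟨Q, hQ⟩ := exists_sylow_cent hord horb hx
      obtain ⟨g, rfl⟩ := MulAction.exists_smul_eq G P Q
      refine ⟨g, g⁻¹ * x * g, ⟨fun h => hz ?_, ?_⟩, by group⟩
      · rw [← orderOf_eq_one_iff, ← hx, ← orderOf_conj'' g x, h, orderOf_one]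
      · ext h
        have := mem_cent_conj g⁻¹ x h
        rw [inv_inv] at this
        rw [this, hQ, hP, Sylow.coe_subgroup_smul, chr_mem_conj_smul_iff]
        simp [mul_assoc]
    · rintro ⟨g, y, ⟨hy1, hy⟩, rfl⟩
      rw [orderOf_conj', orderOf_eq_of_mem_cent hord hz hy1 (hy ▸ self_mem_cent y)]
  · rintro m hm y ⟨hy1, hy⟩
    refine ⟨fun h => hy1 (by simpa using h), ?_⟩
    ext h
    rw [mem_cent_conj, hy]
    exact (mem_normalizer_iff''.mp hm h).symm
  · rintro m y ⟨hy1, hy⟩ ⟨-, h⟩
    refine mem_normalizer_iff''.mpr fun h' => ?_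
    rw [← h, mem_cent_conj, h, hy]

include hord horb in
theorem ncard_order_comm {z : G} (hz : z ≠ 1) (hc : IsMulCommutative (centralizer ({z} : Set G))) :
    {x : G | orderOf x = orderOf z}.ncard =
      (normalizer ((centralizer ({z} : Set G) : Subgroup G) : Set G)).index *
        (Nat.card (centralizer ({z} : Set G)) - 1) := by
  rw [ncard_order hord horb hz, ← card_bot (G := G), ← ncard_diff_subgroup bot_le]
  congr 2
  ext y
  simp only [Set.mem_setOf_eq, Set.mem_diff, SetLike.mem_coe, mem_bot]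
  exact ⟨fun h => ⟨h.2 ▸ self_mem_cent y, h.1⟩, fun h => ⟨h.2, cent_eq_of_le hord horb hz h.2
    fun g hg => mem_centralizer_singleton_iff.mpr
      (PGrp.isMulCommutative_iff_forall.mp hc g hg y h.1)⟩⟩

variable (hns : ¬ Group.IsSolvable G) (h3 : (Nat.card G).primeFactors.card ≤ 3)

include hns h3 in
theorem not_normal (N : Subgroup G) [N.Normal] {p q : ℕ} (hp : p.Prime) (hq : q.Prime)
    (hpG : p ∣ Nat.card G) (hqG : q ∣ Nat.card G) (h1 : ¬ p ∣ Nat.card N) (h2 : ¬ q ∣ N.index) :
    False := by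
  have key : ∀ {r n : ℕ}, r.Prime → r ∣ Nat.card G → n ∣ Nat.card G → ¬ r ∣ n →
      n.primeFactors.card ≤ 2 := fun {r n} hr hrG hn hrn => by
    have := Finset.card_lt_card (Finset.ssubset_iff_subset_ne.mpr
      ⟨Nat.primeFactors_mono hn Nat.card_pos.ne', fun h => hrn (Nat.dvd_of_mem_primeFactors
        (h ▸ Nat.mem_primeFactors.mpr ⟨hr, hrG, Nat.card_pos.ne'⟩))⟩)
    omega
  exact hns (isSolvable_of_normal_of_quotient N
    (isSolvable_of_card_primeFactors_le_two (key hp hpG N.card_subgroup_dvd_card h1))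
    (isSolvable_of_card_primeFactors_le_two (key hq hqG N.index_dvd_card h2)))

include hns in
theorem exists_prime_ne (p : ℕ) (hp : p.Prime) : ∃ q : ℕ, q.Prime ∧ q ∣ Nat.card G ∧ q ≠ p := by
  by_contra h
  push Not at h
  exact hns (isSolvable_of_two_primes hp hp fun r hr hd => Or.inl (h r hr hd))

include hord horb hns h3 in
theorem cent_lt_normalizer {z : G} (hz : z ≠ 1)
    (hc : IsMulCommutative (centralizer ({z} : Set G))) :
    centralizer ({z} : Set G) <
      normalizer ((centralizer ({z} : Set G) : Subgroup G) : Set G) := by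
  have hp := hord z hz
  have := Fact.mk hp
  obtain ⟨P, hP⟩ := exists_sylow_cent hord horb (x := z) rfl
  refine lt_of_le_of_ne le_normalizer fun h => ?_
  rw [hP] at h hc
  obtain ⟨N, hN, h1, k, h2⟩ := PCompl.hnpc_exists_normal
    (PCompl.hnpc_of_normalizer_le_centralizer P (h ▸ le_centralizer _))
  obtain ⟨q, hq, hqG, hqp⟩ := exists_prime_ne hns _ hp
  refine not_normal hns h3 N hp hq (_root_.orderOf_dvd_natCard z) hqG
    (hp.coprime_iff_not_dvd.mp h1.symm) fun h => hqp ?_
  rw [h2] at h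
  exact (Nat.prime_dvd_prime_iff_eq hq hp).mp (hq.dvd_of_dvd_pow h)

include hord horb hns h3 in
theorem odd_bound (hodd : Odd (Nat.card G)) {z : G} (hz : z ≠ 1) :
    3 * {x : G | orderOf x = orderOf z}.ncard + 2 ≤ Nat.card G := by
  set P := centralizer ({z} : Set G) with hP
  have hi : ∀ {H K : Subgroup G}, H < K → 3 ≤ H.relIndex K := fun {H K} h => by
    have h1 : H.relIndex K ≠ 1 := fun h1 => h.not_ge (relIndex_eq_one.mp h1)
    have h2 := hodd.of_dvd_nat ((relIndex_dvd_card H K).trans K.card_subgroup_dvd_card)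
    obtain ⟨k, hk⟩ := h2
    omega
  have h2 : 2 ≤ P.index := by
    have : P ≠ ⊤ := fun h => by
      have := Fact.mk (hord z hz)
      exact hns (isSolvable_top_iff.mp (h ▸ isSolvable_of_isPGroup (isPGroup_cent hord hz)))
    have h1 := index_eq_one.not.mpr this
    have h2 := P.index_ne_zero_of_finite
    omega
  have h4 := P.card_mul_index
  have h5 := relIndex_mul_index (le_normalizer (H := P))
  have hPpos : 0 < Nat.card P := Nat.card_pos
  by_cases hc : IsMulCommutative P
  · rw [ncard_order_comm hord horb hz hc, ← hP]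
    have := hi (cent_lt_normalizer hord horb hns h3 hz hc)
    obtain ⟨m, hm⟩ := Nat.exists_eq_add_of_le' hPpos
    rw [← hP] at this
    rw [hm] at h4 ⊢
    rw [Nat.add_sub_cancel]
    nlinarith [Nat.mul_le_mul_right (m * (normalizer (P : Set G)).index) this]
  · rw [ncard_order hord horb hz, ← hP]
    have h6 : P ⊓ centralizer (P : Set G) < P := lt_of_le_of_ne inf_le_left fun h =>
      hc (le_centralizer_iff_isMulCommutative.mp (h.ge.trans inf_le_right))
    have h7 := hi h6
    have h8 := card_mul_relIndex h6.le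
    have h9 : {y : G | y ≠ 1 ∧ centralizer ({y} : Set G) = P}.ncard ≤
        Nat.card (P ⊓ centralizer (P : Set G) : Subgroup G) - 1 := by
      rw [← card_bot (G := G), ← ncard_diff_subgroup bot_le]
      refine Set.ncard_le_ncard fun y hy => ⟨⟨hy.2 ▸ self_mem_cent y, fun g hg => ?_⟩, hy.1⟩
      exact mem_centralizer_singleton_iff.mp (hy.2 ▸ hg : g ∈ centralizer {y})
    have h10 : 0 < Nat.card (P ⊓ centralizer (P : Set G) : Subgroup G) := Nat.card_pos
    have h11 : (normalizer (P : Set G)).index ≤ P.index := index_antitone le_normalizer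
    have h12 := Nat.mul_le_mul h11 h9
    obtain ⟨m, hm⟩ := Nat.exists_eq_add_of_le' h10
    rw [hm] at h8 h12
    rw [Nat.add_sub_cancel] at h12
    nlinarith [Nat.mul_le_mul_right ((m + 1) * P.index) h7]

omit [Group G] in
theorem double_count_le (A B : Set G) (r : G → G → Prop) (m n : ℕ)
    (hm : ∀ a ∈ A, m ≤ {b | b ∈ B ∧ r a b}.ncard) (hn : ∀ b ∈ B, {a | a ∈ A ∧ r a b}.ncard ≤ n) :
    A.ncard * m ≤ B.ncard * n := by
  classical
  have := Fintype.ofFinite G
  rw [Set.ncard_eq_toFinset_card', Set.ncard_eq_toFinset_card']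
  refine Finset.card_mul_le_card_mul r (fun a ha => ?_) (fun b hb => ?_)
  · refine (hm a (by simpa using ha)).trans (le_of_eq ?_)
    rw [← Set.ncard_coe_finset]; congr 1; ext; simp
  · refine le_trans (le_of_eq ?_) (hn b (by simpa using hb))
    rw [← Set.ncard_coe_finset]; congr 1; ext; simp

include hord in
theorem sq_eq_one_of_mem_cent {u x : G} (hu : orderOf u = 2)
    (hx : x ∈ centralizer ({u} : Set G)) : x ^ 2 = 1 := by
  by_cases h : x = 1
  · simp [h]
  · rw [← hu, ← orderOf_eq_of_mem_cent hord (by rintro rfl; simp at hu) h hx, pow_orderOf_eq_one]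

omit [Finite G] in
theorem comm_of_sq {s t : G} (hs : s ^ 2 = 1) (ht : t ^ 2 = 1) (h : (s * t) ^ 2 = 1) :
    s * t = t * s := by
  rw [← inv_eq_self_of_sq h, mul_inv_rev, inv_eq_self_of_sq hs, inv_eq_self_of_sq ht]

include hord in
theorem comm_cent {u : G} (hu : orderOf u = 2) : IsMulCommutative (centralizer ({u} : Set G)) :=
  PGrp.isMulCommutative_iff_forall.mpr fun a ha b hb =>
    comm_of_sq (sq_eq_one_of_mem_cent hord hu ha) (sq_eq_one_of_mem_cent hord hu hb)
      (sq_eq_one_of_mem_cent hord hu (mul_mem ha hb))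

include hord in
theorem mem_cent_of_conj_mem {u t : G} (hu : orderOf u = 2) (ht : t ^ 2 = 1)
    (h : t * u * t⁻¹ ∈ centralizer ({u} : Set G)) : t ∈ centralizer ({u} : Set G) := by
  have hu2 : u ^ 2 = 1 := hu ▸ pow_orderOf_eq_one u
  refine mem_centralizer_singleton_iff.mpr (comm_of_sq ht hu2 ?_)
  have h1 := sq_eq_one_of_mem_cent hord hu (mul_mem h (self_mem_cent u))
  rw [inv_eq_self_of_sq ht, mul_assoc, ← sq, ← pow_mul] at h1
  by_cases h2 : t * u = 1
  · simp [h2]
  · have h3 := hord _ h2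
    rw [← orderOf_dvd_iff_pow_eq_one] at h1 ⊢
    exact (h3.dvd_mul.mp h1).elim id id

include hord horb in
theorem cent_eq_of_mem {u v : G} (hu : orderOf u = 2) (hv : v ∈ centralizer ({u} : Set G))
    (hv1 : v ≠ 1) : centralizer ({v} : Set G) = centralizer ({u} : Set G) :=
  cent_eq_of_le hord horb (by rintro rfl; simp at hu) hv1 fun g hg =>
    mem_centralizer_singleton_iff.mpr
      (PGrp.isMulCommutative_iff_forall.mp (comm_cent hord hu) g hg v hv)

include hord horb hns h3 in
theorem isConj_involutions {u v : G} (hu : orderOf u = 2) (hv : orderOf v = 2) : IsConj u v := by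
  have key : ∀ {a b : G}, orderOf a = 2 → orderOf b = 2 → b ∉ centralizer {a} → IsConj a b := by
    intro a b ha hb h
    have ha2 : a ^ 2 = 1 := ha ▸ pow_orderOf_eq_one a
    have hb2 : b ^ 2 = 1 := hb ▸ pow_orderOf_eq_one b
    have h1 : (b * a) ^ 2 ≠ 1 := fun h1 =>
      h (mem_centralizer_singleton_iff.mpr (comm_of_sq hb2 ha2 h1))
    obtain ⟨y, -, hy⟩ := exists_conj_of_odd hb2 ha2 ((Nat.coprime_primes
      (hord _ fun h => h1 (by simp [h])) Nat.prime_two).mpr
        fun h => h1 (h ▸ pow_orderOf_eq_one _))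
    exact isConj_iff.mpr ⟨y, hy⟩
  by_cases h : v ∈ centralizer {u}
  swap
  · exact key hu hv h
  obtain ⟨t, ht, ht'⟩ : ∃ t, orderOf t = 2 ∧ t ∉ centralizer {u} := by
    by_contra hc
    push Not at hc
    have : (centralizer ({u} : Set G)).Normal := ⟨fun n hn g => by
      by_cases h1 : n = 1
      · simp [h1]
      · exact hc _ (by rw [orderOf_conj', orderOf_eq_prime (sq_eq_one_of_mem_cent hord hu hn) h1])⟩
    obtain ⟨q, hq, hqG, hq2⟩ := exists_prime_ne hns 2 Nat.prime_two
    obtain ⟨P, hP⟩ := exists_sylow_cent hord horb hu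
    obtain ⟨k, hk⟩ := P.isPGroup'.exists_card_eq
    refine not_normal hns h3 (centralizer {u}) hq Nat.prime_two hqG
      (hu ▸ _root_.orderOf_dvd_natCard u) (fun h => hq2 ?_) (hP ▸ P.not_dvd_index)
    rw [hP, hk] at h
    exact (Nat.prime_dvd_prime_iff_eq hq Nat.prime_two).mp (hq.dvd_of_dvd_pow h)
  exact (key hu ht ht').trans (key hv ht
    (by rwa [cent_eq_of_mem hord horb hu h (by rintro rfl; simp at hv)])).symm

include hord in
theorem inverts_cent {v x : G} (hv : orderOf v = 2) (hx1 : x ≠ 1) (hx : orderOf x ≠ 2)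
    (h : v * x * v⁻¹ = x⁻¹) {y : G} (hy : y ∈ centralizer ({x} : Set G)) :
    v * y * v⁻¹ = y⁻¹ :=
  inverts_of_fixedPointFree (hv ▸ pow_orderOf_eq_one v) (mem_normalizer_centralizer_of_inverts h)
    (fun y hy h => by
      by_contra hy1
      exact hx ((orderOf_eq_of_mem_cent hord hx1 hy1 hy).symm.trans
        ((orderOf_eq_of_mem_cent hord (by rintro rfl; simp at hv) hy1
          (mem_centralizer_singleton_iff.mpr h.symm)).trans hv))) hy

include hord in
theorem comm_cent_of_inverts {v x : G} (hv : orderOf v = 2) (hx1 : x ≠ 1) (hx : orderOf x ≠ 2)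
    (h : v * x * v⁻¹ = x⁻¹) : IsMulCommutative (centralizer ({x} : Set G)) :=
  PGrp.isMulCommutative_iff_forall.mpr fun a ha b hb => by
    have h3 := inverts_cent hord hv hx1 hx h (mul_mem ha hb)
    rw [show v * (a * b) * v⁻¹ = (v * a * v⁻¹) * (v * b * v⁻¹) by group,
      inverts_cent hord hv hx1 hx h ha, inverts_cent hord hv hx1 hx h hb, ← mul_inv_rev,
      inv_inj] at h3
    exact h3.symm

include hord in
theorem ncard_inverting {v x : G} (hv : orderOf v = 2) (hx1 : x ≠ 1) (hx : orderOf x ≠ 2)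
    (h : v * x * v⁻¹ = x⁻¹) : {w | orderOf w = 2 ∧ w * x * w⁻¹ = x⁻¹}.ncard =
      Nat.card (centralizer ({x} : Set G)) := by
  rw [← SetLike.coe_sort_coe, Nat.card_coe_set_eq, ← Set.ncard_image_of_injective
    ((centralizer ({x} : Set G) : Subgroup G) : Set G) (mul_right_injective v)]
  congr 1
  ext w
  constructor
  · rintro ⟨-, hw⟩
    refine ⟨v⁻¹ * w, mem_centralizer_singleton_iff.mpr ?_, by simp⟩
    calc v⁻¹ * w * x = v⁻¹ * (w * x * w⁻¹) * w := by group
      _ = _ := by rw [hw, ← h]; group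
  · rintro ⟨y, hy, rfl⟩
    have h1 : v * y * x * (v * y)⁻¹ = x⁻¹ := by
      rw [mul_assoc v y, mem_centralizer_singleton_iff.mp hy, ← h]; group
    refine ⟨orderOf_eq_prime ?_ fun h2 => hx (orderOf_eq_prime ?_ hx1), h1⟩
    · have := inverts_cent hord hv hx1 hx h hy
      rw [inv_eq_self_of_sq (hv ▸ pow_orderOf_eq_one v)] at this
      rw [sq, ← mul_assoc, this, inv_mul_cancel]
    · simp only at h2
      rw [h2] at h1
      rw [sq, mul_eq_one_iff_eq_inv]
      simpa using h1

include hord horb in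
theorem card_normalizer_of_inverts {v x : G} (hv : orderOf v = 2) (hx1 : x ≠ 1)
    (hx : orderOf x ≠ 2) (h : v * x * v⁻¹ = x⁻¹) :
    (centralizer ({x} : Set G)).relIndex
      (normalizer ((centralizer ({x} : Set G) : Subgroup G) : Set G)) = 2 := by
  set P := centralizer ({x} : Set G) with hP
  have hvN : v ∈ normalizer (P : Set G) := mem_normalizer_centralizer_of_inverts h
  have hx2 : x ^ 2 ≠ 1 := fun h => hx (orderOf_eq_prime h hx1)
  have hvP : v ∉ P := fun h1 => hx2 (sq_eq_one_of_inverts_of_centralizes h h1)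
  have hv2 : v ^ 2 = 1 := hv ▸ pow_orderOf_eq_one v
  refine relIndex_eq_two_iff_exists_notMem_and'.mpr ⟨v, hvN, hvP, fun g hg => ?_⟩
  by_contra hc
  push Not at hc
  let φ := P.normalizerMonoidHom
  have hker : ∀ g : normalizer (P : Set G), φ g = 1 → (g : G) ∈ P := fun g hg =>
    mem_centralizer_singleton_iff.mpr (mul_inv_eq_iff_eq_mul.mp
      (congrArg (fun α : MulAut P => (α ⟨x, self_mem_cent x⟩ : G)) hg))
  have hφv : ∀ y : P, φ ⟨v, hvN⟩ y = y⁻¹ := fun y =>
    Subtype.ext (inverts_cent hord hv hx1 hx h y.2)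
  have hcomm : Commute (φ ⟨v, hvN⟩) (φ ⟨g, hg⟩) := by
    ext y
    simp only [MulAut.mul_apply, hφv, map_inv]
  have ho : ∀ g : normalizer (P : Set G), (g : G) ∉ P → orderOf (φ g) = orderOf (g : G) :=
    fun g hg => ((Nat.dvd_prime (hord g fun h => hg (h ▸ one_mem _))).mp
      ((orderOf_map_dvd φ g).trans (Subgroup.orderOf_coe g).symm.dvd)).resolve_left
        fun h => hg (hker g (orderOf_eq_one_iff.mp h))
  have hg1 : g ≠ 1 := fun h => hc.2 (h ▸ one_mem _)
  by_cases hg2 : orderOf g = 2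
  · have h1 : g * x * g⁻¹ = x⁻¹ := inverts_of_fixedPointFree (hg2 ▸ pow_orderOf_eq_one g) hg
      (fun y hy h => by
        by_contra hy1
        exact hx ((orderOf_eq_of_mem_cent hord hx1 hy1 hy).symm.trans
          ((orderOf_eq_of_mem_cent hord hg1 hy1
            (mem_centralizer_singleton_iff.mpr h.symm)).trans hg2))) (self_mem_cent x)
    refine hc.1 (mem_centralizer_singleton_iff.mpr ?_)
    calc v * g * x = v * (g * x * g⁻¹) * g := by group
      _ = (v * x * v⁻¹)⁻¹ * (v * g) := by rw [h1]; group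
      _ = _ := by rw [h, inv_inv]
  · have h1 := hcomm.orderOf_mul_eq_mul_orderOf_of_coprime (by
      rw [ho _ hvP, ho _ hc.2, hv]
      exact (Nat.coprime_primes Nat.prime_two (hord g hg1)).mpr (Ne.symm hg2))
    rw [← map_mul, ho _ hc.1, ho _ hvP, ho _ hc.2] at h1
    exact Nat.not_prime_mul (by simp [hv]) (hord g hg1).one_lt.ne'
      (h1 ▸ hord (v * g) fun h => hc.1 (h ▸ one_mem _))

include hord horb hns h3 in
theorem ncard_involutions {u : G} (hu : orderOf u = 2) :
    {x : G | orderOf x = 2}.ncard * Nat.card (centralizer ({u} : Set G)) = Nat.card G := by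
  rw [← index_mul_card (centralizer ({u} : Set G)), ClassCount.index_centralizer_eq_ncard]
  congr 2
  ext x
  refine ⟨fun h => isConj_involutions hord horb hns h3 hu h, fun h => ?_⟩
  obtain ⟨g, rfl⟩ := isConj_iff.mp h
  exact (orderOf_conj' g u).trans hu

include hord horb hns h3 in
theorem ncard_inverted {u x : G} (hu : orderOf u = 2) (hx1 : x ≠ 1) (hx : orderOf x ≠ 2) :
    {y | orderOf y = orderOf x ∧ u * y * u⁻¹ = y⁻¹}.ncard = 0 ∨
      2 * {y | orderOf y = orderOf x ∧ u * y * u⁻¹ = y⁻¹}.ncard +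
        Nat.card (centralizer ({u} : Set G)) =
        Nat.card (centralizer ({u} : Set G)) * Nat.card (centralizer ({x} : Set G)) := by
  by_cases h0 : {y | orderOf y = orderOf x ∧ u * y * u⁻¹ = y⁻¹} = ∅
  · left; rw [h0, Set.ncard_empty]
  right
  obtain ⟨y, hy, hyu⟩ := Set.nonempty_iff_ne_empty.mpr h0
  have hy1 : y ≠ 1 := by rintro rfl; exact hx1 (orderOf_eq_one_iff.mp (by simpa using hy.symm))
  rw [card_cent_eq horb hy.symm, ← hy]
  rw [← hy] at hx
  have hm : ∀ a ∈ {x : G | orderOf x = 2}, {b | b ∈ {z : G | orderOf z = orderOf y} ∧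
      a * b * a⁻¹ = b⁻¹}.ncard = {z | orderOf z = orderOf y ∧ u * z * u⁻¹ = z⁻¹}.ncard := by
    intro a ha
    obtain ⟨α, rfl⟩ := horb a u (ha.trans hu.symm)
    rw [← Set.ncard_image_of_injective _ α.injective]
    congr 1
    ext b
    obtain ⟨b, rfl⟩ := α.surjective b
    simp only [α.injective.mem_set_image, Set.mem_setOf_eq, MulEquiv.orderOf_eq, ← map_inv,
      ← map_mul, EmbeddingLike.apply_eq_iff_eq]
  have hn : ∀ b ∈ {z : G | orderOf z = orderOf y}, {a | a ∈ {x : G | orderOf x = 2} ∧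
      a * b * a⁻¹ = b⁻¹}.ncard = Nat.card (centralizer ({y} : Set G)) := by
    intro b hb
    obtain ⟨α, rfl⟩ := horb y b hb.symm
    rw [card_cent_eq horb hb.symm]
    exact ncard_inverting hord (v := α u) ((α.orderOf_eq u).trans hu) (by simpa using hy1)
      (by rwa [α.orderOf_eq]) (by rw [← map_inv, ← map_mul, ← map_mul, hyu, map_inv])
  have h1 := (double_count_le _ _ (fun a b => a * b * a⁻¹ = b⁻¹) _ _ (fun a ha => (hm a ha).ge)
    (fun b hb => (hn b hb).le)).antisymm (double_count_le _ _ (fun b a => a * b * a⁻¹ = b⁻¹) _ _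
      (fun b hb => (hn b hb).ge) (fun a ha => (hm a ha).le))
  have h2 := ncard_order_comm hord horb hy1 (comm_cent_of_inverts hord hu hy1 hx hyu)
  have h4 := ncard_involutions hord horb hns h3 hu
  have h5 := relIndex_mul_index (le_normalizer (H := centralizer ({y} : Set G)))
  rw [card_normalizer_of_inverts hord horb hu hy1 hx hyu] at h5
  have h6 := (centralizer ({y} : Set G)).index_mul_card
  obtain ⟨m, hm⟩ := Nat.exists_eq_add_of_le' (Nat.card_pos (α := centralizer ({y} : Set G)))
  rw [h2, hm, Nat.add_sub_cancel] at h1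
  rw [hm, ← h5, ← h4] at h6
  rw [hm]
  have hI : 0 < {x : G | orderOf x = 2}.ncard := Nat.pos_of_mul_pos_right (h4 ▸ Nat.card_pos)
  refine Nat.eq_of_mul_eq_mul_left hI ?_
  linear_combination 2 * h1 + m * h6

include hord horb in
theorem three_bound {u : G} (hu : orderOf u = 2) :
    {y | orderOf y = 3 ∧ u * y * u⁻¹ = y⁻¹}.ncard * (Nat.card (centralizer ({u} : Set G)) - 1) ≤
      {x : G | orderOf x = 2}.ncard := by
  have hu2 : u ^ 2 = 1 := hu ▸ pow_orderOf_eq_one u
  have huu := mul_self_eq_one_of_sq hu2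
  have hi : ∀ y, orderOf y = 3 → u * y * u⁻¹ = y⁻¹ → orderOf (u * y) = 2 ∧
      u * y * u * (u * y)⁻¹ = u * (u * y) * u⁻¹ ∧ u * y ∉ centralizer {u} := fun y hy h => by
    have h1 : u * y ∉ centralizer {u} := fun h1 => by
      have := orderOf_dvd_of_pow_eq_one (sq_eq_one_of_mem_cent hord hu
        ((mul_mem_cancel_left (self_mem_cent u)).mp h1))
      rw [hy] at this
      omega
    rw [inv_eq_self_of_sq hu2] at h
    refine ⟨orderOf_eq_prime (by rw [sq, ← mul_assoc, h, inv_mul_cancel])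
      fun h => h1 (h ▸ one_mem _), ?_, h1⟩
    have h3 : y⁻¹ * y⁻¹ = y := by
      rw [← mul_inv_rev, inv_eq_iff_mul_eq_one, ← pow_three', ← hy, pow_orderOf_eq_one]
    rw [h, mul_inv_rev, ← mul_assoc, h3, ← mul_assoc u u, huu, one_mul]
  rw [← mul_one {x : G | orderOf x = 2}.ncard]
  refine double_count_le _ _ (fun a b => b ∈ centralizer {u * a}) _ _ ?_ ?_
  · rintro a ⟨ha, hua⟩
    have h1 := (hi a ha hua).1
    rw [card_cent_eq horb (hu.trans h1.symm), ← card_bot (G := G), ← ncard_diff_subgroup bot_le]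
    exact Set.ncard_le_ncard fun y hy =>
      ⟨orderOf_eq_prime (sq_eq_one_of_mem_cent hord h1 hy.1) hy.2, hy.1⟩
  · intro b hb
    have hb1 : b ≠ 1 := by rintro rfl; simp at hb
    rw [Set.ncard_le_one_iff]
    rintro a a' ⟨⟨ha, hua⟩, h⟩ ⟨⟨ha', hua'⟩, h'⟩
    obtain ⟨h1, h2, h4⟩ := hi a ha hua
    obtain ⟨h1', h2', -⟩ := hi a' ha' hua'
    generalize hv : u * a = v at *
    generalize hv' : u * a' = v' at *
    have h5 := cent_eq_of_mem hord horb h1 h hb1
    have h6 : v' ∈ centralizer {v} := by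
      rw [← h5, cent_eq_of_mem hord horb h1' h' hb1]; exact self_mem_cent _
    have h7 := mul_mem (inv_mem h6) (self_mem_cent v)
    have h8 := mem_cent_of_conj_mem hord hu (sq_eq_one_of_mem_cent hord h1 h7) (by
      have : v'⁻¹ * v * u * (v'⁻¹ * v)⁻¹ = v'⁻¹ * (v * u * v⁻¹) * v' := by group
      rw [this, ← mem_cent_conj, h2, h2', mem_cent_conj, mem_centralizer_singleton_iff]
      simpa [mul_assoc] using (mem_centralizer_singleton_iff.mp h6).symm)
    by_contra hne
    have h9 : v'⁻¹ * v ≠ 1 := fun h => hne (by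
      rw [inv_mul_eq_one, ← hv, ← hv'] at h
      exact (mul_left_cancel h).symm)
    exact h4 (cent_eq_of_mem hord horb hu h8 h9 ▸ cent_eq_of_mem hord horb h1 h7 h9 ▸
      self_mem_cent v)

include hord horb hns h3 in
theorem card_normalizer_two {u : G} (hu : orderOf u = 2) :
    (centralizer ({u} : Set G)).relIndex
      (normalizer ((centralizer ({u} : Set G) : Subgroup G) : Set G)) + 1 =
      Nat.card (centralizer ({u} : Set G)) ∧ (Nat.card (centralizer ({u} : Set G)) - 1).Prime := by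
  have hu1 : u ≠ 1 := by rintro rfl; simp at hu
  have h1 := ncard_order_comm hord horb hu1 (comm_cent hord hu)
  have h2 := ncard_involutions hord horb hns h3 hu
  have hlt := cent_lt_normalizer hord horb hns h3 hu1 (comm_cent hord hu)
  have hC := fun v hv hv1 => cent_eq_of_mem hord horb hu (v := v) hv hv1
  obtain ⟨P, hP⟩ := exists_sylow_cent hord horb hu
  set S := centralizer ({u} : Set G) with hS
  have h4 := relIndex_mul_index (le_normalizer (H := S))
  have h5 := S.index_mul_card
  rw [hu] at h1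
  rw [← h2, h1, ← h4, mul_comm (S.relIndex _)] at h5
  have h6 := Nat.eq_of_mul_eq_mul_left (Nat.pos_of_ne_zero index_ne_zero_of_finite)
    (Nat.eq_of_mul_eq_mul_right Nat.card_pos h5)
  have h7 : 0 < Nat.card S := Nat.card_pos
  refine ⟨by omega, ?_⟩
  have h8 : ¬ 2 ∣ S.relIndex (normalizer (S : Set G)) := fun h =>
    P.not_dvd_index (hP ▸ h4 ▸ h.mul_right _)
  obtain ⟨k, hk⟩ := P.isPGroup'.exists_card_eq
  obtain ⟨B, hB, h9, -, h10⟩ := Cop.exists_complement_of_le_normalizer (N := S) le_rfl (by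
    rw [inf_of_le_left le_normalizer]
    exact (hP ▸ hk : Nat.card S = 2 ^ k) ▸
      ((Nat.Prime.coprime_iff_not_dvd Nat.prime_two).mpr h8).pow_left k)
  have : Nontrivial B := Finite.one_lt_card_iff_nontrivial.mp (by
    have := relIndex_eq_one.not.mpr hlt.not_ge
    have : 0 < Nat.card B := Nat.card_pos
    omega)
  rw [← h6, ← h10]
  refine card_prime_of_hasFPF (Frob.hasFPF_of_fpf hB (bot_lt_iff_ne_bot.mp
    (lt_of_lt_of_le (bot_lt_iff_ne_bot.mpr (zpowers_ne_bot.mpr hu1))
      (zpowers_le.mpr (self_mem_cent u)))) fun h hh h1 k hk hc => ?_)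
    (h10 ▸ Nat.odd_iff.mpr (by omega)) fun x hx => ?_
  · by_contra hk1
    exact h1 (mem_bot.mp (h9 ▸ mem_inf.mpr
      ⟨hC k hk hk1 ▸ mem_centralizer_singleton_iff.mpr hc, hh⟩))
  · rw [← Subgroup.orderOf_coe]
    exact hord _ (by simpa using hx)

end

theorem ncard_split {G : Type*} [Group G] [Finite G] (A : Set G) (t : Finset ℕ)
    (h : ∀ x ∈ A, orderOf x ∈ t) : A.ncard = ∑ n ∈ t, {x | orderOf x = n ∧ x ∈ A}.ncard := by
  classical
  have := Fintype.ofFinite G
  rw [Set.ncard_eq_toFinset_card', Finset.card_eq_sum_card_fiberwise (f := orderOf) (t := t)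
    (fun x hx => h x (by simpa using hx))]
  refine Finset.sum_congr rfl fun n _ => ?_
  rw [← Set.ncard_coe_finset]; congr 1; ext; simp [and_comm]

theorem numeric {d Q R a b i : ℕ} (hd : 2 ≤ d) (hQ : Q = (2 * d - 1) ^ (i + 1)) (hR : 3 ≤ R)
    (h : Q * R + 1 = 2 * d + a + b) (ha : a = 0 ∨ 2 * a + 2 * d = 2 * d * Q)
    (hb : b = 0 ∨ 2 * b + 2 * d = 2 * d * R) :
    Q + 1 = 2 * d ∧ R = 2 * d + 1 ∧ b = 2 * d * d := by
  obtain ⟨e, rfl⟩ := Nat.exists_eq_add_of_le' hd
  rw [show 2 * (e + 2) - 1 = 2 * e + 3 by omega] at hQ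
  have h1 : Q = 2 * e + 3 ∨ (2 * e + 3) ^ 2 ≤ Q := by
    rcases i with _ | i
    · left; simpa using hQ
    · right; rw [hQ]; exact Nat.pow_le_pow_right (by omega) (by omega)
  have h2 : 2 * e + 3 ≤ Q := by rcases h1 with h1 | h1 <;> nlinarith
  rcases ha with rfl | ha <;> rcases hb with rfl | hb
  · nlinarith
  · nlinarith
  · by_cases h3 : R ≤ e + 2 <;> nlinarith
  · have h4 : Q * R + 1 = (e + 2) * (Q + R) := by nlinarith
    have h5 : e + 2 < R := by nlinarith
    rcases h1 with rfl | h1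
    · have : R = 2 * (e + 2) + 1 := by nlinarith
      subst this
      refine ⟨by omega, rfl, by nlinarith⟩
    · obtain ⟨R, rfl⟩ := Nat.exists_eq_add_of_le h5
      nlinarith


/-- A finite non-solvable group on which its automorphism group has exactly four orbits is isomorphic to the alternating group of degree 5. -/
theorem result {G : Type*} [Group G] [Finite G] (hns : ¬ Group.IsSolvable G)
    (h4 : Nat.card (MulAction.orbitRel.Quotient (MulAut G) G) = 4) : Nonempty (G ≃* alternatingGroup (Fin 5)) := by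
  classical
  have hc : ∀ p : ℕ, ∃ x : G, p ∈ (Nat.card G).primeFactors → orderOf x = p := fun p => by
    by_cases h : p ∈ (Nat.card G).primeFactors
    · have := Fact.mk (Nat.prime_of_mem_primeFactors h)
      obtain ⟨x, hx⟩ := exists_prime_orderOf_dvd_card' (G := G) p (Nat.dvd_of_mem_primeFactors h)
      exact ⟨x, fun _ => hx⟩
    · exact ⟨1, fun h' => absurd h' h⟩
  choose c hc using hc
  set T := insert 1 ((Nat.card G).primeFactors.image c) with hT
  have hTo : ∀ x ∈ T, x = 1 ∨ orderOf x ∈ (Nat.card G).primeFactors ∧ x = c (orderOf x) := by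
    simp only [hT, Finset.mem_insert, Finset.mem_image]
    rintro x (rfl | ⟨p, hp, rfl⟩)
    · exact Or.inl rfl
    · right; rw [hc p hp]; exact ⟨hp, rfl⟩
  have hinj : ∀ x ∈ T, ∀ y ∈ T, orderOf x = orderOf y → x = y := fun x hx y hy h => by
    rcases hTo x hx with rfl | h1
    · exact (orderOf_eq_one_iff.mp (by simpa using h.symm)).symm
    rcases hTo y hy with rfl | h2
    · exact orderOf_eq_one_iff.mp (by simpa using h)
    · rw [h1.2, h2.2, h]
  have hinj' : ∀ x ∈ T, ∀ y ∈ T, ∀ α : MulAut G, α • x = y → x = y :=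
    fun x hx y hy α h => hinj x hx y hy (by rw [← h]; exact (α.orderOf_eq x).symm)
  have hTc : T.card = (Nat.card G).primeFactors.card + 1 := by
    rw [hT, Finset.card_insert_of_notMem, Finset.card_image_of_injOn]
    · intro p hp q hq h
      rw [← hc p hp, h, hc q hq]
    · simp only [Finset.mem_image, not_exists, not_and]
      intro p hp h
      exact (Nat.prime_of_mem_primeFactors hp).one_lt.ne' (by rw [← hc p hp, h, orderOf_one])
  have h3 : (Nat.card G).primeFactors.card = 3 := by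
    have h1 := card_le_card_orbits T hinj'
    have h2 := mt isSolvable_of_card_primeFactors_le_two hns
    omega
  have hall := exists_smul_eq_of_card_orbits_le T hinj' (by omega)
  have hord' : ∀ x : G, x ≠ 1 → orderOf x ∈ (Nat.card G).primeFactors := fun x hx => by
    obtain ⟨y, hy, α, rfl⟩ := hall x
    rcases hTo y hy with rfl | h
    · exact absurd (map_one α) hx
    · exact (α.orderOf_eq y).symm ▸ h.1
  have hord : ∀ x : G, x ≠ 1 → (orderOf x).Prime := fun x hx =>
    Nat.prime_of_mem_primeFactors (hord' x hx)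
  have horb : ∀ x y : G, orderOf x = orderOf y → ∃ α : MulAut G, α x = y := fun x y h => by
    obtain ⟨x, hx, α, rfl⟩ := hall x
    obtain ⟨y, hy, β, rfl⟩ := hall y
    obtain rfl := hinj x hx y hy (((α.orderOf_eq x).symm.trans h).trans (β.orderOf_eq y))
    exact ⟨β * α⁻¹, by simp⟩
  have hc1 : ∀ p ∈ (Nat.card G).primeFactors, c p ≠ 1 := fun p hp h =>
    (Nat.prime_of_mem_primeFactors hp).one_lt.ne' (by rw [← hc p hp, h, orderOf_one])
  have hsplit : ∀ A : Set G, 1 ∈ A → A.ncard =
      1 + ∑ n ∈ (Nat.card G).primeFactors, {x | orderOf x = n ∧ x ∈ A}.ncard := fun A hA => by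
    rw [ncard_split A (insert 1 (Nat.card G).primeFactors) fun x _ => by
      by_cases h : x = 1
      · simp [h]
      · exact Finset.mem_insert_of_mem (hord' x h), Finset.sum_insert (by simp [Nat.not_prime_one])]
    congr 1
    rw [Set.ncard_eq_one]
    exact ⟨1, by ext; simp only [orderOf_eq_one_iff, Set.mem_setOf_eq, Set.mem_singleton_iff]
                 exact ⟨fun h => h.1, fun h => ⟨h, h ▸ hA⟩⟩⟩
  rcases Nat.even_or_odd (Nat.card G) with heven | hodd
  swap
  · exfalso
    have h1 := hsplit Set.univ trivial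
    have h2 := Finset.sum_le_card_nsmul (Nat.card G).primeFactors
      (fun n => 3 * {x : G | orderOf x = n ∧ x ∈ Set.univ}.ncard + 2) (Nat.card G) fun p hp => by
        have := odd_bound hord horb hns h3.le hodd (hc1 p hp)
        simpa [hc p hp] using this
    rw [Finset.sum_add_distrib, ← Finset.mul_sum, Finset.sum_const, h3] at h2
    rw [Set.ncard_univ] at h1
    simp only [smul_eq_mul] at h2
    omega
  have h2G : 2 ∈ (Nat.card G).primeFactors :=
    Nat.mem_primeFactors.mpr ⟨Nat.prime_two, heven.two_dvd, Nat.card_pos.ne'⟩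
  have hu := hc 2 h2G
  generalize c 2 = u at hu
  have hu1 : u ≠ 1 := by rintro rfl; simp at hu
  have hu2 : u ^ 2 = 1 := hu ▸ pow_orderOf_eq_one u
  obtain ⟨hN, hq⟩ := card_normalizer_two hord horb hns h3.le hu
  have hI := ncard_involutions hord horb hns h3.le hu
  have hcard : ∀ p ∈ (Nat.card G).primeFactors, ∀ x : G, orderOf x = p →
      Nat.card (centralizer ({x} : Set G)) = p ^ (Nat.card G).factorization p := fun p hp x hx => by
    have := Fact.mk (Nat.prime_of_mem_primeFactors hp)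
    obtain ⟨P, hP⟩ := exists_sylow_cent hord horb hx
    rw [hP, P.card_eq_multiplicity]
  have hpos : ∀ p ∈ (Nat.card G).primeFactors, ∃ k, (Nat.card G).factorization p = k + 1 :=
    fun p hp => Nat.exists_eq_add_one.mpr ((Nat.prime_of_mem_primeFactors hp).factorization_pos_of_dvd
      Nat.card_pos.ne' (Nat.dvd_of_mem_primeFactors hp))
  obtain ⟨a, ha⟩ := hpos 2 h2G
  have hs := hcard 2 h2G u hu
  rw [ha, pow_succ'] at hs
  have hd : 2 ≤ 2 ^ a := by
    have := hq.two_le
    omega
  have hd3 : ¬ 3 ∣ 2 ^ a := fun h => by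
    have := Nat.prime_three.dvd_of_dvd_pow h
    omega
  generalize 2 ^ a = d at hs hd hd3
  rw [hs] at hq
  have hqG : 2 * d - 1 ∈ (Nat.card G).primeFactors := Nat.mem_primeFactors.mpr ⟨hq, by
    rw [← hs, ← hN]
    exact (relIndex_dvd_card _ _).trans (card_subgroup_dvd_card _), Nat.card_pos.ne'⟩
  obtain ⟨r, hr⟩ := Finset.card_eq_one.mp (show
      (((Nat.card G).primeFactors.erase 2).erase (2 * d - 1)).card = 1 by
    rw [Finset.card_erase_of_mem (Finset.mem_erase.mpr ⟨by omega, hqG⟩),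
      Finset.card_erase_of_mem h2G, h3])
  obtain ⟨hrq, hr'⟩ := Finset.mem_erase.mp (hr ▸ Finset.mem_singleton_self r)
  obtain ⟨hr2, hrG⟩ := Finset.mem_erase.mp hr'
  have hrp := Nat.prime_of_mem_primeFactors hrG
  have hsum : ∀ {M : Type} [CommMonoid M] (f : ℕ → M), ∏ n ∈ (Nat.card G).primeFactors, f n =
      f 2 * (f (2 * d - 1) * f r) := fun f => by
    rw [← Finset.mul_prod_erase _ _ h2G, ← Finset.mul_prod_erase _ _
      (Finset.mem_erase.mpr ⟨(by omega : 2 * d - 1 ≠ 2), hqG⟩), hr, Finset.prod_singleton]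
  have hG : Nat.card G = Nat.card (centralizer ({u} : Set G)) *
      (Nat.card (centralizer ({c (2 * d - 1)} : Set G)) *
        Nat.card (centralizer ({c r} : Set G))) := by
    rw [hcard 2 h2G u hu, hcard _ hqG _ (hc _ hqG), hcard _ hrG _ (hc _ hrG),
      ← hsum fun p => p ^ (Nat.card G).factorization p]
    exact (Nat.prod_factorization_pow_eq_self Nat.card_pos.ne').symm
  have hJ := hsplit {y | u * y * u⁻¹ = y⁻¹} (by simp)
  have hsum' := hsum (M := Multiplicative ℕ) fun n => Multiplicative.ofAdd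
    {x | orderOf x = n ∧ x ∈ {y | u * y * u⁻¹ = y⁻¹}}.ncard
  rw [← ofAdd_sum, ← ofAdd_add, ← ofAdd_add, Multiplicative.ofAdd.apply_eq_iff_eq] at hsum'
  have hJ1 : {y | u * y * u⁻¹ = y⁻¹}.ncard = {x : G | orderOf x = 2}.ncard + 1 := by
    rw [← Set.ncard_insert_of_notMem (a := 1) (by simp),
      ← Set.ncard_image_of_injective _ (mul_right_injective u)]
    congr 1
    ext y
    obtain ⟨y, rfl⟩ := mul_left_surjective u y
    rw [(mul_right_injective u).mem_set_image, Set.mem_setOf_eq, inv_eq_self_of_sq hu2,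
      ← mul_eq_one_iff_eq_inv, mul_assoc, ← sq, Set.mem_insert_iff, Set.mem_setOf_eq,
      orderOf_eq_prime_iff]
    refine ⟨fun h => by tauto, ?_⟩
    rintro (h | h)
    · simp [h]
    · exact h.1
  have hJ2 : 1 + {x | orderOf x = 2 ∧ x ∈ {y | u * y * u⁻¹ = y⁻¹}}.ncard =
      Nat.card (centralizer ({u} : Set G)) := by
    rw [add_comm, ← Set.ncard_insert_of_notMem (a := 1) (by simp), ← SetLike.coe_sort_coe,
      Nat.card_coe_set_eq]
    congr 1
    ext y
    simp only [Set.mem_insert_iff, Set.mem_setOf_eq, SetLike.mem_coe]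
    constructor
    · rintro (rfl | ⟨h1, h2⟩)
      · exact one_mem _
      · rw [inv_eq_self_of_sq (s := y) (h1 ▸ pow_orderOf_eq_one y), mul_inv_eq_iff_eq_mul] at h2
        exact mem_centralizer_singleton_iff.mpr h2.symm
    · intro h
      have h1 := sq_eq_one_of_mem_cent hord hu h
      refine or_iff_not_imp_left.mpr fun h2 => ⟨orderOf_eq_prime h1 h2, ?_⟩
      rw [inv_eq_self_of_sq h1, ← mem_centralizer_singleton_iff.mp h]; simp
  have hIQR := Nat.eq_of_mul_eq_mul_right Nat.card_pos (hI.trans (hG.trans (mul_comm _ _)))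
  have hA := ncard_inverted hord horb hns h3.le hu (hc1 _ hqG) (by rw [hc _ hqG]; omega)
  have hB := ncard_inverted hord horb hns h3.le hu (hc1 _ hrG) (by rwa [hc _ hrG])
  obtain ⟨i, hi⟩ := hpos _ hqG
  obtain ⟨j, hj⟩ := hpos _ hrG
  have hQ := hcard _ hqG _ (hc _ hqG)
  have hR := hcard _ hrG _ (hc _ hrG)
  rw [hc _ hqG, hs] at hA
  rw [hc _ hrG, hs] at hB
  rw [hsum', ← add_assoc, hJ2, hJ1, hIQR, hs, ← add_assoc] at hJ
  obtain ⟨h5, h6, h7⟩ := numeric hd (hi ▸ hQ) (by
    have := hrp.two_le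
    rw [hR, hj]
    exact le_trans (by omega) (Nat.le_self_pow (by omega) r)) hJ hA hB
  have hr3 : r ≠ 3 := by
    rintro rfl
    have := three_bound hord horb hu
    simp only [Set.mem_setOf_eq] at h7
    rw [hIQR, h6, h7, hs, show Nat.card (centralizer ({c (2 * d - 1)} : Set G)) = 2 * d - 1 by
      omega, mul_comm] at this
    have := Nat.le_of_mul_le_mul_left this (by omega)
    nlinarith
  have hd2 : d = 2 := by
    have h8 : ¬ 3 ∣ 2 * d + 1 := fun h => hr3 ((Nat.prime_dvd_prime_iff_eq Nat.prime_three hrp).mp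
      (Nat.prime_three.dvd_of_dvd_pow (hR ▸ h6 ▸ h))).symm
    have h9 := (Nat.prime_dvd_prime_iff_eq Nat.prime_three hq).mp (by
      clear * - h8 hd3 hd
      have : d % 3 = 0 ∨ d % 3 = 1 ∨ d % 3 = 2 := by omega
      rcases this with h | h | h <;> omega)
    omega
  subst hd2
  rw [h6, show Nat.card (centralizer ({c (2 * 2 - 1)} : Set G)) = 3 by omega] at hIQR hG
  rw [hs] at hG
  set S := centralizer ({u} : Set G) with hS
  refine nonempty_equiv_alternating_of_normalCore (H := normalizer (S : Set G)) ?_ (by norm_num) ?_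
    (by rw [hG]; decide)
  · by_contra hne
    set K := (normalizer (S : Set G)).normalCore
    have hK : K ≤ normalizer (S : Set G) := normalCore_le _
    obtain ⟨w, hw, hw2⟩ : ∃ w ∈ K, orderOf w = 2 := by
      obtain ⟨⟨y, hy⟩, hy1⟩ := ne_bot_iff_exists_ne_one.mp hne
      replace hy1 : y ≠ 1 := by simpa using hy1
      by_cases h : y ∈ S
      · exact ⟨y, hy, orderOf_eq_prime (sq_eq_one_of_mem_cent hord hu h) hy1⟩
      · refine ⟨y * u * y⁻¹ * u⁻¹, ?_, orderOf_eq_prime (sq_eq_one_of_mem_cent hord hu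
          (mul_mem ((mem_normalizer_iff.mp (hK hy) u).mp (self_mem_cent u))
            (inv_mem (self_mem_cent u)))) fun h1 => h (mem_centralizer_singleton_iff.mpr ?_)⟩
        · rw [show y * u * y⁻¹ * u⁻¹ = y * (u * y⁻¹ * u⁻¹) by group]
          exact mul_mem hy ((inferInstance : K.Normal).conj_mem _ (inv_mem hy) u)
        · rwa [mul_inv_eq_one, mul_inv_eq_iff_eq_mul] at h1
    have : {x : G | orderOf x = 2}.ncard ≤ (S : Set G).ncard := Set.ncard_le_ncard fun t ht => by
      obtain ⟨g, rfl⟩ := isConj_iff.mp (isConj_involutions hord horb hns h3.le hw2 ht)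
      exact mem_cent_of_conj_mem hord hu (ht ▸ pow_orderOf_eq_one _)
        ((mem_normalizer_iff.mp (hK ((inferInstance : K.Normal).conj_mem _ hw g)) u).mp
          (self_mem_cent u))
    rw [← Nat.card_coe_set_eq (S : Set G), SetLike.coe_sort_coe] at this
    omega
  · have h8 := relIndex_mul_index (le_normalizer (H := S))
    have h9 := S.index_mul_card
    rw [hs] at hN
    rw [hG, hs, ← h8, show S.relIndex (normalizer (S : Set G)) = 3 by omega] at h9
    omega

end Cfsg.Agent.S4068
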