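import Cfsg.Statements.S3756
import Cfsg.Agent.Lib.H1PrimTwo

set_option autoImplicit false
open Cfsg

namespace Cfsg.Agent.S3756

open Subgroup CfsgLib CfsgLib.H1

/-- Let G be a finite group of even order with O₂(G) = 1 such that every 2-local subgroup of G is solvable, of characteristic 2, and has no section isomorphic to the symmetric group of degree 4. Then every maximal 2-local subgroup of G is strongly embedded in G. -/
theorem result {G : Type*} [Group G] [Finite G] (heven : Even (Nat.card G)) (hO : Cfsg.pCore 2 G = ⊥) (hloc : ∀ M : Subgroup G, Cfsg.IsTwoLocal M → Group.IsSolvable M ∧ Cfsg.IsOfCharacteristicTwo ↥M ∧ ¬ Cfsg.Involves (Equiv.Perm (Fin 4)) ↥M) (M : Subgroup G) (hM : Cfsg.IsMaximalTwoLocal M) : Cfsg.IsStronglyEmbedded M := by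
  have hmax : IsMaximalPLocal 2 M := hM
  obtain ⟨⟨T, h1, h2, hT⟩, -⟩ := hM
  refine ⟨fun h0 => ?_, ?_, fun g hg => ?_⟩
  · have := normal_of_le_normalizer_top (H := T) (by rw [← hT, h0])
    exact h2 (eq_bot_iff.2 ((le_pCore h1).trans hO.le))
  · have h3 : T ≤ M := hT ▸ le_normalizer
    refine even_iff_two_dvd.2 (dvd_trans ?_ (card_dvd_of_le h3))
    obtain ⟨k, hk⟩ := h1.exists_card_eq
    rcases k with _ | k
    · exact absurd (eq_bot_of_card_eq T hk) h2
    · rw [hk]; exact dvd_pow_self 2 k.succ_ne_zero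
  · rw [← Nat.not_even_iff_odd, even_iff_two_dvd]
    intro hd
    obtain ⟨M₁, M₂, S, h3, h4, h5, h6, h7⟩ := exists_maxLocal_common_sylow hmax hg hd
    obtain ⟨a1, a2, a3⟩ := hloc M₁ h3.1
    obtain ⟨b1, b2, b3⟩ := hloc M₂ h4.1
    have hpp : PrimPair M₁ M₂ := ⟨h5, maxLocal_halfPrim h3 (charIn_iff.2 a2) _,
      maxLocal_halfPrim h4 (charIn_iff.2 b2) _⟩
    exact (hpp.involves_S4 a1 b1 (charIn_iff.2 a2) (charIn_iff.2 b2)
      ((pCoreOf_le_sylow h6).trans h7.le) ((pCoreOf_le_sylow h7).trans h6.le)).elim a3 b3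

end Cfsg.Agent.S3756
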