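import Cfsg.Statements.S3780
import Cfsg.Agent.Lib.BurnsideBasis

set_option autoImplicit false
open Cfsg

namespace Cfsg.Agent.S3780

theorem index_range_pow_le {M : Type*} [AddCommGroup M] [Finite M] (δ : AddMonoid.End M) (k : ℕ) :
    (AddMonoidHom.range (δ ^ k : AddMonoid.End M)).index ≤ (AddMonoidHom.range δ).index ^ k := by
  induction k with
  | zero =>
    have : AddMonoidHom.range (δ ^ 0 : AddMonoid.End M) = ⊤ :=
      AddMonoidHom.range_eq_top.2 Function.surjective_id
    rw [this, AddSubgroup.index_top, pow_zero]
  | succ k ih =>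
    have : AddMonoidHom.range (δ ^ (k + 1) : AddMonoid.End M) =
        (AddMonoidHom.range (δ ^ k : AddMonoid.End M)).map δ := by
      rw [pow_succ']
      exact (AddMonoidHom.map_range _ _).symm
    rw [this, pow_succ]
    refine (AddSubgroup.index_map _ _).le.trans ?_
    exact Nat.mul_le_mul_right _ ((AddSubgroup.index_antitone le_sup_left).trans ih)


/-- Let V be a finite abelian p-group and α an automorphism of V of order p whose fixed-point subgroup has order p^n. Then V can be generated by pn elements: some subset of V with at most pn elements generates V. -/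
theorem result {V : Type*} [CommGroup V] [Finite V] {p : ℕ} [Fact p.Prime] (hV : IsPGroup p V) (α : MulAut V) (hα : orderOf α = p) (n : ℕ) (hfix : Nat.card {v : V // α v = v} = p ^ n) : ∃ S : Finset V, S.card ≤ p * n ∧ Subgroup.closure (S : Set V) = ⊤ := by
  classical
  have hp : p.Prime := Fact.out
  let a : AddMonoid.End (Additive V) := (MulEquiv.toAdditive α).toAddMonoidHom
  have ha : ∀ (k : ℕ) (v : V), (a ^ k) (Additive.ofMul v) = Additive.ofMul ((α ^ k) v) := by
    intro k
    induction k with
    | zero => intro v; rfl
    | succ k ih => intro v; rw [pow_succ, pow_succ]; exact ih (α v)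
  have hap : a ^ p = 1 := by
    ext v
    have := ha p v.toMul
    rw [← hα, pow_orderOf_eq_one, hα] at this
    exact this
  obtain ⟨r, hr⟩ := (Commute.one_right (a - 1)).exists_add_pow_prime_eq hp
  rw [sub_add_cancel, hap, one_pow, mul_one, add_right_comm, eq_comm, add_eq_right,
    add_eq_zero_iff_eq_neg] at hr
  have h1 : AddMonoidHom.range ((a - 1) ^ p : AddMonoid.End (Additive V)) ≤
      (frattini V).toAddSubgroup := by
    rintro _ ⟨v, rfl⟩
    rw [hr, mul_assoc]
    refine AddSubgroup.neg_mem _ ?_
    exact CfsgLib.BurnsideBasis.pow_mem_frattini hV (((a - 1) * r) v).toMul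
  have h2 : (AddMonoidHom.range (a - 1 : AddMonoid.End (Additive V))).index = p ^ n := by
    rw [← hfix]
    refine AddSubgroup.index_range.trans
      (Nat.card_congr (Additive.toMul.subtypeEquiv fun v => ?_))
    exact AddMonoidHom.mem_ker.trans sub_eq_zero
  obtain ⟨d, hd⟩ := hV.index (frattini V)
  have h3 := (AddSubgroup.index_antitone h1).trans (index_range_pow_le (a - 1) p)
  rw [h2, Subgroup.index_toAddSubgroup, hd, ← pow_mul] at h3
  have h4 : d ≤ n * p := (Nat.pow_le_pow_iff_right hp.one_lt).1 h3
  obtain ⟨x, hx⟩ := CfsgLib.BurnsideBasis.exists_generators hV hd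
  refine ⟨Finset.univ.image x, Finset.card_image_le.trans ?_, by simpa using hx⟩
  simpa [mul_comm] using h4

end Cfsg.Agent.S3780
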