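import Cfsg.Statements.S3781
import Cfsg.Agent.Lib.CommCalc
import Cfsg.Agent.Lib.CoreFitting

set_option autoImplicit false
open Cfsg

namespace Cfsg.Agent.S3781

open Subgroup CfsgLib

/-- Let G be a finite p-group and n ≥ 1, and write γ_1(G) = G, γ_{k+1}(G) = [γ_k(G), G], and likewise γ_k(N) for a subgroup N. Let N be a normal subgroup of G contained in γ_n(G). If i > 1 and γ_{i+1}(N) ≠ 1, then |γ_i(N) : γ_{i+1}(N)| ≥ p^n. -/
theorem result {G : Type*} [Group G] [Finite G] {p : ℕ} [Fact p.Prime] (hG : IsPGroup p G) (n : ℕ) (hn : 1 ≤ n) (N : Subgroup G) [N.Normal] (hN : N ≤ (⊤ : Subgroup G).lowerCentralSeries (n - 1)) (i : ℕ) (hi : 1 < i) (hne : N.lowerCentralSeries i ≠ ⊥) : p ^ n ≤ (N.lowerCentralSeries i).relIndex (N.lowerCentralSeries (i - 1)) := by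
  have := hG.isNilpotent
  have hp : p.Prime := Fact.out
  let H : ℕ → Subgroup G := fun k => (fun K => ⁅K, (⊤ : Subgroup G)⁆)^[k] (N.lowerCentralSeries (i - 1))
  have hs : ∀ k, H (k + 1) = ⁅H k, ⊤⁆ := fun k => Function.iterate_succ_apply' _ _ _
  have hn' : ∀ k, (H k).Normal := by
    intro k
    induction k with
    | zero => exact inferInstanceAs (N.lowerCentralSeries (i - 1)).Normal
    | succ k ih => rw [hs]; infer_instance
  have hle : ∀ k, H (k + 1) ≤ H k := fun k => by rw [hs]; exact commutator_le_left _ _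
  have h1 : N.lowerCentralSeries i ≤ H n := by
    have := CommCalc.commutator_chain_lowerCentralSeries H ⊤
      (fun _ => CommCalc.le_normalizer_of_normal' _ _) (fun _ _ => CommCalc.le_normalizer_of_normal' _ _)
      (fun k => (hs k).ge) (n - 1) 0
    rw [show 0 + (n - 1) + 1 = n by omega] at this
    rw [show i = (i - 1) + 1 by omega, Subgroup.lowerCentralSeries_succ]
    exact (commutator_mono le_rfl hN).trans this
  have h2 : ∀ k, H k ≠ ⊥ → p ^ k ≤ (H k).relIndex (H 0) := by
    intro k
    induction k with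
    | zero => intro _; simp
    | succ k ih =>
      intro hk
      have hk' : H k ≠ ⊥ := fun h => hk (le_bot_iff.1 (h ▸ hle k))
      rw [← relIndex_mul_relIndex _ _ _ (hle k) (antitone_nat_of_succ_le hle (Nat.zero_le k)),
        pow_succ']
      refine Nat.mul_le_mul ?_ (ih hk')
      obtain ⟨m, hm⟩ := (hG.to_subgroup (H k)).index ((H (k + 1)).subgroupOf (H k))
      rw [relIndex, hm]
      refine Nat.le_self_pow (fun h0 => hk' ?_) _
      rw [h0, pow_zero] at hm
      exact eq_bot_of_le_commutator_of_isNilpotent (H := ⊤) inferInstance le_top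
        ((relIndex_eq_one.1 hm).trans (hs k).le)
  exact (h2 n fun h => hne (le_bot_iff.1 (h ▸ h1))).trans
    (Nat.le_of_dvd (Nat.pos_of_ne_zero index_ne_zero_of_finite) (relIndex_dvd_of_le_left _ h1))

end Cfsg.Agent.S3781
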