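import Cfsg.Statements.S4126
import Mathlib
import Cfsg.Agent.Lib.H5Critical
import Cfsg.Agent.Lib.QBaer
import Cfsg.Agent.Lib.FrobeniusPComplement
import Cfsg.Agent.Lib.CoprimeThompson

set_option autoImplicit false
open Cfsg

namespace Cfsg.Agent.S4126
open Subgroup Cfsg CfsgLib
open scoped commutatorElement

/-- Let G be a finite group and p a prime. Suppose every element of order p, and when p = 2 also every element of order 4, has a conjugacy class of p-power size. Then G has a normal p-complement. -/
theorem result {G : Type*} [Group G] [Finite G] (p : ℕ) [Fact p.Prime]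
    (h : ∀ x : G, (orderOf x = p ∨ (p = 2 ∧ orderOf x = 4)) → ∃ a : ℕ, (Subgroup.centralizer ({x} : Set G)).index = p ^ a) :
    Cfsg.HasNormalPComplement p G := by
  have hp : p.Prime := Fact.out
  have h' : ∀ x : G, x ^ (if p = 2 then 4 else p) = 1 → (∃ k, orderOf x = p ^ k) ∧
      ∃ a : ℕ, (centralizer ({x} : Set G)).index = p ^ a := by
    intro x hx
    by_cases h2 : p = 2
    · subst h2
      obtain ⟨k, hk, hx⟩ := (Nat.dvd_prime_pow hp (m := 2)).mp (orderOf_dvd_of_pow_eq_one hx)
      refine ⟨⟨k, hx⟩, ?_⟩
      interval_cases k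
      · exact ⟨0, by simp [orderOf_eq_one_iff.mp hx]⟩
      · exact h x (Or.inl hx)
      · exact h x (Or.inr ⟨rfl, hx⟩)
    · rw [if_neg h2] at hx
      rcases (Nat.dvd_prime hp).mp (orderOf_dvd_of_pow_eq_one hx) with hx | hx
      · exact ⟨⟨0, hx⟩, 0, by simp [orderOf_eq_one_iff.mp hx]⟩
      · exact ⟨⟨1, by simpa using hx⟩, h x (Or.inl hx)⟩
  obtain ⟨H, hH1, hH2, hH3, -, hH4⟩ := H5.exists_small_exponent_critical (pCore_isPGroup (G := G) p)
  have := pCore_characteristic (G := G) p
  have := PRes.pResidual_normal (G := G) (p := p)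
  have hHn : H.Normal := normal_of_le_normalizer_top (le_normalizer_of_normal.trans hH2)
  obtain ⟨P⟩ : Nonempty (Sylow p G) := inferInstance
  have hHC : H ≤ H ⊓ centralizer (pResidual p G : Set G) := by
    by_contra hne
    have := P.isPGroup'.isNilpotent
    obtain ⟨x, hx, hxn, hxP⟩ := Cop.exists_commutator_mem_of_lt this
      (hH1.trans (pCore_le_sylow P)) le_normalizer_of_normal le_normalizer_of_normal hne
    refine hxn ⟨hx, ?_⟩
    have : pResidual p G ≤ centralizer ({x} : Set G) := PRes.pResidual_le_iff.mpr fun a ha => by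
      obtain ⟨n, hn, c, hc, rfl⟩ := Cop.exists_mul_centralizer_of_commutator_mem (A := zpowers a)
        (N := H ⊓ centralizer (pResidual p G : Set G)) le_normalizer_of_normal
        (Cop.coprime_card_of_isPGroup (by rwa [Nat.card_zpowers])
          ((pCore_isPGroup p).to_le (inf_le_left.trans hH1))) (Or.inl inferInstance) (g := x)
        fun g _ => by
          obtain ⟨u, hu, c, hc, rfl⟩ := Chr.exists_sylow_mul_of_index_pow P (h' x (hH3 x hx)).2 g
          have h1 := mem_centralizer_singleton_iff.mp hc
          have : ⁅x, u * c⁆ = ⁅x, u⁆ := by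
            calc _ = x * u * (c * x⁻¹ * c⁻¹) * u⁻¹ := by group
              _ = _ := by rw [← conj_inv, h1, mul_inv_cancel_right, commutatorElement_def]
          exact this ▸ hxP u hu
      exact mem_centralizer_singleton_iff.mpr ((Commute.mul_right
        (hn.2 a (PRes.mem_pResidual_of_coprime ha)) (hc a (mem_zpowers a))).eq)
    exact fun g hg => mem_centralizer_singleton_iff.mp (this hg)
  refine FrobNPC.hnpc_of_pAutomizer fun Q hQ _ g hg hgo => ?_
  have hg' : (Nat.card (zpowers g)).Coprime p := by rwa [Nat.card_zpowers]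
  have h1 := le_centralizer_iff.mp (Cop.commutator_eq_bot_iff_le_centralizer'.mp
    (hH4 (zpowers g) le_normalizer_of_normal hg' (Cop.commutator_eq_bot_iff_le_centralizer'.mpr
      (le_centralizer_iff.mp ((hHC.trans inf_le_right).trans (centralizer_le
        (zpowers_le.mpr (PRes.mem_pResidual_of_coprime hgo))))))))
  refine Cop.commutator_eq_bot_iff_le_centralizer'.mp ?_ (mem_zpowers g)
  by_cases h2 : p = 2
  · exact Cop.commutator_eq_bot_of_centralizes_omega_two hQ (zpowers_le.mpr hg) hg' fun x _ hx =>
      have := h' x (by simpa [h2] using hx)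
      h1 (Chr.mem_pCore_of_index_pow this.1 this.2)
  · exact Cop.commutator_eq_bot_of_centralizes_omega_odd h2 hQ (zpowers_le.mpr hg) hg' fun x _ hx =>
      have := h' x (by simpa [h2] using hx)
      h1 (Chr.mem_pCore_of_index_pow this.1 this.2)

end Cfsg.Agent.S4126
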