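import Cfsg.Statements.S4035
import Mathlib
import Cfsg.Agent.Lib.H5PiClosed
import Cfsg.Agent.Lib.ClassSize
import Cfsg.Agent.Lib.CharFrobenius
import Cfsg.Agent.Lib.SylowIn

set_option autoImplicit false
open Cfsg

namespace Cfsg.Agent.S4035
open Subgroup CfsgLib CfsgLib.H5

/-- Let G be a finite group and p a prime such that p divides the size of no conjugacy class of p-regular elements (elements of order prime to p). Then G is the internal direct product of a Sylow p-subgroup P and a normal subgroup H of order prime to p: P is normal, P ⊓ H = 1 and PH = G. -/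
theorem result {G : Type*} [Group G] [Finite G] {p : ℕ} [Fact p.Prime]
    (h : ∀ x : G, (orderOf x).Coprime p → ¬ p ∣ (ConjClasses.mk x).carrier.ncard) (P : Sylow p G) :
    (P : Subgroup G).Normal ∧ ∃ H : Subgroup G, H.Normal ∧ ¬ p ∣ Nat.card H ∧
      (P : Subgroup G) ⊓ H = ⊥ ∧ (P : Subgroup G) ⊔ H = ⊤ := by
  have hp : p.Prime := Fact.out
  have h1 : ∀ x : G, (orderOf x).Coprime p → ¬ p ∣ (centralizer ({x} : Set G)).index := by
    intro x hx
    rw [Frob.index_centralizer_eq_card_carrier]
    exact h x hx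
  have h2 : normalizer ((P : Subgroup G) : Set G) = ⊤ := by
    refine eq_top_of_forall_conj_mem _ fun g => ?_
    obtain ⟨u, -, v, -, rfl, huv, ⟨k, hk⟩, hv⟩ := exists_p_part hp g
    obtain ⟨S, hS1, hS⟩ := IsSylowIn.exists_ge (isPGroup_zpowers_iff.mpr ⟨k, hk⟩)
      (zpowers_le.mpr (mem_centralizer_singleton_iff.mpr huv.eq))
    have hS2 : IsSylowIn p S ⊤ := by
      refine ⟨le_top, hS.isPGroup, ?_⟩
      rw [relIndex_top_right, ← relIndex_mul_index hS.le]
      exact hp.not_dvd_mul hS.not_dvd (h1 v hv)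
    obtain ⟨c, -, hc⟩ := (IsSylowIn.sylow_top P).exists_conj_eq hS2
    refine ⟨c⁻¹, ?_⟩
    rw [← hc, normalizer_map_conj, inv_inv]
    refine conj_mem_map_conj (mul_mem (le_normalizer (hS1 (mem_zpowers u))) ?_)
    exact centralizer_le_normalizer _ fun s hs => mem_centralizer_singleton_iff.mp (hS.le hs)
  have hP : (P : Subgroup G).Normal := normalizer_eq_top_iff.mp h2
  obtain ⟨H, hH⟩ := exists_right_complement'_of_coprime P.card_coprime_index
  have hHp : ¬ p ∣ Nat.card H := hH.symm.index_eq_card ▸ P.not_dvd_index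
  refine ⟨hP, H, ?_, hHp, disjoint_iff.mp hH.disjoint, hH.sup_eq_top⟩
  refine normal_of_le_normalizer_top ?_
  rw [← hH.sup_eq_top]
  refine sup_le (le_trans ?_ (centralizer_le_normalizer _)) le_normalizer
  rw [le_centralizer_iff]
  intro x hx
  obtain ⟨S, hS⟩ := exists_sylow_le_of_not_dvd_index (h1 x
    (Nat.Coprime.coprime_dvd_left (orderOf_dvd_natCard H hx)
      ((Nat.Prime.coprime_iff_not_dvd hp).mpr hHp).symm))
  have := Sylow.unique_of_normal P hP
  obtain rfl : S = P := Subsingleton.elim _ _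
  exact fun s hs => mem_centralizer_singleton_iff.mp (hS hs)

end Cfsg.Agent.S4035
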