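import Cfsg.Statements.S4127
import Mathlib
import Cfsg.Agent.S4035
import Cfsg.Agent.Lib.QBaer
import Cfsg.Agent.Lib.CoprimePGroup
import Cfsg.Agent.Lib.PComplement
import Cfsg.Agent.Lib.ClassSize

set_option autoImplicit false
open Cfsg

namespace Cfsg.Agent.S4127
open Subgroup Cfsg CfsgLib
open scoped commutatorElement

/-- Let G be a finite group, p a prime and p^a the largest power of p dividing the size of any conjugacy class of G. If some element of p-power order has a conjugacy class of size exactly p^a, then G has a normal p-complement. -/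
theorem result {G : Type*} [Group G] [Finite G] (p : ℕ) [Fact p.Prime]
    (a : ℕ) (hmax : ∀ y : G, ¬ p ^ (a + 1) ∣ (Subgroup.centralizer ({y} : Set G)).index)
    (hx : ∃ x : G, (∃ k : ℕ, orderOf x = p ^ k) ∧ (Subgroup.centralizer ({x} : Set G)).index = p ^ a) :
    Cfsg.HasNormalPComplement p G := by
  have hp : p.Prime := Fact.out
  obtain ⟨x, ⟨k, hk⟩, hx⟩ := hx
  have hxO := Chr.mem_pCore_of_index_pow ⟨k, hk⟩ ⟨a, hx⟩
  set C := centralizer ({x} : Set G) with hC
  obtain ⟨P⟩ : Nonempty (Sylow p C) := inferInstance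
  obtain ⟨hP, H, hH, hHp, h1, h2⟩ := Cfsg.Agent.S4035.result (G := C) (p := p) (fun y hy h => by
    rw [← Nat.card_coe_set_eq, ← Frob.index_centralizer_eq_card_carrier,
      Frob.index_centralizer_subtype] at h
    refine hmax (x * y) ?_
    rw [Frob.centralizer_mul_of_coprime (mem_centralizer_singleton_iff.mp y.2).symm
      (by rw [hk, orderOf_coe]; exact hy.symm.pow_left k), ← relIndex_mul_index inf_le_left,
      inf_relIndex_left, hx, pow_succ']
    exact Nat.mul_dvd_mul_right h _) P
  have hHp' := ((Nat.Prime.coprime_iff_not_dvd hp).mpr hHp).symm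
  obtain ⟨m, hm⟩ := P.isPGroup'.exists_card_eq
  have hi : H.index = p ^ m := by
    rw [← hm]
    exact (isComplement'_of_disjoint_and_mul_eq_univ (disjoint_iff.mpr h1)
      (by rw [← normal_mul, h2, coe_top])).index_eq_card
  have hCn := PCompl.hnpc_of_normal H hHp' hi
  have := pCore_characteristic (G := G) p
  have hK : ⁅pCore p G, H.map C.subtype⁆ = ⊥ := by
    refine Cop.commutator_eq_bot_of_pxq (P := zpowers x) (isPGroup_zpowers_iff.mpr ⟨k, hk⟩)
      (pCore_isPGroup p) (by rwa [card_map_subtype]) le_normalizer_of_normal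
      le_normalizer_of_normal (Cop.commutator_eq_bot_iff_le_centralizer'.mpr ?_) ?_
    · rintro _ ⟨y, -, rfl⟩ _ ⟨n, rfl⟩
      exact (Commute.zpow_left (mem_centralizer_singleton_iff.mp y.2).symm n).eq
    · rintro y ⟨hy1, hy2⟩ _ ⟨z, hz, rfl⟩
      have hyC : y ∈ C := mem_centralizer_singleton_iff.mpr (hy2 x (mem_zpowers x)).symm
      have hyP : (⟨y, hyC⟩ : C) ∈ (P : Subgroup C) :=
        pCore_le_sylow P (comap_pCore_le p C.subtype_injective hy1)
      exact congrArg Subtype.val (commute_of_normal_of_disjoint H P hH hP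
        (disjoint_iff.mpr (inf_comm H _ ▸ h1)) z _ hz hyP).eq
  have hKD := Cop.commutator_eq_bot_iff_le_centralizer'.mp hK
  obtain ⟨j, -, hj⟩ := (Nat.dvd_prime_pow hp (m := m + a)).mp ((index_dvd_of_le hKD).trans (by
    rw [index_map_subtype, hi, hx, pow_add]))
  exact PCompl.hnpc_of_index_eq_pow _ hj (PCompl.hnpc_of_le hCn
    (centralizer_le (Set.singleton_subset_iff.mpr hxO)))

end Cfsg.Agent.S4127
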