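import Cfsg.Statements.S3797
import Cfsg.Agent.Lib.H9PLenOdd
import Cfsg.Agent.Lib.Suz.HigmanA
import Cfsg.Agent.Lib.Hall

set_option autoImplicit false
open Cfsg

namespace Cfsg.Agent.S3797

open CfsgLib CfsgLib.H9 CfsgLib.Fpf Subgroup Cfsg
open scoped commutatorElement

theorem exists_invol {G : Type*} [Group G] [Finite G] {P : Subgroup G} (hP : IsPGroup 2 P)
    (h : P ≠ ⊥) : ∃ z ∈ P, z ≠ 1 ∧ z ^ 2 = 1 ∧ P ≤ centralizer {z} := by
  have := (nontrivial_iff_ne_bot P).2 h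
  have := hP.center_nontrivial
  obtain ⟨⟨w, hw⟩, hw1⟩ := exists_ne (1 : center P)
  obtain ⟨h1, h2⟩ := Suz.exists_invol_of_isPGroup hP (x := w) fun h => hw1 (Subtype.ext h)
  refine ⟨_, (w ^ (orderOf w / 2)).2, fun h => h1 (Subtype.ext h), congrArg Subtype.val h2,
    fun g hg => mem_centralizer_singleton_iff.2 ?_⟩
  exact congrArg Subtype.val (mem_center_iff.1 (pow_mem hw _) ⟨g, hg⟩)

theorem core {G : Type*} [Group G] [Finite G] (hG : Group.IsSolvable G)
    (h0 : pPrimeCore 2 G = ⊥) {a b : G} (hab : a ≠ b) (ha1 : a ≠ 1) (ha : a ^ 2 = 1) (hb1 : b ≠ 1)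
    (hb : b ^ 2 = 1)
    (hconj : ∀ x y : G, x ≠ 1 → x ^ 2 = 1 → y ≠ 1 → y ^ 2 = 1 → ∃ g, g * x * g⁻¹ = y)
    {x : G} (hx : x ^ 2 ∈ pCore 2 G) : x ∈ pCore 2 G := by
  have hG' : IsPSolvable 2 G := isPSolvable_of_isSolvable hG
  have hCQ := centralizer_pCore_le hG' h0
  set Q := pCore 2 G
  have hQ : IsPGroup 2 Q := pCore_isPGroup 2
  have hA : ∀ (N : Subgroup G) [N.Normal] (z : G), z ≠ 1 → z ^ 2 = 1 → N ≤ centralizer {z} →
      ∀ y, y ^ 2 = 1 → ∀ g ∈ N, y * g = g * y := fun N hN z hz1 hz h y hy g hg => by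
    by_cases hy1 : y = 1
    · simp [hy1]
    obtain ⟨c, rfl⟩ := hconj z y hz1 hz hy1 hy
    have := mem_centralizer_singleton_iff.1 (h (hN.conj_mem' g hg c))
    calc _ = c * (z * (c⁻¹ * g * c)) * c⁻¹ := by group
      _ = _ := by rw [← this]; group
  obtain ⟨z, hzQ, hz1, hz, hQz⟩ := exists_invol hQ fun h =>
    ha1 (mem_bot.1 (h.le (hCQ fun g hg => by rw [mem_bot.1 (h.le hg), one_mul, mul_one])))
  have hVQ : ∀ y, y ^ 2 = 1 → y ∈ Q := fun y hy => hCQ fun g hg => (hA Q z hz1 hz hQz y hy g hg).symm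
  let V : Subgroup G :=
    { carrier := {y | y ^ 2 = 1}
      one_mem' := one_pow 2
      inv_mem' := fun {y} hy => by rw [Set.mem_ofPred_eq, inv_pow, hy, inv_one]
      mul_mem' := fun {y w} hy hw => by
        rw [Set.mem_ofPred_eq, (show Commute y w from hA Q z hz1 hz hQz y hy w (hVQ w hw)).mul_pow,
          hy, hw, one_mul] }
  have hVn : V.Normal := ⟨fun y hy g => by
    change _ ^ 2 = 1
    rw [conj_pow, show y ^ 2 = 1 from hy, mul_one, mul_inv_cancel]⟩
  set C := centralizer (V : Set G)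
  have hQC : Q ≤ C := fun g hg y hy => hA Q z hz1 hz hQz y hy g hg
  have hD : C ⊓ CommCalc.relCent V Q ≤ Q := by
    have : (CommCalc.relCent V Q).Normal := normalizer_eq_top_iff.1 (top_le_iff.1
      (le_normalizer_relCent le_normalizer_of_normal le_normalizer_of_normal))
    refine le_pCore (isPGroup_of_forall_eq_one fun c hc hco => ?_)
    have h1 : (Nat.card (zpowers c)).Coprime 2 := by rwa [Nat.card_zpowers]
    have h2 := Cop.commutator_eq_bot_of_commutator_commutator_eq_bot (G := Q)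
      le_normalizer_of_normal (Cop.coprime_card_of_isPGroup h1 hQ) (le_bot_iff.1
        ((commutator_mono ((le_relCent_iff le_normalizer_of_normal).1 (zpowers_le.2 hc.2))
          (zpowers_le.2 hc.1)).trans (Cop.commutator_eq_bot_iff_le_centralizer'.2 le_rfl).le))
    exact mem_bot.1 ((disjoint_iff.1 (disjoint_of_coprime_natCard
      (Cop.coprime_card_of_isPGroup h1 hQ))).le ⟨mem_zpowers c,
        hCQ (Cop.commutator_eq_bot_iff_le_centralizer'.1 h2 (mem_zpowers c))⟩)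
  have hT : ∀ T₀ : Subgroup G, IsPGroup 2 T₀ → T₀ ≤ C → T₀ ≤ Q := fun T₀ hT₀ hT₀C => by
    obtain ⟨P, hP⟩ := (hT₀.comap_subtype (K := C)).exists_le_sylow
    have hfr := P.normalizer_sup_eq_top
    have hPT : IsPGroup 2 ((P : Subgroup C).map C.subtype) := P.isPGroup'.map _
    have hQT : Q ≤ (P : Subgroup C).map C.subtype := fun g hg =>
      ⟨⟨g, hQC hg⟩, (hQ.comap_subtype (K := C)).le_sylow_of_normal P hg, rfl⟩
    have hT₀T : T₀ ≤ (P : Subgroup C).map C.subtype := fun g hg => ⟨⟨g, hT₀C hg⟩, hP hg, rfl⟩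
    have hTC : (P : Subgroup C).map C.subtype ≤ C := map_subtype_le _
    generalize (P : Subgroup C).map C.subtype = T at *
    obtain ⟨Y, hY⟩ := Hall.exists_isPiHall (G := normalizer (T : Set G)) inferInstance {2}ᶜ
    obtain ⟨S, hS⟩ := (hPT.comap_subtype (K := normalizer (T : Set G))).exists_le_sylow
    have hc := Hall.isComplement'_of_hall hY
      (by rw [compl_compl]; exact Hall.isPiHall_singleton_sylow S)
    obtain ⟨w, -, hw1, hw, hSw⟩ := exists_invol S.isPGroup' fun h => hz1 (congrArg Subtype.val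
      (mem_bot.1 (h.le (hS (show (⟨z, le_normalizer (hQT hzQ)⟩ : normalizer (T : Set G)) ∈ _ from
        hQT hzQ)))))
    have hw2 : (w : G) ^ 2 = 1 := congrArg Subtype.val hw
    have h1 : ∀ y : G, y ≠ 1 → y ^ 2 = 1 → ∃ c ∈ Y, (c : G) * w * (c : G)⁻¹ = y := fun y hy1 hy => by
      obtain ⟨g, rfl⟩ := hconj w y (fun h => hw1 (Subtype.ext h)) hw2 hy1 hy
      obtain ⟨n, hn, c, hc', rfl⟩ := mem_sup_of_normal_right.1 (hfr.ge (mem_top g))
      obtain ⟨⟨y, s⟩, hys⟩ := (hc.existsUnique ⟨n, hn⟩).exists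
      refine ⟨y, y.2, ?_⟩
      have h2 : (s : normalizer (T : Set G)) * (w : G) = w * (s : normalizer (T : Set G)) :=
        congrArg Subtype.val (mem_centralizer_singleton_iff.1 (hSw s.2))
      have h3 : w * c = c * w := hc' w hw2
      have h4 : ((y : normalizer (T : Set G)) : G) * (s : normalizer (T : Set G)) = n :=
        congrArg Subtype.val hys
      rw [← h4, mul_assoc _ c, ← h3, mul_assoc _ _ (_ * c), ← mul_assoc _ _ c, h2]
      group
    have hH : Suz.HigSetup (T.normalizerMonoidHom.comp Y.subtype) :=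
      ⟨hPT, Nat.coprime_two_right.1 (Hall.isPiHall_compl_singleton_iff.1 hY).1, inferInstance,
        fun u v hu1 hu hv1 hv => by
          obtain ⟨c, hc, h2⟩ := h1 u (fun h => hu1 (Subtype.ext h)) (congrArg Subtype.val hu)
          obtain ⟨d, hd, h3⟩ := h1 v (fun h => hv1 (Subtype.ext h)) (congrArg Subtype.val hv)
          refine ⟨⟨d * c⁻¹, mul_mem hd (inv_mem hc)⟩, Subtype.ext ?_⟩
          change (d : G) * (c : G)⁻¹ * u * ((d : G) * (c : G)⁻¹)⁻¹ = v
          rw [← h2, ← h3]; group,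
        ⟨⟨a, hQT (hVQ a ha)⟩, ⟨b, hQT (hVQ b hb)⟩, fun h => hab (congrArg Subtype.val h),
          fun h => ha1 (congrArg Subtype.val h), Subtype.ext ha,
          fun h => hb1 (congrArg Subtype.val h), Subtype.ext hb⟩⟩
    refine fun t ht' => hD ⟨hTC (hT₀T ht'), le_normalizer_of_normal' ⊤ _ trivial, fun q hq => ?_⟩
    have ht := hT₀T ht'
    by_cases hnc : ∃ u v : T, ⁅u, v⁆ ≠ 1
    · exact congrArg Subtype.val (hH.commutatorElement_sq hnc ⟨t, ht⟩ ⟨q, hQT hq⟩)
    · push Not at hnc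
      rw [show ⁅t, q⁆ = 1 from congrArg Subtype.val (hnc ⟨t, ht⟩ ⟨q, hQT hq⟩)]
      exact one_mem _
  by_contra hx1
  obtain ⟨K, hK, hOK, hfr⟩ := exists_ppCore_complement (G := G) (p := 2)
  obtain ⟨u, hu, n, hn, rfl⟩ := hfr x
  have hOK' : Q ⊓ K = ⊥ := disjoint_iff.1 (disjoint_of_coprime_natCard
    (Cop.coprime_card_of_isPGroup hK hQ).symm)
  have hn1 : n ∉ Q := fun h => hx1 (mul_mem hu h)
  have hn2 : n ^ 2 ∈ Q := by
    rw [← QuotientGroup.eq_one_iff] at hx ⊢
    rwa [QuotientGroup.mk_pow, QuotientGroup.mk_mul, (QuotientGroup.eq_one_iff u).2 hu, one_mul,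
      ← QuotientGroup.mk_pow] at hx
  obtain ⟨w, hw, hw1, hw2, -⟩ := exists_invol (hQ.to_le (zpowers_le.2 hn2)) fun h =>
    hn1 (hVQ n (mem_bot.1 (h.le (mem_zpowers _))))
  have hLC : ppCore 2 G ≤ C := fun g hg y hy => hA _ w hw1 hw2 (hOK.ge.trans (sup_le
    (fun g hg => mem_centralizer_singleton_iff.2 (hQC hg w hw2).symm) fun k hk =>
      mem_centralizer_singleton_iff.2 (commutatorElement_eq_one_iff_mul_comm.1 (mem_bot.1
        (hOK'.le ⟨Q.mul_mem (conj_mem_of_mem_normalizer (le_normalizer_of_normal' ⊤ _ trivial)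
          (hVQ w hw2)) (inv_mem (hVQ w hw2)), ?_⟩))))) y hy g hg
  · set π := QuotientGroup.mk' (ppCore 2 G)
    have hπ : Function.Surjective π := QuotientGroup.mk'_surjective _
    have h1 : pPrimeCore 2 (G ⧸ ppCore 2 G) = ⊥ := by
      have h2 := (qSec_of_coprime (pPrimeCore_coprime (G := G ⧸ ppCore 2 G) 2) ⊥).comap π
      rw [MonoidHom.comap_bot, QuotientGroup.ker_mk'] at h2
      have := Normal.map (inferInstance : ((pPrimeCore 2 (G ⧸ ppCore 2 G)).comap π).Normal)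
        (QuotientGroup.mk' Q) (QuotientGroup.mk'_surjective Q)
      have h3 := map_le_iff_le_comap.1 (le_pPrimeCore (coprime_map_mk'_iff.2 (qSec_ppCore.trans h2)))
      rw [← map_comap_eq_self_of_surjective hπ (pPrimeCore 2 _), Subgroup.map_eq_bot_iff,
        QuotientGroup.ker_mk']
      exact h3
    have h2 : pCore 2 (G ⧸ ppCore 2 G) = ⊥ := by
      obtain ⟨T, -, hT', hTπ⟩ := exists_lift_isPGroup π (K := ⊤)
        (le_top.trans (map_top_of_surjective π hπ).ge) (pCore_isPGroup (G := G ⧸ ppCore 2 G) 2)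
      obtain ⟨v, -, hv1, hv, hTv⟩ := exists_invol (hT'.to_sup_of_normal_right hQ) fun h =>
        hz1 (mem_bot.1 (h.le (mem_sup_right hzQ)))
      have h3 : (pCore 2 (G ⧸ ppCore 2 G)).comap π ≤ centralizer {v} := by
        rw [← hTπ, comap_map_eq, QuotientGroup.ker_mk']
        exact sup_le (le_sup_left.trans hTv) fun g hg =>
          mem_centralizer_singleton_iff.2 (hLC hg v hv).symm
      rw [← hTπ, Subgroup.map_eq_bot_iff, QuotientGroup.ker_mk']
      exact (hT T hT' fun g hg y hy => hA _ v hv1 hv h3 y hy g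
        (hTπ ▸ mem_map_of_mem π hg)).trans pCore_le_ppCore
    refine hx1 (mem_pCore_of_mem_ppCore ((QuotientGroup.eq_one_iff _).1 (mem_bot.1 (h2.le
      (centralizer_pCore_le (isPSolvable_quotient hG' _) h1 fun g hg => ?_)))) (k := 1) hx)
    rw [mem_bot.1 (h2.le hg), one_mul, mul_one]
  · change _ ∈ K
    rw [← inv_mem_iff, commutatorElement_inv]
    exact mul_mem (conj_mem_of_mem_normalizer (zpowers_le.2 (pow_mem hn 2) hw) hk) (inv_mem hk)

theorem homocyclic {A : Type*} [CommGroup A] [Finite A] (hA : IsPGroup 2 A)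
    (h : ∀ x y : A, x ≠ 1 → x ^ 2 = 1 → y ≠ 1 → y ^ 2 = 1 → ∃ f : MulAut A, f x = y) :
    ∃ m r : ℕ, Nonempty (A ≃* (Fin r → Multiplicative (ZMod (2 ^ m)))) := by
  classical
  obtain ⟨ι, _, n, hn, ⟨e⟩⟩ := CommGroup.equiv_prod_multiplicative_zmod_of_finite A
  have ho : ∀ i, orderOf (e.symm (Pi.mulSingle i (Multiplicative.ofAdd 1))) = n i := fun i => by
    rw [MulEquiv.orderOf_eq]
    exact (orderOf_injective (MonoidHom.mulSingle (fun i => Multiplicative (ZMod (n i))) i)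
      (Pi.mulSingle_injective (M := fun i => Multiplicative (ZMod (n i))) i) _).trans (by rw [orderOf_ofAdd_eq_addOrderOf, ZMod.addOrderOf_one])
  have hk : ∀ i, ∃ k, n i = 2 ^ (k + 1) := fun i => by
    obtain ⟨k, hk⟩ := IsPGroup.iff_orderOf.1 hA (e.symm (Pi.mulSingle i (Multiplicative.ofAdd 1)))
    rw [ho] at hk
    cases k with
    | zero => exact absurd hk (hn i).ne'
    | succ k => exact ⟨k, hk⟩
  choose k hk using hk
  have h1 : ∀ i, e.symm (Pi.mulSingle i (Multiplicative.ofAdd 1)) ^ 2 ^ k i ≠ 1 ∧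
      (e.symm (Pi.mulSingle i (Multiplicative.ofAdd 1)) ^ 2 ^ k i) ^ 2 = 1 := fun i =>
    ⟨pow_ne_one_of_lt_orderOf (by positivity) (by rw [ho, hk]; exact Nat.pow_lt_pow_succ one_lt_two),
      by rw [← pow_mul, ← pow_succ, ← hk]; exact orderOf_dvd_iff_pow_eq_one.1 (ho i).dvd⟩
  have h2 : ∀ i j, k j ≤ k i := fun i j => le_of_not_gt fun hlt => by
    obtain ⟨f, hf⟩ := h _ _ (h1 j).1 (h1 j).2 (h1 i).1 (h1 i).2
    refine (h1 i).1 ?_
    have h3 := congrFun (congrArg e hf) i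
    obtain ⟨d, hd⟩ := Nat.exists_eq_add_of_le (Nat.succ_le_of_lt hlt)
    have : NeZero (n i) := ⟨by have := hn i; omega⟩
    have h4 : ∀ t : Multiplicative (ZMod (n i)), t ^ n i = 1 := fun t => by
      simpa using pow_card_eq_one' (x := t)
    rw [map_pow, map_pow, Pi.pow_apply, hd, Nat.succ_eq_add_one, pow_add, ← hk, pow_mul, h4,
      one_pow, map_pow, MulEquiv.apply_symm_apply, Pi.pow_apply, Pi.mulSingle_eq_same] at h3
    rw [← map_pow, ← Pi.mulSingle_pow, ← h3, Pi.mulSingle_one, map_one]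
  obtain ⟨m, hm⟩ : ∃ m, ∀ i, n i = 2 ^ m := by
    rcases isEmpty_or_nonempty ι with _ | ⟨⟨i⟩⟩
    · exact ⟨0, fun i => isEmptyElim i⟩
    · exact ⟨k i + 1, fun j => by rw [hk, le_antisymm (h2 i j) (h2 j i)]⟩
  obtain rfl : n = fun _ => 2 ^ m := funext hm
  exact ⟨m, Fintype.card ι, ⟨e.trans (MulEquiv.arrowCongr (Fintype.equivFin ι) (MulEquiv.refl _))⟩⟩

/-- Let G be a finite solvable group of even order whose Sylow 2-subgroups contain more than one involution, and suppose all involutions of G are conjugate. Then G has 2-length at most 1, and a Sylow 2-subgroup S of G is either homocyclic (a direct product of cyclic groups of one common order) or a non-abelian 2-group with more than one involution admitting a solvable group of automorphisms transitive on its involutions. -/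
theorem result {G : Type*} [Group G] [Finite G] (hG : Group.IsSolvable G) (heven : Even (Nat.card G)) (S : Sylow 2 G) (htwo : ∃ x y : G, x ∈ (S : Subgroup G) ∧ y ∈ (S : Subgroup G) ∧ x ≠ y ∧ x ≠ 1 ∧ x ^ 2 = 1 ∧ y ≠ 1 ∧ y ^ 2 = 1) (hconj : ∀ x y : G, x ≠ 1 → x ^ 2 = 1 → y ≠ 1 → y ^ 2 = 1 → IsConj x y) : Cfsg.PLengthLE 2 1 G ∧ ((∃ m r : ℕ, Nonempty (↥(S : Subgroup G) ≃* (Fin r → Multiplicative (ZMod (2 ^ m))))) ∨ (¬ IsMulCommutative (S : Subgroup G) ∧ ∃ Y : Subgroup (MulAut ↥(S : Subgroup G)), Group.IsSolvable Y ∧ ∀ x y : ↥(S : Subgroup G), x ≠ 1 → x ^ 2 = 1 → y ≠ 1 → y ^ 2 = 1 → ∃ a ∈ Y, a x = y)) := by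
  set π := QuotientGroup.mk' (pPrimeCore 2 G)
  have hπ : Function.Surjective π := QuotientGroup.mk'_surjective _
  have hinj : ∀ g : G, ∀ k, g ^ 2 ^ k = 1 → π g = 1 → g = 1 := fun g k hg h =>
    mem_bot.1 ((disjoint_iff.1 (disjoint_of_coprime_natCard (Cop.coprime_card_of_isPGroup
      (pPrimeCore_coprime 2) (H1.isPGroup_zpowers_of_pow hg)))).le
      ⟨(QuotientGroup.eq_one_iff g).1 h, mem_zpowers g⟩)
  have hinjS : ∀ g ∈ (S : Subgroup G), π g = 1 → g = 1 := fun g hg h => by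
    obtain ⟨k, hk⟩ := S.isPGroup' ⟨g, hg⟩
    exact hinj g k (congrArg Subtype.val hk) h
  have hconj' : ∀ x y : G ⧸ pPrimeCore 2 G, x ≠ 1 → x ^ 2 = 1 → y ≠ 1 → y ^ 2 = 1 →
      ∃ g, g * x * g⁻¹ = y := by
    have key : ∀ x : G ⧸ pPrimeCore 2 G, x ^ 2 = 1 → ∃ u, π u = x ∧ u ^ 2 = 1 := fun x hx => by
      obtain ⟨g, rfl⟩ := hπ x
      obtain ⟨u, -, hu, l, hl⟩ := exists_lift_pElement π g (p := 2) (k := 1) hx
      exact ⟨u, hu, hinj _ l (by rw [← pow_mul, mul_comm, pow_mul, hl, one_pow])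
        (by rw [map_pow, hu, hx])⟩
    intro x y hx1 hx hy1 hy
    obtain ⟨u, rfl, hu⟩ := key x hx
    obtain ⟨v, rfl, hv⟩ := key y hy
    obtain ⟨g, hg⟩ := isConj_iff.1 (hconj u v (fun h => hx1 (h ▸ map_one π)) hu
      (fun h => hy1 (h ▸ map_one π)) hv)
    exact ⟨π g, by rw [← hg, map_mul, map_mul, map_inv]⟩
  obtain ⟨a, b, haS, hbS, hab, ha1, ha, hb1, hb⟩ := htwo
  have hQ : ∀ k, ∀ x : G ⧸ pPrimeCore 2 G, x ^ 2 ^ k = 1 → x ∈ pCore 2 _ := by
    have key := @core _ _ _ inferInstance (pPrimeCore_quotient_pPrimeCore (G := G) 2) (π a) (π b)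
      (fun h => hab (mul_inv_eq_one.1 (hinjS _ (mul_mem haS (inv_mem hbS))
        (by rw [map_mul, map_inv, h, mul_inv_cancel]))))
      (fun h => ha1 (hinjS a haS h)) (by rw [← map_pow, ha, map_one])
      (fun h => hb1 (hinjS b hbS h)) (by rw [← map_pow, hb, map_one]) hconj'
    intro k
    induction k with
    | zero => intro x hx; rw [pow_zero, pow_one] at hx; exact hx ▸ one_mem _
    | succ k ih => exact fun x hx => key (ih _ (by rwa [← pow_mul, ← pow_succ']))
  have hS : (S : Subgroup G).map π = pCore 2 _ := by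
    refine le_antisymm ?_ ((pCore_isPGroup 2).le_sylow_of_normal (S.mapSurjective hπ))
    rintro _ ⟨g, hg, rfl⟩
    obtain ⟨k, hk⟩ := S.isPGroup' ⟨g, hg⟩
    exact hQ k _ (by rw [← map_pow, show g ^ 2 ^ k = 1 from congrArg Subtype.val hk, map_one])
  refine ⟨pLengthLE_one_of_sylow_le S (map_le_iff_le_comap.1 hS.le), ?_⟩
  let e : (S : Subgroup G) ≃* pCore 2 (G ⧸ pPrimeCore 2 G) :=
    (MulEquiv.ofBijective (π.subgroupMap S) ⟨(injective_iff_map_eq_one _).2 fun g hg =>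
      Subtype.ext (hinjS g g.2 (congrArg Subtype.val hg)), π.subgroupMap_surjective _⟩).trans
      (MulEquiv.subgroupCongr hS)
  let φ := (MulAut.congr e.symm).toMonoidHom.comp
    (MulAut.conjNormal (H := pCore 2 (G ⧸ pPrimeCore 2 G)))
  have htr : ∀ x y : (S : Subgroup G), x ≠ 1 → x ^ 2 = 1 → y ≠ 1 → y ^ 2 = 1 →
      ∃ f ∈ φ.range, f x = y := fun x y hx1 hx hy1 hy => by
    obtain ⟨g, hg⟩ := hconj' (e x) (e y) (fun h => hx1 (e.injective (Subtype.ext (by simpa using h))))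
      (by rw [← Subgroup.coe_pow, ← map_pow, hx, map_one, Subgroup.coe_one])
      (fun h => hy1 (e.injective (Subtype.ext (by simpa using h))))
      (by rw [← Subgroup.coe_pow, ← map_pow, hy, map_one, Subgroup.coe_one])
    exact ⟨φ g, ⟨g, rfl⟩, e.injective (Subtype.ext (by simpa [φ] using hg))⟩
  by_cases hc : IsMulCommutative (S : Subgroup G)
  · open scoped IsMulCommutative in
    exact Or.inl (homocyclic S.isPGroup' fun x y h1 h2 h3 h4 =>
      (htr x y h1 h2 h3 h4).imp fun f hf => hf.2)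
  · exact Or.inr ⟨hc, φ.range, Group.isSolvable_of_surjective φ.rangeRestrict_surjective, htr⟩

end Cfsg.Agent.S3797
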