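import Cfsg.Statements.S4034
import Mathlib
import Cfsg.Agent.Lib.H5PiClosed
import Cfsg.Agent.Lib.ClassSize
import Cfsg.Agent.Lib.Kazarin
import Cfsg.Agent.Lib.Hall

set_option autoImplicit false
open Cfsg

namespace Cfsg.Agent.S4034
open Subgroup CfsgLib CfsgLib.H5

/-- Let G be a finite group and p a prime. Every conjugacy class of p-regular elements of G (elements of order prime to p) has p-power size if and only if G has an abelian p-complement, i.e. an abelian subgroup of order prime to p and p-power index. -/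
theorem result {G : Type*} [Group G] [Finite G] {p : ℕ} (hp : p.Prime) :
    (∀ x : G, (orderOf x).Coprime p → ∃ k : ℕ, (ConjClasses.mk x).carrier.ncard = p ^ k) ↔
    (∃ H : Subgroup G, IsMulCommutative H ∧ ¬ p ∣ Nat.card H ∧ ∃ k : ℕ, H.index = p ^ k) := by
  have : Fact p.Prime := ⟨hp⟩
  have hcl : ∀ x : G, (ConjClasses.mk x).carrier.ncard = (centralizer ({x} : Set G)).index :=
    fun x => (Frob.index_centralizer_eq_card_carrier x).symm
  have hsolv : (∃ k, (solvableRadical G).index = p ^ k) → Group.IsSolvable G := fun h =>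
    isSolvable_of_normal_of_quotient _ solvableRadical_isSolvable
      (isSolvable_of_isPGroup (IsPGroup.iff_card.mpr h))
  simp only [hcl]
  constructor
  · intro h
    have hs : Group.IsSolvable G := by
      refine hsolv ((isPiNum_singleton_iff hp FiniteIndex.index_ne_zero).mp ?_)
      have := isPiNum_compl_index_of_forall_mem (π := {p}ᶜ) (K := solvableRadical G) fun x hx =>
        Chr.mem_solvableRadical_of_class_prime_pow hp
          (h x ((isPiNum_compl_singleton_iff hp).mp hx))
      rwa [compl_compl] at this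
    obtain ⟨H, hH⟩ := Hall.exists_isPiHall hs {p}ᶜ
    obtain ⟨hH1, hH2⟩ := Hall.isPiHall_compl_singleton_iff.mp hH
    refine ⟨H, ⟨⟨fun a b => Subtype.ext ?_⟩⟩, (Nat.Prime.coprime_iff_not_dvd hp).mp hH1.symm, hH2⟩
    have hsurj := QuotientGroup.mk'_surjective (pCore p G)
    have h1 : ∀ x ∈ H, QuotientGroup.mk' (pCore p G) x ∈ fittingSubgroup (G ⧸ pCore p G) ⊓
        centralizer (fittingSubgroup (G ⧸ pCore p G) : Set (G ⧸ pCore p G)) := by
      intro x hx
      refine Chr.mem_fitting_inf_centralizer_of_class_prime_pow (pCore_quotient_pCore p) ?_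
      obtain ⟨k, hk⟩ := h x (Nat.Coprime.coprime_dvd_left (orderOf_dvd_natCard H hx) hH1)
      obtain ⟨j, -, hj⟩ := (Nat.dvd_prime_pow hp).mp
        (hk ▸ Frob.index_centralizer_map_dvd _ hsurj x)
      exact ⟨j, hj⟩
    have h2 := (h1 b b.2).2 _ (h1 a a.2).1
    rw [← map_mul, ← map_mul, QuotientGroup.mk'_apply, QuotientGroup.mk'_apply,
      QuotientGroup.eq] at h2
    have h3 := disjoint_def.mp (disjoint_of_isPGroup_of_coprime (pCore_isPGroup p) hH1) h2
      (mul_mem (inv_mem (mul_mem a.2 b.2)) (mul_mem b.2 a.2))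
    exact inv_mul_eq_one.mp h3
  · rintro ⟨H, hab, hH1, k, hk⟩ x hx
    have h1 : ∀ y ∈ H, ∃ j, (centralizer ({y} : Set G)).index = p ^ j := by
      intro y hy
      have : H ≤ centralizer ({y} : Set G) := fun z hz => mem_centralizer_singleton_iff.mpr
        (congrArg Subtype.val (hab.is_comm.comm ⟨z, hz⟩ ⟨y, hy⟩))
      obtain ⟨j, -, hj⟩ := (Nat.dvd_prime_pow hp).mp (hk ▸ index_dvd_of_le this)
      exact ⟨j, hj⟩
    have hs : Group.IsSolvable G := by
      have : H ≤ solvableRadical G := fun y hy =>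
        Chr.mem_solvableRadical_of_class_prime_pow hp (h1 y hy)
      obtain ⟨j, -, hj⟩ := (Nat.dvd_prime_pow hp).mp (hk ▸ index_dvd_of_le this)
      exact hsolv ⟨j, hj⟩
    obtain ⟨g, hg⟩ := Hall.exists_conj_le_hall hs (U := zpowers x)
      (isPiSubgroup_zpowers_iff.mpr ((isPiNum_compl_singleton_iff hp).mpr hx))
      (Hall.isPiHall_compl_singleton_iff.mpr
        ⟨((Nat.Prime.coprime_iff_not_dvd hp).mpr hH1).symm, k, hk⟩)
    rw [← Frob.index_centralizer_conj g x]
    exact h1 _ (hg (conj_mem_map_conj (mem_zpowers x)))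

end Cfsg.Agent.S4034
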