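import Cfsg.Statements.S3776
import Cfsg.Agent.Lib.Suz.HigmanA
import Cfsg.Agent.Lib.Hall

set_option autoImplicit false
open Cfsg

namespace Cfsg.Agent.S3776

open Subgroup CfsgLib CfsgLib.Suz
open scoped commutatorElement

theorem exists_odd {G : Type*} [Group G] [Finite G] (hG : IsPGroup 2 G)
    (htwo : ∃ x y : G, x ≠ y ∧ x ≠ 1 ∧ x ^ 2 = 1 ∧ y ≠ 1 ∧ y ^ 2 = 1) (Y : Subgroup (MulAut G))
    (hs : Group.IsSolvable Y)
    (htr : ∀ x y : G, x ≠ 1 → x ^ 2 = 1 → y ≠ 1 → y ^ 2 = 1 → ∃ a ∈ Y, a x = y) :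
    ∃ H : Subgroup Y, HigSetup (Y.subtype.comp H.subtype) := by
  classical
  have : Fact (Nat.Prime 2) := ⟨Nat.prime_two⟩
  obtain ⟨H, hH⟩ := Hall.exists_isPiHall hs ({2}ᶜ : Set ℕ)
  obtain ⟨hH1, n, hH2⟩ := Hall.isPiHall_compl_singleton_iff.1 hH
  refine ⟨H, hG, Nat.coprime_two_right.1 hH1, inferInstance, ?_, htwo⟩
  have hmem : ∀ x : G, x ∈ omZ G ↔ x ^ 2 = 1 := by
    intro x
    refine ⟨fun hx => hx.2, fun hx => ⟨?_, hx⟩⟩
    by_cases hx1 : x = 1
    · rw [hx1]; exact one_mem _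
    have := hG.isNilpotent
    obtain ⟨z, -, hz1, hz⟩ := PGrp.exists_ne_one_mem_center_of_normal (⊤ : Subgroup G) (by
      intro h'
      have : x ∈ (⊤ : Subgroup G) := mem_top x
      rw [h', mem_bot] at this
      exact hx1 this)
    obtain ⟨h1, h2⟩ := exists_invol_of_isPGroup hG hz1
    obtain ⟨a, -, ha⟩ := htr _ _ h1 h2 hx1 hx
    rw [← ha]
    exact CopAut.inv_of_characteristic (φ := MonoidHom.id _) (center G) a _ (pow_mem hz _)
  intro x y hx1 hx hy1 hy
  have horb : MulAction.orbit Y x = (omZ G : Set G) \ {1} := by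
    ext z
    constructor
    · rintro ⟨a, rfl⟩
      refine ⟨(hmem _).2 ?_, fun h' => hx1 ((a : MulAut G).map_eq_one_iff.1 h')⟩
      change (a : MulAut G) x ^ 2 = 1
      rw [← map_pow, hx, map_one]
    · rintro ⟨h1, h2⟩
      obtain ⟨a, ha, hax⟩ := htr x z hx1 hx h2 ((hmem z).1 h1)
      exact ⟨⟨a, ha⟩, hax⟩
  have hodd : Odd (MulAction.stabilizer Y x).index := by
    rw [MulAction.index_stabilizer, horb, Set.ncard_sdiff_singleton_of_mem (one_mem _),
      ← Nat.card_coe_set_eq]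
    obtain ⟨k, hk⟩ := IsPGroup.iff_card.1 (hG.to_subgroup (omZ G))
    have hk0 : k ≠ 0 := by
      rintro rfl
      have : x ∈ omZ G := (hmem x).2 hx
      rw [Subgroup.card_eq_one.1 hk, mem_bot] at this
      exact hx1 this
    change Odd (Nat.card (omZ G) - 1)
    rw [hk]
    exact Nat.Even.sub_odd Nat.one_le_two_pow (Nat.even_pow.2 ⟨even_two, hk0⟩) odd_one
  have hdvd : (MulAction.stabilizer Y x).index ∣ (MulAction.stabilizer H x).index := by
    have h1 : MulAction.stabilizer H x = (MulAction.stabilizer Y x).subgroupOf H := by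
      ext a; rfl
    have h2 := relIndex_mul_index (inf_le_right : MulAction.stabilizer Y x ⊓ H ≤ H)
    have h3 := index_dvd_of_le (inf_le_left : MulAction.stabilizer Y x ⊓ H ≤ _)
    rw [← h2, inf_relIndex_right, hH2] at h3
    rw [h1]
    exact Nat.Coprime.dvd_of_dvd_mul_right
      (Nat.Coprime.pow_right _ (Nat.coprime_two_right.2 hodd)) h3
  have hsub : MulAction.orbit H x ⊆ MulAction.orbit Y x := by
    rintro _ ⟨a, rfl⟩
    exact ⟨a, rfl⟩
  have heq := Set.eq_of_subset_of_ncard_le hsub (by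
    rw [← MulAction.index_stabilizer, ← MulAction.index_stabilizer]
    exact Nat.le_of_dvd (Nat.pos_of_ne_zero index_ne_zero_of_finite) hdvd)
  have hy' : y ∈ MulAction.orbit H x := by
    rw [heq, horb]
    exact ⟨(hmem y).2 hy, hy1⟩
  exact hy'

/-- Let G be a finite non-abelian 2-group with more than one involution admitting a solvable group of automorphisms that permutes its involutions transitively. Then the derived subgroup, the Frattini subgroup and the centre of G coincide and consist exactly of the elements x with x² = 1. -/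
theorem result {G : Type*} [Group G] [Finite G] (hG : IsPGroup 2 G) (hna : ¬ IsMulCommutative G) (htwo : ∃ x y : G, x ≠ y ∧ x ≠ 1 ∧ x ^ 2 = 1 ∧ y ≠ 1 ∧ y ^ 2 = 1) (hY : ∃ Y : Subgroup (MulAut G), Group.IsSolvable Y ∧ ∀ x y : G, x ≠ 1 → x ^ 2 = 1 → y ≠ 1 → y ^ 2 = 1 → ∃ a ∈ Y, a x = y) : commutator G = frattini G ∧ frattini G = Subgroup.center G ∧ ∀ x : G, x ∈ Subgroup.center G ↔ x ^ 2 = 1 := by
  obtain ⟨Y, hs, htr⟩ := hY
  obtain ⟨H, h⟩ := exists_odd hG htwo Y hs htr
  have hnc : ∃ u v : G, ⁅u, v⁆ ≠ 1 := by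
    by_contra hcon
    push Not at hcon
    exact hna ⟨⟨fun a b => commutatorElement_eq_one_iff_mul_comm.1 (hcon a b)⟩⟩
  rw [h.commutator_eq hnc, h.frattini_eq hnc, h.center_eq hnc]
  exact ⟨rfl, rfl, fun x => h.mem_omZ⟩

end Cfsg.Agent.S3776
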