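import Cfsg.Statements.S4200
import Cfsg.Agent.Lib.ClassCount

set_option autoImplicit false
open Cfsg

namespace Cfsg.Agent.S4200

open CfsgLib.ClassCount Subgroup


/-- Let Y be a subgroup of the finite group X, of index m. Then the numbers of conjugacy classes satisfy k(Y) ≤ m·k(X) and k(X) ≤ m·k(Y), and the second inequality is strict unless Y is normal in X. -/
theorem result {X : Type*} [Group X] [Finite X] (Y : Subgroup X) : Nat.card (ConjClasses Y) ≤ Y.index * Nat.card (ConjClasses X) ∧ Nat.card (ConjClasses X) ≤ Y.index * Nat.card (ConjClasses Y) ∧ (¬ Y.Normal → Nat.card (ConjClasses X) < Y.index * Nat.card (ConjClasses Y)) := by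
  classical
  have := Fintype.ofFinite X
  have hm : 0 < Y.index := Nat.pos_of_ne_zero index_ne_zero_of_finite
  have hY : 0 < Nat.card Y := Nat.card_pos
  have hXY := Y.card_mul_index
  have hle : ∀ x : X, Nat.card (centralizer ({x} : Set X)) ≤
      Y.index * Nat.card (Y ⊓ centralizer ({x} : Set X) : Subgroup X) := fun x => by
    rw [← card_mul_relIndex_inf Y, mul_comm]
    exact Nat.mul_le_mul_right _ (relIndex_le_index _ _)
  have h1 : Nat.card (ConjClasses X) * Nat.card X ≤
      Y.index * ∑ y : Y, Nat.card (centralizer ({(y : X)} : Set X)) := by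
    rw [card_conjClasses_mul_card]
    refine (Finset.sum_le_sum fun x _ => hle x).trans ?_
    rw [← Finset.mul_sum, sum_card_inf_centralizer]
    simp_rw [card_centralizer_eq_card_filter]
    rfl
  have h2 : Y.index * (Nat.card (ConjClasses Y) * Nat.card Y) =
      ∑ y : Y, Y.index * Nat.card (Y ⊓ centralizer ({(y : X)} : Set X) : Subgroup X) := by
    rw [card_conjClasses_mul_card, Finset.mul_sum]
    simp_rw [card_centralizer_subgroup]
  refine ⟨?_, ?_, fun hn => ?_⟩
  · have h := Y.commProb_subgroup_le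
    rw [commProb_def', commProb_def', ← hXY] at h
    have hm' : (0 : ℚ) < Y.index := by exact_mod_cast hm
    have hY' : (0 : ℚ) < Nat.card Y := by exact_mod_cast hY
    rw [div_le_iff₀ hY'] at h
    have e : (Nat.card (ConjClasses X) : ℚ) / ((Nat.card Y * Y.index : ℕ) : ℚ) * (Y.index : ℚ) ^ 2 *
        Nat.card Y = ((Y.index * Nat.card (ConjClasses X) : ℕ) : ℚ) := by
      push_cast; field_simp
    rw [e] at h
    exact_mod_cast h
  · have h3 := h1.trans (Nat.mul_le_mul_left _ ((Finset.sum_le_sum fun (y : Y) _ => hle y).trans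
      h2.ge))
    rw [← hXY] at h3
    refine Nat.le_of_mul_le_mul_right (h3.trans (le_of_eq ?_)) (Nat.mul_pos hY hm)
    ring
  · have : ∃ y : Y, Nat.card (centralizer ({(y : X)} : Set X)) <
        Y.index * Nat.card (Y ⊓ centralizer ({(y : X)} : Set X) : Subgroup X) := by
      by_contra hcon
      push Not at hcon
      refine hn ⟨fun y hy g => ?_⟩
      have h4 := hcon ⟨y, hy⟩
      rw [← card_mul_relIndex_inf Y (centralizer ({y} : Set X)), mul_comm] at h4
      have h5 := le_antisymm (relIndex_le_index Y _) (Nat.le_of_mul_le_mul_left h4 Nat.card_pos)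
      obtain ⟨c, hc, z, hz, e⟩ := (relIndex_eq_index_iff _ _).mp h5 g⁻¹
      rw [mem_centralizer_singleton_iff] at hc
      have : g * y * g⁻¹ = z⁻¹ * y * z := by
        rw [← inv_inv g, e]
        calc (c * z)⁻¹ * y * (c * z)⁻¹⁻¹ = z⁻¹ * c⁻¹ * (y * c) * z := by group
          _ = _ := by rw [← hc]; group
      rw [this]
      exact mul_mem (mul_mem (inv_mem hz) hy) hz
    obtain ⟨y, hy⟩ := this
    have h3 := h1.trans_lt (Nat.mul_lt_mul_of_pos_left
      ((Finset.sum_lt_sum (fun (y : Y) _ => hle y) ⟨y, Finset.mem_univ _, hy⟩).trans_le h2.ge) hm)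
    rw [← hXY] at h3
    refine Nat.lt_of_mul_lt_mul_right (a := Nat.card Y * Y.index) (h3.trans_le (le_of_eq ?_))
    ring

end Cfsg.Agent.S4200
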