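import Cfsg.Statements.S4020
import Mathlib
import Cfsg.Agent.Lib.H5Cube

set_option autoImplicit false
open Cfsg

namespace Cfsg.Agent.S4020
open Subgroup CfsgLib CfsgLib.H5

/-- Let G be a finite group in which, for every prime p, any two p-subgroups of the same order are conjugate. Then every Sylow subgroup of G is cyclic, elementary abelian, or a quaternion group of order 8. -/
theorem result {G : Type*} [Group G] [Finite G]
    (hD : ∀ p : ℕ, p.Prime → ∀ H K : Subgroup G, IsPGroup p H → IsPGroup p K → Nat.card H = Nat.card K →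
      ∃ g : G, K = H.map (MulAut.conj g).toMonoidHom) {p : ℕ} [Fact p.Prime] (P : Sylow p G) :
    IsCyclic P ∨ Cfsg.IsElementaryAbelian p (P : Subgroup G) ∨ Nonempty ((P : Subgroup G) ≃* QuaternionGroup 2) := by
  rcases ConjPSub.sylow_cases (hD p Fact.out) P with h | h | h | ⟨h1, h2, h3, h4⟩
  · exact Or.inl h
  · exact Or.inr (Or.inl h)
  · exact Or.inr (Or.inr h.2)
  · exfalso
    obtain ⟨z, hz⟩ := exists_cube h3 h2
    refine ConjPSub.false_of_cube h1 (hD p Fact.out) P hz h4 fun T hT y hy t ht => ?_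
    obtain ⟨S, hS⟩ := hT.exists_le_sylow
    have hab : IsMulCommutative S → y⁻¹ * t * y = t ∨ y⁻¹ * t * y = t⁻¹ := fun h => Or.inl (by
      rw [mul_assoc, PGrp.isMulCommutative_iff_forall.mp h t (hS ht) y (hS hy),
        inv_mul_cancel_left])
    rcases ConjPSub.sylow_cases (hD 2 Nat.prime_two) S with h | h | ⟨-, ⟨e⟩⟩ | ⟨h, -⟩
    · exact hab inferInstance
    · exact hab h.1
    · have key : ∀ a b : QuaternionGroup 2, a⁻¹ * b * a = b ∨ a⁻¹ * b * a = b⁻¹ := by decide
      rcases key (e ⟨y, hS hy⟩) (e ⟨t, hS ht⟩) with h | h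
      · rw [← map_inv, ← map_mul, ← map_mul] at h
        exact Or.inl (congrArg Subtype.val (e.injective h))
      · rw [← map_inv, ← map_mul, ← map_mul, ← map_inv] at h
        exact Or.inr (congrArg Subtype.val (e.injective h))
    · exact absurd rfl h

end Cfsg.Agent.S4020
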