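import Cfsg.Statements.S3806
import Mathlib
import Cfsg.Agent.Lib.H5MaxClass

set_option autoImplicit false
open Cfsg

namespace Cfsg.Agent.S3806
open Subgroup Cfsg CfsgLib CfsgLib.H5
open scoped commutatorElement

theorem pRankLE_quotient {S : Type*} [Group S] {p k : ℕ} (h : SectionalPRankLE p k S)
    (N : Subgroup S) [N.Normal] : PRankLE p k (S ⧸ N) := by
  have := h ⊤ (N.subgroupOf ⊤)
  refine (FT.pRankLE_congr (QuotientGroup.congr (N.subgroupOf ⊤) N topEquiv ?_)).1 this
  exact map_comap_eq_self_of_surjective (f := (⊤ : Subgroup S).subtype)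
    (fun x => ⟨⟨x, mem_top x⟩, rfl⟩) N

/-- Let p be a prime and S a finite p-group of order pⁿ (n ≥ 2) of maximal nilpotency class n − 1 whose sectional p-rank is exactly k (every section has p-rank at most k, and some section has p-rank k). If p ≥ k + 2 then the order of S is at most p^(2k). -/
theorem result {S : Type*} [Group S] [Finite S] (p : ℕ) [Fact p.Prime] (hS : IsPGroup p S) [Group.IsNilpotent S]
    (n : ℕ) (hn : 2 ≤ n) (hcard : Nat.card S = p ^ n) (hmax : Group.nilpotencyClass S = n - 1)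
    (k : ℕ) (hk : 1 ≤ k) (hsr : Cfsg.SectionalPRankLE p k S ∧ ¬ Cfsg.SectionalPRankLE p (k - 1) S)
    (hpk : k + 2 ≤ p) : Nat.card S ≤ p ^ (2 * k) := by
  have hpp := (Fact.out : p.Prime)
  rw [hcard]
  refine Nat.pow_le_pow_right hpp.pos ?_
  by_contra hcon
  have hM : MaxCl p n S := ⟨hcard, by omega,
    (PGrp.nilpotencyClass_eq_iff_lowerCentralSeries_ne_bot hcard hn).1 hmax⟩
  -- the section `L (k - 1) / L j` is elementary abelian of order `p ^ (k + 1)`
  obtain ⟨j, hj1, hj2, hj3⟩ : ∃ j, Nat.card ((⊤ : Subgroup S).lowerCentralSeries (k - 1)) =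
      p ^ (k + 1) * Nat.card ((⊤ : Subgroup S).lowerCentralSeries j) ∧
      (∀ a ∈ (⊤ : Subgroup S).lowerCentralSeries (k - 1),
        a ^ p ∈ (⊤ : Subgroup S).lowerCentralSeries j) ∧
      ∀ a ∈ (⊤ : Subgroup S).lowerCentralSeries (k - 1),
        ∀ b ∈ (⊤ : Subgroup S).lowerCentralSeries (k - 1),
          ⁅a, b⁆ ∈ (⊤ : Subgroup S).lowerCentralSeries j := by
    by_cases hk1 : k = 1
    · subst hk1
      refine ⟨1, ?_, fun a _ => hM.pow_mem_lcs le_rfl (by omega) (by omega) a,
        fun a ha b _ => comm_mem_lcs_left ha b⟩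
      rw [hM.card_lcs_one, ← pow_add, show 1 + 1 + (n - 2) = n by omega, ← hcard]
      exact card_top
    · refine ⟨2 * k, ?_, fun a ha => ?_, fun a ha b hb => ?_⟩
      · rw [hM.card_lcs (by omega), hM.card_lcs (by omega), ← pow_add]
        congr 1; omega
      · have := pow_mem_lcs_add (m := k + 1) (by omega)
          (hM.pow_mem_lcs (by omega) (by omega) (by omega)) _ a ha
        rwa [show k - 1 + (k + 1) = 2 * k by omega] at this
      · have h1 : ∀ c ∈ (⊤ : Subgroup S).lowerCentralSeries (k - 1 + 1),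
            ∀ d ∈ (⊤ : Subgroup S).lowerCentralSeries (k - 1),
              ⁅d, c⁆ ∈ (⊤ : Subgroup S).lowerCentralSeries (2 * k) := fun c hc d hd => by
          have := CommCalc.commutator_mem_lcs hd hc
          rwa [show k - 1 + (k - 1 + 1) + 1 = 2 * k by omega] at this
        by_cases ha' : a ∈ (⊤ : Subgroup S).lowerCentralSeries (k - 1 + 1)
        · rw [← commutatorElement_inv]; exact inv_mem (h1 a ha' b hb)
        · exact mem_relCent_single.1 (le_of_card_le_mul (hS.to_subgroup _)
            (lcs_le_of_le (k - 1).le_succ) (hM.card_lcs_le (by omega)) ha ha'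
            (fun c hc => mem_relCent_single.2 (h1 c hc a ha))
            (mem_relCent_single.2 (by simp)) hb)
  have hle : (⊤ : Subgroup S).lowerCentralSeries j ≤ (⊤ : Subgroup S).lowerCentralSeries (k - 1) := by
    by_contra h
    have h1 := card_le_of_le (lcs_le_of_le (G := S) (show j ≤ k - 1 by
      by_contra h'; exact h (lcs_le_of_le (by omega))))
    rw [hj1] at h1
    have h2 := Nat.le_of_mul_le_mul_right (h1.trans (one_mul _).ge) Nat.card_pos
    exact absurd h2 (not_le.2 (Nat.one_lt_pow (by omega) hpp.one_lt))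
  have h1 := FT.pRankLE_iff'.1 (pRankLE_quotient hsr.1 ((⊤ : Subgroup S).lowerCentralSeries j))
    (((⊤ : Subgroup S).lowerCentralSeries (k - 1)).map (QuotientGroup.mk' _)) (FT.elemAb_iff.2 ⟨by
      rintro _ ⟨a, ha, rfl⟩ _ ⟨b, hb, rfl⟩
      rw [← commutatorElement_eq_one_iff_mul_comm, ← map_commutatorElement]
      exact (QuotientGroup.eq_one_iff _).2 (hj3 a ha b hb), by
      rintro _ ⟨a, ha, rfl⟩
      exact (QuotientGroup.eq_one_iff _).2 (hj2 a ha)⟩)
  have h2 := card_map_mk'_mul_card_inf ((⊤ : Subgroup S).lowerCentralSeries (k - 1))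
    ((⊤ : Subgroup S).lowerCentralSeries j)
  rw [inf_eq_left.2 hle, hj1] at h2
  rw [Nat.eq_of_mul_eq_mul_right Nat.card_pos h2] at h1
  exact absurd ((Nat.pow_le_pow_iff_right hpp.one_lt).1 h1) (by omega)

end Cfsg.Agent.S3806
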