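import Cfsg.Statements.S3807
import Cfsg.Agent.Lib.CoreAbelianMax
import Cfsg.Agent.Lib.SubgroupCount
import Cfsg.Agent.Lib.CoreElements

set_option autoImplicit false
open Cfsg

namespace Cfsg.Agent.S3807

open Subgroup CfsgLib
open scoped Pointwise commutatorElement



theorem result {S : Type*} [Group S] [Finite S] (p : ℕ) [Fact p.Prime] (hS : IsPGroup p S) (hna : ¬ IsMulCommutative S)
    (A : Subgroup S) (hA : IsMulCommutative ↥A) (hAi : A.index = p) :
    (Subgroup.center S).index = p * Nat.card (commutator S) ∧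
      ((Nat.card (commutator S) = p ∧ Cfsg.IsElementaryAbelian p (⊤ : Subgroup (S ⧸ Subgroup.center S)) ∧
          Nat.card (S ⧸ Subgroup.center S) = p ^ 2 ∧
          Nat.card {B : Subgroup S // IsMulCommutative ↥B ∧ B.index = p} = p + 1) ∨
        (p ^ 2 ≤ Nat.card (commutator S) ∧ ∀ B : Subgroup S, IsMulCommutative ↥B → B.index = p → B = A)) := by
  have hp : p.Prime := Fact.out
  have := PGrp.normal_of_index_eq_prime hS hAi
  have h1 := index_center_of_abelian_index_prime hp hna hA hAi
  refine ⟨h1, ?_⟩
  obtain ⟨k, hk⟩ := (hS.to_subgroup (commutator S)).exists_card_eq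
  have hk0 : k ≠ 0 := by
    rintro rfl
    rw [pow_zero, card_eq_one] at hk
    exact hna ((_root_.commutator_eq_bot_iff S).mp hk)
  rcases Nat.lt_or_ge k 2 with h2 | h2
  · left
    obtain rfl : k = 1 := by omega
    rw [pow_one] at hk
    have hc : Nat.card (S ⧸ center S) = p ^ 2 := by rw [sq, ← index, h1, hk]
    have hnc : ¬ IsCyclic (S ⧸ center S) := fun h => hna
      ⟨⟨fun a b => (commutative_of_cyclic_center_quotient (QuotientGroup.mk' (center S))
        (by rw [QuotientGroup.ker_mk']) a b)⟩⟩
    have hexp : ∀ x : S ⧸ center S, x ^ p = 1 := fun x => by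
      obtain ⟨j, hj, h3⟩ := (Nat.dvd_prime_pow hp).mp (hc ▸ orderOf_dvd_natCard x)
      rcases Nat.lt_or_ge j 2 with h4 | h4
      · rw [← orderOf_dvd_iff_pow_eq_one, h3]
        exact (pow_dvd_pow p (Nat.lt_succ_iff.mp h4)).trans (pow_one p).dvd
      · exact absurd (isCyclic_of_orderOf_eq_card x (by rw [h3, hc, le_antisymm hj h4])) hnc
    refine ⟨hk, ⟨⟨⟨fun a b => Subtype.ext (IsPGroup.commutative_of_card_eq_prime_sq hc _ _)⟩⟩,
      fun a _ => hexp a⟩, hc, ?_⟩
    have h3 := H4.ncard_orderOf_eq_mul_totient (G := S ⧸ center S) p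
    have h4 : {x : S ⧸ center S | orderOf x = p} = Set.univ \ {1} := by
      ext x
      simp only [Set.mem_setOf_eq, Set.mem_diff, Set.mem_univ, true_and, Set.mem_singleton_iff]
      exact ⟨fun h h5 => hp.one_lt.ne (by rw [← h, h5, orderOf_one]),
        fun h => orderOf_eq_prime (hexp x) h⟩
    rw [h4, Set.ncard_diff_singleton_of_mem (Set.mem_univ _), Set.ncard_univ, hc,
      Nat.totient_prime hp] at h3
    have h5 : Nat.card {B : Subgroup S // IsMulCommutative ↥B ∧ B.index = p} =
        {H : Subgroup (S ⧸ center S) | Nat.card H = p ∧ IsCyclic H}.ncard := by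
      have hs := QuotientGroup.mk'_surjective (center S)
      have h6 : ∀ H : Subgroup (S ⧸ center S), Nat.card H = p ↔ H.index = p := fun H => by
        have := H.index_mul_card
        rw [hc, sq] at this
        exact ⟨fun h => Nat.eq_of_mul_eq_mul_right hp.pos (h ▸ this),
          fun h => Nat.eq_of_mul_eq_mul_left hp.pos (h ▸ this)⟩
      rw [← Set.ncard_image_of_injective _ (comap_injective hs)]
      show Set.ncard {B : Subgroup S | IsMulCommutative ↥B ∧ B.index = p} = _
      congr 1
      ext B
      constructor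
      · rintro ⟨hB1, hB2⟩
        have h7 : (B.map (QuotientGroup.mk' (center S))).comap (QuotientGroup.mk' (center S)) = B :=
          comap_map_eq_self (by
            rw [QuotientGroup.ker_mk']; exact center_le_of_abelian_index_prime hp hna hB1 hB2)
        have h8 := (h6 (B.map (QuotientGroup.mk' (center S)))).mpr (by
          rw [← index_comap_of_surjective _ hs, h7, hB2])
        exact ⟨_, ⟨h8, isCyclic_of_prime_card h8⟩, h7⟩
      · rintro ⟨H, ⟨hH1, hH2⟩, rfl⟩
        refine ⟨⟨⟨commutative_of_cyclic_center_quotient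
          ((QuotientGroup.mk' (center S)).subgroupComap H) fun x hx => ?_⟩⟩, ?_⟩
        · have : (x : S) ∈ center S := (QuotientGroup.eq_one_iff _).mp (congrArg Subtype.val hx)
          exact mem_center_iff.mpr fun g => Subtype.ext (mem_center_iff.mp this g)
        · rw [index_comap_of_surjective _ hs, (h6 H).mp hH1]
    rw [h5]
    obtain ⟨q, rfl⟩ : ∃ q, p = q + 1 := ⟨p - 1, by have := hp.pos; omega⟩
    have hq : 0 < q := by have := hp.two_le; omega
    refine Nat.eq_of_mul_eq_mul_right hq ?_
    rw [Nat.add_sub_cancel] at h3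
    rw [← h3]
    exact Nat.sub_eq_of_eq_add (by ring)
  · right
    have h3 : p ^ 2 ≤ Nat.card (commutator S) := hk ▸ Nat.pow_le_pow_right hp.pos h2
    refine ⟨h3, fun B hB hBi => by_contra fun hne => ?_⟩
    have h4 : A ⊔ B = ⊤ := sup_eq_top_of_index_prime hp hAi fun h =>
      hne (eq_of_le_of_card_le h (by
        have := A.index_mul_card.trans B.index_mul_card.symm
        rw [hAi, hBi] at this
        exact (Nat.eq_of_mul_eq_mul_left hp.pos this).le))
    have h5 : A ⊓ B ≤ center S := by
      rw [← centralizer_univ, ← coe_top, ← h4, le_centralizer_iff]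
      exact sup_le (fun a ha c hc => PGrp.isMulCommutative_iff_forall.mp hA _ hc.1 _ ha)
        (fun a ha c hc => PGrp.isMulCommutative_iff_forall.mp hB _ hc.2 _ ha)
    have h6 := (Nat.le_of_dvd (Nat.pos_of_ne_zero index_ne_zero_of_finite)
      (index_dvd_of_le h5)).trans (index_inf_le (H := A) (K := B))
    rw [h1, hAi, hBi] at h6
    have h7 := (Nat.le_of_mul_le_mul_left h6 hp.pos)
    have := hp.one_lt
    nlinarith

end Cfsg.Agent.S3807
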