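import Cfsg.Statements.S3808
import Cfsg.Agent.Lib.CoreAbelianMax
import Cfsg.Agent.Lib.Extraspecial

set_option autoImplicit false
open Cfsg

namespace Cfsg.Agent.S3808

open Subgroup CfsgLib
open scoped Pointwise commutatorElement



theorem result {S : Type*} [Group S] [Finite S] (p : ℕ) [Fact p.Prime] (hS : IsPGroup p S) (Q : Subgroup S) (hQ : Cfsg.IsExtraspecial p ↥Q) (hQi : Q.index = p) :
    Subgroup.center S = (Subgroup.center ↥Q).map Q.subtype ∨
      (Q ⊔ Subgroup.center S = ⊤ ∧ Nat.card (Subgroup.center S) = p ^ 2) := by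
  have hp : p.Prime := Fact.out
  have := PGrp.normal_of_index_eq_prime hS hQi
  have hZ : Nat.card ((center Q).map Q.subtype) = p := by rw [card_map_subtype, hQ.2]
  have h1 : (center Q).map Q.subtype ≤ center S := PGrp.le_center_of_card_eq_prime hS _ hZ
  have h2 : Q ⊓ center S = (center Q).map Q.subtype := le_antisymm
    (by rw [PGrp.map_subtype_center_eq]; exact inf_le_inf_left _ (center_le_centralizer _))
    (le_inf (map_subtype_le _) h1)
  by_cases h : center S ≤ Q
  · exact Or.inl (by rw [← h2, inf_eq_right.mpr h])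
  · have h3 := sup_eq_top_of_index_prime hp hQi h
    refine Or.inr ⟨h3, ?_⟩
    have h4 := card_sup_mul_card_inf (H := Q) (N := center S) le_normalizer_of_normal
    rw [h3, h2, hZ, card_top, ← Q.index_mul_card, hQi] at h4
    refine Nat.eq_of_mul_eq_mul_left (Nat.card_pos (α := Q)) ?_
    rw [← h4]; ring

end Cfsg.Agent.S3808
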