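import Cfsg.Statements.S3809
import Cfsg.Agent.Lib.CoreAbelianMax
import Cfsg.Agent.Lib.Extraspecial

set_option autoImplicit false
open Cfsg

namespace Cfsg.Agent.S3809

open Subgroup CfsgLib
open scoped Pointwise commutatorElement



theorem result {S : Type*} [Group S] [Finite S] (p : ℕ) [Fact p.Prime] (hS : IsPGroup p S) (Q : Subgroup S) (hQ : Cfsg.IsExtraspecial p ↥Q) (hQi : Q.index = p) :
    (∃ n : ℕ, 1 ≤ n ∧ Nat.card S = p ^ (2 + 2 * n)) ∧ derivedSeries S 3 = ⊥ ∧ ∀ x : S, x ^ (p ^ 3) = 1 := by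
  have hp : p.Prime := Fact.out
  have := PGrp.normal_of_index_eq_prime hS hQi
  refine ⟨?_, ?_, fun x => ?_⟩
  · obtain ⟨n, hn, h⟩ := PGrp.IsExtraspecial.exists_card_eq hQ
    exact ⟨n, hn, by rw [← Q.index_mul_card, hQi, h]; ring⟩
  · have h1 : derivedSeries S 1 ≤ Q := PGrp.commutator_le_of_index_eq_prime Q hQi
    have h2 : derivedSeries S 2 ≤ (center Q).map Q.subtype := by
      refine (commutator_mono h1 h1).trans ?_
      rw [← map_subtype_commutator, hQ.1.2.2]
    rw [eq_bot_iff]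
    refine (commutator_mono h2 h2).trans ?_
    rw [← map_commutator, commutator_eq_bot_iff_le_centralizer.mpr (center_le_centralizer _),
      Subgroup.map_bot]
  · have h1 : x ^ p ∈ Q := hQi ▸ Q.pow_index_mem x
    have h2 := PGrp.IsExtraspecial.pow_mem hQ ⟨_, h1⟩
    have h3 := pow_card_eq_one' (x := (⟨_, h2⟩ : center Q))
    rw [hQ.2] at h3
    have h4 : ((x ^ p) ^ p) ^ p = 1 := congrArg (fun t : center Q => ((t : Q) : S)) h3
    rwa [← pow_mul, ← pow_mul, show p * (p * p) = p ^ 3 by ring] at h4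

end Cfsg.Agent.S3809
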