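import Cfsg.Statements.S3810
import Cfsg.Agent.Lib.CoreAbelianMax
import Cfsg.Agent.Lib.Extraspecial
import Cfsg.Agent.Lib.PGroupMaxClass

set_option autoImplicit false
open Cfsg

namespace Cfsg.Agent.S3810

open Subgroup CfsgLib
open scoped Pointwise commutatorElement



theorem result {S : Type*} [Group S] [Finite S] (p : ℕ) [Fact p.Prime] (hS : IsPGroup p S) (Q : Subgroup S) (hQ : Cfsg.IsExtraspecial p ↥Q) (hQi : Q.index = p) :
    (∃ A : Subgroup S, IsMulCommutative ↥A ∧ A.index = p) ↔ Nat.card S = p ^ 4 := by
  have hp : p.Prime := Fact.out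
  have := PGrp.normal_of_index_eq_prime hS hQi
  have hna := PGrp.IsExtraspecial.not_isMulCommutative hQ
  constructor
  · rintro ⟨A, hA, hAi⟩
    have := PGrp.normal_of_index_eq_prime hS hAi
    have h1 : ¬ Q ≤ A := fun h => hna (PGrp.isMulCommutative_of_le h hA)
    have h2 : (A.subgroupOf Q).index = p := by
      rw [← relIndex, ← relIndex_sup_left, sup_eq_top_of_index_prime hp hAi h1, relIndex_top_right,
        hAi]
    have h3 := index_center_of_abelian_index_prime hp hna (A := A.subgroupOf Q) inferInstance h2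
    rw [← Q.index_mul_card, ← (center Q).index_mul_card, h3, hQ.1.2.2, hQ.2, hQi]
    ring
  · intro h
    obtain ⟨N, hN, -, hNc⟩ := PGrp.exists_normal_le_card_eq_pow hS ⊤ 2
      (by rw [card_top, h]; exact Nat.pow_le_pow_right hp.pos (by omega))
    have hNC : N ≤ centralizer (N : Set S) := fun a ha b hb =>
      congrArg Subtype.val (IsPGroup.commutative_of_card_eq_prime_sq hNc ⟨b, hb⟩ ⟨a, ha⟩)
    obtain ⟨A, hA, h1, h2, h3⟩ := PGrp.exists_normal_card_eq_pow_between hS N
      (centralizer (N : Set S)) hNC 3 (by rw [hNc]; exact Nat.pow_le_pow_right hp.pos (by omega)) (by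
        have h4 := (centralizer (N : Set S)).index_mul_card
        have h5 := Nat.mul_le_mul_right (Nat.card (centralizer (N : Set S)))
          (PGrp.index_centralizer_le_of_card_sq hS N hNc)
        rw [h4, h, pow_succ'] at h5
        exact Nat.le_of_mul_le_mul_left h5 hp.pos)
    refine ⟨A, ?_, ?_⟩
    · have h4 : Nat.card (A ⧸ N.subgroupOf A) = p := by
        have := card_mul_relIndex h1
        rw [hNc, h3, pow_succ p 2] at this
        exact Nat.eq_of_mul_eq_mul_left (pow_pos hp.pos 2) this
      have := isCyclic_of_prime_card h4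
      refine ⟨⟨commutative_of_cyclic_center_quotient (QuotientGroup.mk' (N.subgroupOf A)) ?_⟩⟩
      rw [QuotientGroup.ker_mk']
      intro x hx
      exact mem_center_iff.mpr fun g => Subtype.ext (h2 g.2 x hx).symm
    · have := A.index_mul_card
      rw [h3, h, pow_succ' p 3] at this
      exact Nat.eq_of_mul_eq_mul_right (pow_pos hp.pos 3) this

end Cfsg.Agent.S3810
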