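import Cfsg.Statements.S3811
import Cfsg.Agent.Lib.CoreBasic
import Cfsg.Agent.Lib.CoreFitting
import Cfsg.Agent.Lib.CorePiSep
import Cfsg.Agent.Lib.PGroupBasic
import Cfsg.Agent.Lib.ClassSize
import Cfsg.Agent.Lib.CoprimeAction

set_option autoImplicit false
open Cfsg

namespace Cfsg.Agent.S3811

open Subgroup CfsgLib
open scoped Pointwise commutatorElement

universe u

def Soft {G : Type*} [Group G] (p : ℕ) (A : Subgroup G) : Prop :=
  A ≤ centralizer (A : Set G) ∧ centralizer (A : Set G) ≤ A ∧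
    Nat.card (normalizer (A : Set G)) = p * Nat.card A

section
variable {G : Type*} [Group G] [Finite G] {p : ℕ} [hp : Fact p.Prime]

theorem mem_normalizer_of_map_conj_le {g : G} {H : Subgroup G}
    (h : H.map (MulAut.conj g).toMonoidHom ≤ H) : g ∈ normalizer (H : Set G) :=
  mem_normalizer_of_conj_mem fun x hx => h ⟨x, hx, rfl⟩

theorem between {X Y W : Subgroup G} (h : Nat.card Y = p * Nat.card X) (h1 : X ≤ W) (h2 : W ≤ Y) :
    W = X ∨ W = Y := by
  have e1 := card_mul_relIndex h1
  have e2 := card_mul_relIndex h2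
  have hpos : 0 < Nat.card X := Nat.card_pos
  have : X.relIndex W * W.relIndex Y = p := by
    apply Nat.eq_of_mul_eq_mul_left hpos
    rw [← mul_assoc, e1, e2, h, mul_comm]
  rcases (Nat.dvd_prime hp.out).1 (Dvd.intro _ this) with h3 | h3
  · exact Or.inl (le_antisymm (relIndex_eq_one.1 h3) h1)
  · rw [h3] at this
    have h4 : W.relIndex Y = 1 := by
      apply Nat.eq_of_mul_eq_mul_left hp.out.pos
      rw [this, mul_one]
    exact Or.inr (le_antisymm h2 (relIndex_eq_one.1 h4))

theorem exists_max (hG : IsPGroup p G) {A K : Subgroup G} (h : A < K) :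
    ∃ L, A ≤ L ∧ L ≤ K ∧ Nat.card K = p * Nat.card L ∧ K ≤ normalizer (L : Set G) := by
  have h1 : A.subgroupOf K ≠ ⊤ := by rw [Ne, subgroupOf_eq_top]; exact h.not_ge
  obtain ⟨M, hM, hAM⟩ := (eq_top_or_exists_le_coatom _).resolve_left h1
  have hi := (PGrp.isCoatom_iff_index_eq (hG.to_subgroup K)).1 hM
  haveI : M.Normal := PGrp.normal_of_index_eq_prime (hG.to_subgroup K) hi
  refine ⟨M.map K.subtype, ?_, map_subtype_le _, ?_, ?_⟩
  · intro a ha
    exact ⟨⟨a, h.le ha⟩, hAM ha, rfl⟩
  · rw [card_map_of_injective K.subtype_injective, ← M.card_mul_index, hi, mul_comm]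
  · intro k hk
    have := M.le_normalizer_map K.subtype
    rw [normalizer_eq_top] at this
    exact this ⟨⟨k, hk⟩, trivial, rfl⟩

theorem Soft.lt {A : Subgroup G} (h : Soft p A) : A < normalizer (A : Set G) := by
  refine lt_of_le_of_ne le_normalizer fun he => ?_
  have := h.2.2
  rw [← he] at this
  have hpos : 0 < Nat.card A := Nat.card_pos
  have := hp.out.one_lt
  nlinarith

theorem Soft.norm_le (hG : IsPGroup p G) {A K : Subgroup G} (h : Soft p A) (hK : A < K) :
    normalizer (A : Set G) ≤ K := by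
  have h1 := lt_inf_normalizer_of_isNilpotent (hG.to_subgroup K).isNilpotent hK
  rcases between h.2.2 h1.le inf_le_right with h2 | h2
  · exact absurd h2 h1.ne'
  · exact h2.ge.trans inf_le_left

theorem Soft.subgroupOf {A H : Subgroup G} (h : Soft p A) (hH : normalizer (A : Set G) ≤ H) :
    Soft p (A.subgroupOf H) := by
  have hA : A ≤ H := le_normalizer.trans hH
  refine ⟨fun a ha b hb => Subtype.ext (h.1 ha b hb), fun c hc => h.2.1 fun a ha => ?_, ?_⟩
  · exact congrArg Subtype.val (hc ⟨a, hA ha⟩ ha)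
  · rw [← subgroupOf_normalizer_eq hA, card_subgroupOf_of_le hH, card_subgroupOf_of_le hA, h.2.2]

theorem Soft.comm_le {A : Subgroup G} (h : Soft p A) :
    ⁅normalizer (A : Set G), normalizer (A : Set G)⁆ ≤ A := by
  haveI : (A.subgroupOf (normalizer (A : Set G))).Normal := normal_in_normalizer
  have hi : (A.subgroupOf (normalizer (A : Set G))).index = p := by
    have := card_mul_relIndex h.lt.le
    rw [h.2.2, mul_comm p] at this
    exact Nat.eq_of_mul_eq_mul_left Nat.card_pos this
  haveI : IsCyclic (normalizer (A : Set G) ⧸ A.subgroupOf (normalizer (A : Set G))) :=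
    isCyclic_of_prime_card hi
  letI := IsCyclic.commGroup (α := normalizer (A : Set G) ⧸ A.subgroupOf (normalizer (A : Set G)))
  have := Abelianization.commutator_subset_ker (QuotientGroup.mk' (A.subgroupOf (normalizer (A : Set G))))
  rw [QuotientGroup.ker_mk'] at this
  rw [commutator_le]
  intro a ha b hb
  exact this (commutator_mem_commutator (mem_top (⟨a, ha⟩ : normalizer (A : Set G))) (mem_top ⟨b, hb⟩))

theorem card_map_mk {X Z : Subgroup G} [Z.Normal] (h : Z ≤ X) :
    Nat.card Z * Nat.card (X.map (QuotientGroup.mk' Z)) = Nat.card X := by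
  rw [card_map_mk'_eq_relIndex, card_mul_relIndex h]

theorem lemma1_normal (hG : IsPGroup p G) {A : Subgroup G} (h : Soft p A)
    [hN : (normalizer (A : Set G)).Normal] (hne : normalizer (A : Set G) ≠ ⊤) :
    (normalizer (A : Set G)).index = p := by
  set N := normalizer (A : Set G) with hNdef
  obtain ⟨g, -, hg⟩ := SetLike.exists_of_lt (lt_top_iff_ne_top.2 hne)
  set B := A.map (MulAut.conj g).toMonoidHom with hB
  have hBA : B ≠ A := fun he => hg (map_conj_eq_iff_mem_normalizer.1 he)
  have hBN : B ≤ N := by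
    rw [← map_conj_eq_of_normal g N]; exact map_mono h.lt.le
  have hcB : Nat.card B = Nat.card A := card_map_conj g A
  have hAB : B ⊔ A = N := by
    refine (between h.2.2 le_sup_right (sup_le hBN h.lt.le)).resolve_left fun he => hBA ?_
    exact eq_of_le_of_card_ge (le_sup_left.trans he.le) hcB.ge
  let Z := N ⊓ centralizer (N : Set G)
  haveI : Z.Normal := inferInstance
  have hZA : Z ≤ A := inf_le_right.trans ((centralizer_le h.lt.le).trans h.2.1)
  have hBc : B ≤ centralizer (B : Set G) := by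
    rintro _ ⟨a, ha, rfl⟩ _ ⟨b, hb, rfl⟩
    rw [← map_mul, ← map_mul, h.1 ha b hb]
  have hDZ : A ⊓ B ≤ Z := by
    refine le_inf (inf_le_left.trans h.lt.le) ?_
    rw [le_centralizer_iff, ← hAB, sup_le_iff, le_centralizer_iff, le_centralizer_iff (H := A)]
    exact ⟨inf_le_right.trans hBc, inf_le_left.trans h.1⟩
  have hD : Nat.card A = p * Nat.card ↥(A ⊓ B) := by
    have e1 := card_inf_mul_relIndex A B
    have e2 := relIndex_sup_of_le_normalizer hBN
    have e3 := card_mul_relIndex h.lt.le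
    rw [hAB] at e2
    rw [h.2.2, mul_comm p] at e3
    rw [← e2, Nat.eq_of_mul_eq_mul_left Nat.card_pos e3, hcB] at e1
    rw [← e1, mul_comm]
  have hZne : Z ≠ A := by
    intro he
    have : A ≤ centralizer (N : Set G) := he.ge.trans inf_le_right
    rw [le_centralizer_iff] at this
    exact h.lt.not_ge (this.trans h.2.1)
  have hZD : Z = A ⊓ B := (between hD hDZ hZA).resolve_right hZne
  rw [← hZD] at hD
  obtain ⟨a, ha, haZ⟩ := SetLike.exists_of_lt (lt_of_le_of_ne hZA hZne)
  have hgen : Z ⊔ zpowers a = A := by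
    refine (between hD le_sup_left (sup_le hZA (zpowers_le.2 ha))).resolve_left fun he => haZ ?_
    exact he.le (le_sup_right (a := Z) (mem_zpowers a))
  have hcN : Nat.card (N.map (QuotientGroup.mk' Z)) = p ^ 2 := by
    have := card_map_mk (inf_le_left : Z ≤ N)
    rw [h.2.2, hD] at this
    apply Nat.eq_of_mul_eq_mul_left (Nat.card_pos (α := Z))
    rw [this]; ring
  have hC : centralizer {(a : G ⧸ Z)} ≤ N.map (QuotientGroup.mk' Z) := by
    intro x hx
    obtain ⟨x, rfl⟩ := QuotientGroup.mk_surjective x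
    refine ⟨x, ?_, rfl⟩
    rw [mem_centralizer_singleton_iff, ← QuotientGroup.mk_mul, ← QuotientGroup.mk_mul,
      QuotientGroup.eq] at hx
    apply mem_normalizer_of_map_conj_le
    conv_lhs => rw [← hgen]
    rw [Subgroup.map_sup, map_conj_eq_of_normal, MonoidHom.map_zpowers]
    refine sup_le hZA (zpowers_le.2 ?_)
    have h1 := hZA ((inferInstance : Z.Normal).conj_mem _ (Z.inv_mem hx) x)
    have h2 := A.mul_mem ha h1
    convert h2 using 1
    simp; group
  have hlt : (centralizer {(a : G ⧸ Z)}).index < p ^ 2 := by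
    rw [Frob.index_centralizer_eq_ncard, ← hcN]
    haveI : (N.map (QuotientGroup.mk' Z)).Normal := hN.map _ (QuotientGroup.mk'_surjective Z)
    refine lt_of_lt_of_eq (Set.ncard_lt_ncard (t := (N.map (QuotientGroup.mk' Z) : Set (G ⧸ Z)))
      ⟨?_, ?_⟩ (Set.toFinite _)) (Nat.card_coe_set_eq _).symm
    · intro z hz
      obtain ⟨k, rfl⟩ := isConj_iff.1 hz
      exact this.conj_mem _ ⟨a, h.lt.le ha, rfl⟩ k
    · intro hsub
      exact haZ ((QuotientGroup.eq_one_iff a).1 (isConj_one_right.1 (hsub (one_mem _)).symm))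
  have hidx : (N.map (QuotientGroup.mk' Z)).index = N.index := by
    apply index_map_eq
    · exact QuotientGroup.mk'_surjective Z
    · rw [QuotientGroup.ker_mk']; exact inf_le_left
  have hle := index_antitone hC
  rw [hidx] at hle
  obtain ⟨k, hk⟩ := hG.index N
  have hk2 : k < 2 := (Nat.pow_lt_pow_iff_right hp.out.one_lt).1 (by omega)
  interval_cases k
  · exact absurd (index_eq_one.1 (by simpa using hk)) hne
  · simpa using hk

theorem lemma1 (hG : IsPGroup p G) {A : Subgroup G} (h : Soft p A)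
    (hne : normalizer (A : Set G) ≠ ⊤) :
    Nat.card (normalizer (normalizer (A : Set G) : Set G)) = p * Nat.card (normalizer (A : Set G)) := by
  set N := normalizer (A : Set G) with hN
  set H := normalizer (N : Set G) with hH
  have hNH : N ≤ H := le_normalizer
  have hlt : N < H := by
    have := lt_inf_normalizer_of_isNilpotent (hG.to_subgroup ⊤).isNilpotent (lt_top_iff_ne_top.2 hne)
    rwa [top_inf_eq] at this
  have e := subgroupOf_normalizer_eq (le_normalizer.trans hNH : A ≤ H)
  haveI : (normalizer (A.subgroupOf H : Set H)).Normal := by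
    rw [← e]; exact normal_in_normalizer
  have := lemma1_normal (hG.to_subgroup H) (h.subgroupOf hNH) (by
    rw [← e, Ne, subgroupOf_eq_top]; exact hlt.not_ge)
  rw [← e] at this
  rw [← card_mul_relIndex hNH, mul_comm]
  congr 1
end

def Q (p n : ℕ) : Prop := ∀ (G : Type u) [Group G] [Finite G], IsPGroup p G → ∀ A : Subgroup G, Soft p A →
  (∀ K L : Subgroup G, A ≤ K → A ≤ L → Nat.card K = p ^ n * Nat.card A →
    Nat.card L = p ^ n * Nat.card A → K = L) ∧
  ∀ K : Subgroup G, A ≤ K → K ≠ ⊤ → Nat.card K = p ^ n * Nat.card A →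
    Nat.card (normalizer (K : Set G)) = p * Nat.card K ∧
    ⁅normalizer (A : Set G), normalizer (A : Set G)⁆ ≤ centralizer (K : Set G) ∧
    K.lowerCentralSeries (n + 1) = ⊥ ∧ K.lowerCentralSeries n ≠ ⊥

theorem Q_zero {p : ℕ} [hp : Fact p.Prime] : Q.{u} p 0 := by
  intro G _ _ hG A h
  have key : ∀ K : Subgroup G, A ≤ K → Nat.card K = p ^ 0 * Nat.card A → K = A := fun K hK hc =>
    (eq_of_le_of_card_ge hK (by simpa using hc.le)).symm
  refine ⟨fun K L hK hL h1 h2 => (key K hK h1).trans (key L hL h2).symm, fun K hK _ hc => ?_⟩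
  obtain rfl := key K hK hc
  refine ⟨h.2.2, h.comm_le.trans h.1, ?_, ?_⟩
  · rw [Subgroup.lowerCentralSeries_succ, Subgroup.lowerCentralSeries_zero,
      commutator_eq_bot_iff_le_centralizer]
    exact h.1
  · rw [Subgroup.lowerCentralSeries_zero]
    rintro rfl
    refine h.lt.not_ge (le_trans ?_ h.2.1)
    intro x _ y hy
    rw [mem_bot.1 hy]; simp

theorem lt_of_card {G : Type*} [Group G] [Finite G] {p n : ℕ} [hp : Fact p.Prime] {A K : Subgroup G}
    (hK : A ≤ K) (hc : Nat.card K = p ^ (n + 1) * Nat.card A) : A < K := by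
  refine lt_of_le_of_ne hK fun he => ?_
  rw [← he] at hc
  have h1 : 0 < Nat.card A := Nat.card_pos
  have h2 : 1 < p ^ (n + 1) := Nat.one_lt_pow (by omega) hp.out.one_lt
  nlinarith

theorem uniq_succ {p n : ℕ} [hp : Fact p.Prime] (ih : Q.{u} p n) {G : Type u} [Group G] [Finite G]
    (hG : IsPGroup p G) {A : Subgroup G} (h : Soft p A) {K : Subgroup G} (hK : A ≤ K)
    (hc : Nat.card K = p ^ (n + 1) * Nat.card A) :
    ∃ L, A ≤ L ∧ L < K ∧ Nat.card L = p ^ n * Nat.card A ∧ Nat.card K = p * Nat.card L ∧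
      normalizer (L : Set G) = K := by
  obtain ⟨L, h1, h2, h3, h4⟩ := exists_max hG (lt_of_card hK hc)
  have h5 : Nat.card L = p ^ n * Nat.card A := by
    apply Nat.eq_of_mul_eq_mul_left hp.out.pos
    rw [← h3, hc]; ring
  have h6 : L < K := lt_of_card (n := 0) h2 (by simpa using h3)
  refine ⟨L, h1, h6, h5, h3, (eq_of_le_of_card_ge h4 ?_).symm⟩
  rw [((ih G hG A h).2 L h1 h6.ne_top h5).1, h3]

theorem step_normal {p n : ℕ} [hp : Fact p.Prime] (ih : Q.{u} p n) {G : Type u} [Group G] [Finite G]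
    (hG : IsPGroup p G) {A : Subgroup G} (h : Soft p A) {K : Subgroup G} [hKn : K.Normal] (hK : A ≤ K)
    (hne : K ≠ ⊤) (hc : Nat.card K = p ^ (n + 1) * Nat.card A) :
    K.index = p ∧ ⁅normalizer (A : Set G), normalizer (A : Set G)⁆ ≤ centralizer (K : Set G) ∧
    K.lowerCentralSeries (n + 1 + 1) = ⊥ ∧ K.lowerCentralSeries (n + 1) ≠ ⊥ := by
  obtain ⟨L, hAL, hLK, hcL, hcK, hNL⟩ := uniq_succ ih hG h hK hc
  set N := normalizer (A : Set G) with hN
  have hNK : N ≤ K := h.norm_le hG (lt_of_card hK hc)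
  obtain ⟨g, -, hg⟩ := SetLike.exists_of_lt (lt_top_iff_ne_top.2 hne)
  set M := L.map (MulAut.conj g).toMonoidHom with hM
  have hML : M ≠ L := fun he => hg (hNL ▸ map_conj_eq_iff_mem_normalizer.1 he)
  have hMK : M ≤ K := by rw [← map_conj_eq_of_normal g K]; exact map_mono hLK.le
  have hcM : Nat.card M = Nat.card L := card_map_conj g L
  have hAM : ¬ A ≤ M := fun hle => hML ((ih G hG A h).1 M L hle hAL (hcM.trans hcL) hcL)
  have hsup : M ⊔ A = K := by
    refine (between (hcK.trans (by rw [hcM])) le_sup_left (sup_le hMK hK)).resolve_left fun he => ?_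
    exact hAM (le_sup_right.trans he.le)
  have hKM : K ≤ normalizer (M : Set G) := by
    have := L.le_normalizer_map (MulAut.conj g).toMonoidHom
    rwa [hNL, map_conj_eq_of_normal] at this
  have hb : ⁅N, N⁆ ≤ centralizer (K : Set G) := by
    have hc2 : ∀ z, z ∈ A → z ∈ centralizer (M : Set G) → z ∈ centralizer (K : Set G) := by
      intro z h1 h2
      have : A ⊓ centralizer (M : Set G) ≤ centralizer (K : Set G) := by
        rw [le_centralizer_iff, ← hsup, sup_le_iff, le_centralizer_iff, le_centralizer_iff (H := A)]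
        exact ⟨inf_le_right, inf_le_left.trans h.1⟩
      exact this ⟨h1, h2⟩
    by_cases hU : M ⊓ centralizer (M : Set G) ≤ A
    · intro z hz
      have h1 := ((ih G hG A h).2 L hAL hLK.ne_top hcL).2.1 hz
      have h2 : g * z * g⁻¹ ∈ M ⊓ centralizer (M : Set G) := by
        refine ⟨⟨z, hAL (h.comm_le hz), rfl⟩, ?_⟩
        rintro _ ⟨l, hl, rfl⟩
        have := h1 l hl
        simp only [MulEquiv.toMonoidHom_eq_coe, MonoidHom.coe_coe, MulAut.conj_apply]
        calc g * l * g⁻¹ * (g * z * g⁻¹) = g * (l * z) * g⁻¹ := by group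
          _ = _ := by rw [this]; group
      have h3 := (normal_centralizer (H := K)).conj_mem _ (hc2 _ (hU h2) h2.2) g⁻¹
      simpa [mul_assoc] using h3
    · set U := M ⊓ centralizer (M : Set G) with hUdef
      have hAU : A ≤ normalizer (U : Set G) := by
        exact (le_inf (hK.trans hKM) ((hK.trans hKM).trans
          (Cop.normalizer_le_normalizer_centralizer M))).trans inf_normalizer_le_normalizer_inf
      have hNU : N ≤ A ⊔ U := h.norm_le hG (left_lt_sup.2 hU)
      intro z hz
      refine hc2 z (h.comm_le hz) ?_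
      suffices ⁅A ⊔ U, A ⊔ U⁆ ≤ U from (this (commutator_mono hNU hNU hz)).2
      rw [commutator_le]
      intro x hx y hy
      obtain ⟨a, ha, u, hu, rfl⟩ := (mem_sup_iff_of_le_normalizer hAU).1 hx
      obtain ⟨b, hb, v, hv, rfl⟩ := (mem_sup_iff_of_le_normalizer hAU).1 hy
      have hcj : ∀ c ∈ A, ∀ w ∈ U, c * w * c⁻¹ ∈ U := fun c hc w hw =>
        (mem_normalizer_iff.1 (hAU hc) w).1 hw
      have hab : a * b = b * a := h.1 hb a ha
      have : ⁅a * u, b * v⁆ = (a * u * a⁻¹) * ((a * b) * (v * u⁻¹) * (a * b)⁻¹) * (b * v⁻¹ * b⁻¹) := by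
        rw [commutatorElement_def]
        conv_rhs => rw [mul_inv_rev (a := a), ← mul_inv_rev, hab]
        rw [← hab]
        calc a * u * (b * v) * (a * u)⁻¹ * (b * v)⁻¹
            = a * u * b * v * u⁻¹ * a⁻¹ * v⁻¹ * b⁻¹ := by group
          _ = a * u * b * v * u⁻¹ * (b * a)⁻¹ * b * v⁻¹ * b⁻¹ := by group
          _ = a * u * b * v * u⁻¹ * (a * b)⁻¹ * b * v⁻¹ * b⁻¹ := by rw [hab]
          _ = _ := by group
      rw [this]
      exact U.mul_mem (U.mul_mem (hcj a ha u hu) (hcj _ (A.mul_mem ha hb) _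
        (U.mul_mem hv (U.inv_mem hu)))) (hcj b hb _ (U.inv_mem hv))
  let Z := K ⊓ centralizer (K : Set G)
  haveI : Z.Normal := inferInstance
  have hZA : Z ≤ A := inf_le_right.trans ((centralizer_le hK).trans h.2.1)
  have hZN : Z ≤ N := hZA.trans h.lt.le
  let π := QuotientGroup.mk' Z
  have hπ : Function.Surjective π := QuotientGroup.mk'_surjective Z
  have hker : π.ker = Z := QuotientGroup.ker_mk' Z
  have hnorm : ∀ X : Subgroup G, Z ≤ X →
      normalizer (X.map π : Set (G ⧸ Z)) = (normalizer (X : Set G)).map π := by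
    intro X hX
    have := comap_normalizer_eq_of_surjective (X.map π) hπ
    rw [comap_map_eq_self (hker.le.trans hX)] at this
    rw [← this, map_comap_eq_self_of_surjective hπ]
  have hcard : ∀ X Y : Subgroup G, ∀ m, Z ≤ X → Z ≤ Y → Nat.card Y = m * Nat.card X →
      Nat.card (Y.map π) = m * Nat.card (X.map π) := by
    intro X Y m hX hY he
    apply Nat.eq_of_mul_eq_mul_left (Nat.card_pos (α := Z))
    rw [card_map_mk hY, he, ← card_map_mk hX]; ring
  have hsoft : Soft p (N.map π) := by
    refine ⟨?_, ?_, ?_⟩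
    · rw [← commutator_eq_bot_iff_le_centralizer, ← Subgroup.map_commutator, Subgroup.map_eq_bot_iff, hker]
      exact le_inf (h.comm_le.trans hK) hb
    · intro x hx
      obtain ⟨x, rfl⟩ := hπ x
      refine ⟨x, ?_, rfl⟩
      apply mem_normalizer_of_map_conj_le
      rintro _ ⟨a, ha, rfl⟩
      have h1 := hx _ ⟨a, h.lt.le ha, rfl⟩
      rw [← map_mul, ← map_mul] at h1
      have h2 : a⁻¹ * (x * a * x⁻¹) ∈ π.ker := by
        rw [MonoidHom.mem_ker, map_mul, map_mul, ← h1]; simp
      have h3 := A.mul_mem ha (hZA (hker ▸ h2))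
      simpa using h3
    · rw [hnorm N hZN]
      exact hcard _ _ _ hZN (hZN.trans le_normalizer)
        (lemma1 hG h (fun he => hne (top_le_iff.1 (he.ge.trans hNK))))
  have hne' : K.map π ≠ ⊤ := by
    intro he
    apply hne
    rw [← comap_map_eq_self (f := π) (H := K) (hker.le.trans inf_le_left), he, comap_top]
  obtain ⟨r1, -, r3, r4⟩ := (ih (G ⧸ Z) (hG.to_quotient Z) _ hsoft).2 (K.map π) (map_mono hNK) hne'
    (hcard _ _ _ hZN inf_le_left (by rw [hc, h.2.2]; ring))
  refine ⟨?_, hb, ?_, ?_⟩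
  · rw [hnorm K inf_le_left, normalizer_eq_top] at r1
    have e1 := card_map_mk (le_top : Z ≤ ⊤)
    have e2 := card_map_mk (inf_le_left : Z ≤ K)
    have e3 := K.card_mul_index
    rw [card_top] at e1
    apply Nat.eq_of_mul_eq_mul_left (Nat.card_pos (α := K))
    rw [e3, ← e1, r1, ← e2]; ring
  · rw [← Subgroup.map_lowerCentralSeries, Subgroup.map_eq_bot_iff, hker] at r3
    rw [Subgroup.lowerCentralSeries_succ, commutator_eq_bot_iff_le_centralizer]
    exact r3.trans inf_le_right
  · intro he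
    apply r4
    rw [← Subgroup.map_lowerCentralSeries, Subgroup.map_eq_bot_iff, hker]
    rw [Subgroup.lowerCentralSeries_succ, commutator_eq_bot_iff_le_centralizer] at he
    exact le_inf (K.lowerCentralSeries_le_self n) he

theorem Q_all {p : ℕ} [hp : Fact p.Prime] (n : ℕ) : Q.{u} p n := by
  induction n with
  | zero => exact Q_zero
  | succ n ih =>
    intro G _ _ hG A h
    constructor
    · intro K L hK hL h1 h2
      obtain ⟨K', a1, -, a2, -, a3⟩ := uniq_succ ih hG h hK h1
      obtain ⟨L', b1, -, b2, -, b3⟩ := uniq_succ ih hG h hL h2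
      rw [← a3, ← b3, (ih G hG A h).1 K' L' a1 b1 a2 b2]
    · intro K hK hne hc
      set H := normalizer (K : Set G) with hH
      have hKH : K ≤ H := le_normalizer
      have hNK := h.norm_le hG (lt_of_card hK hc)
      have hlt : K < H := by
        have := lt_inf_normalizer_of_isNilpotent (hG.to_subgroup ⊤).isNilpotent (lt_top_iff_ne_top.2 hne)
        rwa [top_inf_eq] at this
      haveI : (K.subgroupOf H).Normal := normal_in_normalizer
      obtain ⟨r1, r2, r3, r4⟩ := step_normal ih (hG.to_subgroup H) (h.subgroupOf (hNK.trans hKH))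
        (K := K.subgroupOf H) (fun x hx => hK hx) (by rw [Ne, subgroupOf_eq_top]; exact hlt.not_ge)
        (by rw [card_subgroupOf_of_le hKH, card_subgroupOf_of_le (hK.trans hKH), hc])
      have hl : ∀ m, K.lowerCentralSeries m = ⊥ ↔ (K.subgroupOf H).lowerCentralSeries m = ⊥ := by
        intro m
        rw [← map_eq_bot_iff_of_injective _ H.subtype_injective, Subgroup.map_lowerCentralSeries,
          map_subgroupOf_eq_of_le hKH]
      refine ⟨?_, ?_, (hl _).2 r3, fun he => r4 ((hl _).1 he)⟩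
      · rw [← card_mul_relIndex hKH, mul_comm]
        congr 1
      · rw [← subgroupOf_normalizer_eq (hK.trans hKH)] at r2
        have := map_mono (f := H.subtype) r2
        rw [Subgroup.map_commutator, map_subgroupOf_eq_of_le (hNK.trans hKH)] at this
        refine this.trans ?_
        rintro _ ⟨x, hx, rfl⟩ k hk
        exact congrArg Subtype.val (hx ⟨k, hKH hk⟩ hk)

theorem result {P : Type*} [Group P] [Finite P] (p : ℕ) [Fact p.Prime] (hP : IsPGroup p P)
    (E : Subgroup P) (hEab : IsMulCommutative ↥E) (hC : Subgroup.centralizer (E : Set P) ≤ E)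
    (hN : (E.subgroupOf (Subgroup.normalizer (E : Set P))).index = p) (hidx : p ^ 2 ≤ E.index) :
    (∀ K L : Subgroup P, E ≤ K → E ≤ L → K ≤ L ∨ L ≤ K) ∧
      (∀ K : Subgroup P, E ≤ K → K ≠ ⊤ → (K.subgroupOf (Subgroup.normalizer (K : Set P))).index = p) ∧
      ∀ (i : ℕ) (K : Subgroup P) [Group.IsNilpotent ↥K], E ≤ K → K ≠ ⊤ → K.index * p ^ i = E.index →
        Group.nilpotencyClass ↥K = i + 1 := by
  have h : Soft p E := by
    refine ⟨fun a ha b hb => ?_, hC, ?_⟩
    · exact congrArg Subtype.val (hEab.is_comm.comm (⟨b, hb⟩ : E) ⟨a, ha⟩)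
    · rw [← card_mul_relIndex (le_normalizer : E ≤ _), mul_comm]
      congr 1
  have hlev : ∀ K : Subgroup P, E ≤ K → ∃ n, Nat.card K = p ^ n * Nat.card E := by
    intro K hK
    obtain ⟨n, hn⟩ := (hP.to_subgroup K).index (E.subgroupOf K)
    exact ⟨n, by rw [← card_mul_relIndex hK, mul_comm, relIndex, hn]⟩
  have hdown : ∀ d m : ℕ, ∀ L : Subgroup P, E ≤ L → Nat.card L = p ^ (m + d) * Nat.card E →
      ∃ L', E ≤ L' ∧ L' ≤ L ∧ Nat.card L' = p ^ m * Nat.card E := by
    intro d m
    induction d with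
    | zero => exact fun L h1 h2 => ⟨L, h1, le_rfl, h2⟩
    | succ d ih =>
      intro L h1 h2
      obtain ⟨L', a1, a2, a3, -⟩ := uniq_succ (Q_all _) hP h h1 h2
      obtain ⟨L'', b1, b2, b3⟩ := ih L' a1 a3
      exact ⟨L'', b1, b2.trans a2.le, b3⟩
  have hle : ∀ (K L : Subgroup P) (m n : ℕ), E ≤ K → E ≤ L → Nat.card K = p ^ m * Nat.card E →
      Nat.card L = p ^ n * Nat.card E → m ≤ n → K ≤ L := by
    intro K L m n hK hL h1 h2 hmn
    obtain ⟨d, rfl⟩ := Nat.exists_eq_add_of_le hmn
    obtain ⟨L', a1, a2, a3⟩ := hdown d m L hL h2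
    rwa [(Q_all m P hP E h).1 K L' hK a1 h1 a3]
  refine ⟨fun K L hK hL => ?_, fun K hK hne => ?_, fun i K _ hK hne hi => ?_⟩
  · obtain ⟨m, hm⟩ := hlev K hK
    obtain ⟨n, hn⟩ := hlev L hL
    rcases le_total m n with h1 | h1
    · exact Or.inl (hle K L m n hK hL hm hn h1)
    · exact Or.inr (hle L K n m hL hK hn hm h1)
  · obtain ⟨m, hm⟩ := hlev K hK
    have h1 := ((Q_all m P hP E h).2 K hK hne hm).1
    have h2 := card_mul_relIndex (le_normalizer : K ≤ _)
    rw [h1, mul_comm p] at h2
    exact Nat.eq_of_mul_eq_mul_left Nat.card_pos h2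
  · have hc : Nat.card K = p ^ i * Nat.card E := by
      have e1 := K.card_mul_index
      have e2 := E.card_mul_index
      apply Nat.eq_of_mul_eq_mul_right (Nat.pos_of_ne_zero (index_ne_zero_of_finite (H := K)))
      rw [e1, ← e2, ← hi]; ring
    obtain ⟨-, -, r3, r4⟩ := (Q_all i P hP E h).2 K hK hne hc
    have hl : ∀ m, K.lowerCentralSeries m = ⊥ ↔ Group.nilpotencyClass K ≤ m := by
      intro m
      rw [← Subgroup.lowerCentralSeries_eq_bot_iff_nilpotencyClass_le, ← top_subtype_lowerCentralSeries,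
        map_eq_bot_iff_of_injective _ K.subtype_injective]
    have := (hl _).1 r3
    have := mt (hl _).2 r4
    omega

end Cfsg.Agent.S3811
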