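import Cfsg.Statements.S3815
import Cfsg.Agent.Lib.CoreElements

set_option autoImplicit false
open Cfsg

namespace Cfsg.Agent.S3815

open Subgroup CfsgLib
open scoped Pointwise commutatorElement



theorem result {G : Type*} [Group G] [Finite G] {p : ℕ} [Fact p.Prime]
    (d : G) (hd : (orderOf d).Coprime p)
    (h : ∀ g : G, (orderOf g).Coprime p → (orderOf (d * g)).Coprime p) :
    d ∈ Cfsg.pPrimeCore p G := by
  let D : Subgroup G :=
    { carrier := {d | ∀ g : G, (orderOf g).Coprime p → (orderOf (d * g)).Coprime p}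
      one_mem' := fun g hg => by rwa [one_mul]
      mul_mem' := fun {a b} ha hb g hg => by rw [mul_assoc]; exact ha _ (hb g hg)
      inv_mem' := fun {a} ha g hg => by
        have h1 : ∀ n : ℕ, (orderOf (a ^ n * g)).Coprime p := by
          intro n
          induction n with
          | zero => rwa [pow_zero, one_mul]
          | succ n ih => rw [pow_succ', mul_assoc]; exact ha _ ih
        have h2 : a⁻¹ = a ^ (orderOf a - 1) := by
          rw [eq_comm, ← mul_eq_one_iff_eq_inv, ← pow_succ, Nat.sub_add_cancel (orderOf_pos a),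
            pow_orderOf_eq_one]
        rw [h2]; exact h1 _ }
  have hconj : ∀ c x : G, orderOf (c * x * c⁻¹) = orderOf x := fun c x =>
    (MulAut.conj c).orderOf_eq x
  haveI : D.Normal := ⟨fun a ha c g hg => by
    have h1 : c * a * c⁻¹ * g = c * (a * (c⁻¹ * g * c⁻¹⁻¹)) * c⁻¹ := by group
    rw [h1, hconj]
    exact ha _ (by rwa [hconj])⟩
  have h3 : (Nat.card D).Coprime p := by
    rw [coprime_iff_isPiSubgroup, isPiSubgroup_iff_orderOf]
    rintro x hx q hq hd2 rfl
    have := hx 1 (by simp)
    rw [mul_one] at this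
    exact hq.ne_one (Nat.eq_one_of_dvd_coprimes this hd2 dvd_rfl)
  exact le_pPrimeCore h3 (show d ∈ D from h)

end Cfsg.Agent.S3815
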