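import Cfsg.Statements.S3824
import Cfsg.Agent.Lib.Kazarin
import Cfsg.Agent.Lib.CoreSolvable

set_option autoImplicit false
open Cfsg

namespace Cfsg.Agent.S3824

open Subgroup CfsgLib
open scoped Pointwise commutatorElement



theorem result {G : Type*} [Group G] [Finite G]
    (A : Subgroup G) (hA : IsMulCommutative A) (hidx : ∃ k : ℕ, A.index = 2 ^ k) : Group.IsSolvable G := by
  obtain ⟨k, hk⟩ := hidx
  haveI : Fact (Nat.Prime 2) := ⟨Nat.prime_two⟩
  have hdvd : ∀ {n : ℕ}, n ∣ 2 ^ k → ∃ j, n = 2 ^ j := fun h =>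
    let ⟨j, _, hj⟩ := (Nat.dvd_prime_pow Nat.prime_two).mp h; ⟨j, hj⟩
  have h1 : A ≤ solvableRadical G := by
    intro x hx
    refine Chr.mem_solvableRadical_of_class_prime_pow Nat.prime_two (hdvd (hk ▸ index_dvd_of_le ?_))
    intro y hy
    rw [mem_centralizer_singleton_iff]
    exact congrArg Subtype.val (hA.is_comm.comm (⟨y, hy⟩ : A) ⟨x, hx⟩)
  obtain ⟨j, hj⟩ := hdvd (hk ▸ index_dvd_of_le h1)
  refine isSolvable_of_normal_of_quotient (solvableRadical G) solvableRadical_isSolvable ?_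
  exact isSolvable_of_isPGroup (p := 2) (IsPGroup.of_card (n := j) hj)

end Cfsg.Agent.S3824
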