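import Cfsg.Statements.S3869
import Cfsg.Agent.Lib.CorePClosed
import Cfsg.Agent.Lib.CoreAbelianMax

set_option autoImplicit false
open Cfsg

namespace Cfsg.Agent.S3869

open Subgroup CfsgLib
open scoped Pointwise commutatorElement



theorem result {G : Type*} [Group G] [Finite G] {p q : ℕ} [Fact p.Prime] (hq : q.Prime) (hpq : q ≠ p)
    (hna : ¬ IsMulCommutative G) (A : Subgroup G) [A.Normal] (hA : Cfsg.IsElementaryAbelian q A) (hidx : A.index = p)
    (hmin : ∀ B : Subgroup G, B.Normal → B ≤ A → B = ⊥ ∨ B = A) :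
    Nat.card ↥A = q ^ orderOf (q : ZMod p) ∧ ¬ Cfsg.IsPClosed p G ∧ (∀ H : Subgroup G, H ≠ ⊤ → Cfsg.IsPClosed p ↥H) ∧
      ∀ (N : Subgroup G) [N.Normal], N ≠ ⊥ → Cfsg.IsPClosed p (G ⧸ N) := by
  have hp : p.Prime := Fact.out
  haveI := Fact.mk hq
  have hAq : IsPGroup q A := isPGroup_of_isElementaryAbelian hA
  obtain ⟨e, he⟩ := hAq.exists_card_eq
  have hAp : ¬ p ∣ Nat.card A := fun h =>
    hpq ((Nat.prime_dvd_prime_iff_eq hp hq).mp (hp.dvd_of_dvd_pow (he ▸ h))).symm
  have hAA : A ≤ centralizer (A : Set G) := le_centralizer_iff_isMulCommutative.mpr hA.1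
  have hsup : ∀ H : Subgroup G, p ∣ Nat.card H → A ⊔ H = ⊤ := fun H h =>
    sup_eq_top_of_index_prime hp hidx fun h' => hAp (h.trans (card_dvd_of_le h'))
  have hcen : ∀ H : Subgroup G, ¬ H ≤ A → ¬ H ≤ centralizer (A : Set G) := by
    intro H h1 h2
    have h3 : A ≤ center G := by
      rw [← centralizer_univ, ← coe_top, ← le_centralizer_iff,
        ← sup_eq_top_of_index_prime hp hidx h1]
      exact sup_le hAA h2
    haveI : IsCyclic (G ⧸ A) := isCyclic_of_prime_card (p := p) hidx
    exact hna ⟨⟨commutative_of_cyclic_center_quotient (QuotientGroup.mk' A)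
      (by rwa [QuotientGroup.ker_mk'])⟩⟩
  have hG : Nat.card G = Nat.card A * p := by rw [← hidx, card_mul_index]
  have hnorm : ∀ (B H : Subgroup G), B ≤ A → p ∣ Nat.card H → H ≤ normalizer (B : Set G) →
      B = ⊥ ∨ B = A := fun B H h1 h2 h3 =>
    hmin B (normal_of_le_normalizer_top (hsup H h2 ▸ sup_le
      (hAA.trans ((centralizer_le h1).trans (centralizer_le_normalizer _))) h3)) h1
  refine ⟨?_, fun h => ?_, fun H hH => ?_, fun N _ hN => ?_⟩
  · obtain ⟨x, hx⟩ := exists_prime_orderOf_dvd_card' (G := G) p (hG ▸ Dvd.intro_left _ rfl)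
    have hx' : p ∣ Nat.card (zpowers x) := by rw [Nat.card_zpowers, hx]
    let _ : CommGroup A := { mul_comm := hA.1.is_comm.comm }
    refine card_eq_pow_orderOf_of_irr hq (fun v => Subtype.ext (hA.2 v v.2))
      (MulAut.conjNormal x) (orderOf_eq_prime (by rw [← map_pow, ← hx, pow_orderOf_eq_one, map_one])
        fun h => hcen (zpowers x) (fun h' => hAp (hx'.trans (card_dvd_of_le h'))) ?_) fun B hB => ?_
    · rw [zpowers_le]
      intro a ha
      have := congrArg Subtype.val (DFunLike.congr_fun h ⟨a, ha⟩)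
      exact (mul_inv_eq_iff_eq_mul.mp this).symm
    · rcases hnorm (B.map A.subtype) (zpowers x) (map_subtype_le _) hx' (by
        rw [zpowers_le]
        refine mem_normalizer_fintype ?_
        rintro _ ⟨b, hb, rfl⟩
        exact ⟨_, hB b hb, rfl⟩) with h | h
      · exact Or.inl ((map_eq_bot_iff_of_injective _ A.subtype_injective).mp h)
      · refine Or.inr (map_injective A.subtype_injective ?_)
        rw [h, ← MonoidHom.range_eq_map, range_subtype]
  · obtain ⟨P⟩ : Nonempty (Sylow p G) := inferInstance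
    refine hcen P (fun h' => P.not_dvd_index (hidx.symm.dvd.trans (index_dvd_of_le h'))) ?_
    haveI := h P
    rw [← commutator_eq_bot_iff_le_centralizer, eq_bot_iff]
    obtain ⟨k, hk⟩ := P.2.exists_card_eq
    rw [← inf_eq_bot_of_coprime (H := (P : Subgroup G)) (K := A)
      (hk ▸ (hp.coprime_iff_not_dvd.mpr hAp).pow_left k)]
    exact commutator_le_inf _ _
  · by_cases h : p ∣ Nat.card H
    · rcases hnorm (A ⊓ H) H inf_le_left h ((le_inf le_normalizer_of_normal le_normalizer).trans
        inf_normalizer_le_normalizer_inf) with h1 | h1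
      · refine isPClosed_of_isPGroup (IsPGroup.of_card (n := 1) ?_)
        rw [← card_inf_mul_relIndex A H, h1, card_bot, one_mul, pow_one, ← relIndex_sup_left,
          hsup H h, relIndex_top_right, hidx]
      · exact absurd ((sup_eq_right.mpr (inf_eq_left.mp h1)).symm.trans (hsup H h)) hH
    · exact isPClosed_of_not_dvd h
  · rcases hmin (N ⊓ A) inferInstance inf_le_right with h | h
    · refine absurd ?_ (hcen N fun h' => hN ((inf_eq_left.mpr h').symm.trans h))
      rw [← commutator_eq_bot_iff_le_centralizer, eq_bot_iff, ← h]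
      exact commutator_le_inf _ _
    · obtain ⟨k, -, hk⟩ := (Nat.dvd_prime_pow hp (m := 1) (i := N.index)).mp
        (by rw [pow_one, ← hidx]; exact index_dvd_of_le (inf_eq_right.mp h))
      exact isPClosed_of_isPGroup (IsPGroup.of_card hk)

end Cfsg.Agent.S3869
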