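import Cfsg.Statements.S3868
import Cfsg.Agent.Lib.CorePClosed
import Cfsg.Agent.Lib.CoprimeSylow
import Cfsg.Agent.S3869
import Cfsg.Agent.Lib.PGroupBasic

set_option autoImplicit false
open Cfsg

namespace Cfsg.Agent.S3868

open Subgroup CfsgLib
open scoped Pointwise commutatorElement



theorem result {G : Type*} [Group G] [Finite G] {p : ℕ} [Fact p.Prime]
    (hnc : ¬ Cfsg.IsPClosed p G) (hsub : ∀ H : Subgroup G, H ≠ ⊤ → Cfsg.IsPClosed p ↥H)
    (hquo : ∀ (N : Subgroup G) [N.Normal], N ≠ ⊥ → Cfsg.IsPClosed p (G ⧸ N)) (hns : ¬ IsSimpleGroup G) :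
    ∃ q : ℕ, q.Prime ∧ q ≠ p ∧ Nat.card G = p * q ^ orderOf (q : ZMod p) ∧
      ∃ A : Subgroup G, A.Normal ∧ Nat.card ↥A = q ^ orderOf (q : ZMod p) ∧ Cfsg.IsElementaryAbelian q A ∧
        ∀ B : Subgroup G, B.Normal → B ≤ A → B = ⊥ ∨ B = A := by
  have hp : p.Prime := Fact.out
  have h0 : ∀ K : Subgroup G, K.Normal → IsPGroup p K → K = ⊥ := fun K _ hK => by
    by_contra h
    exact hnc (isPClosed_of_quotient hK (hquo K h))
  haveI : Nontrivial G := by
    by_contra h
    rw [not_nontrivial_iff_subsingleton] at h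
    exact hnc fun P => by rw [Subsingleton.elim (P : Subgroup G) ⊥]; infer_instance
  obtain ⟨M, hM, hM0, hM1⟩ : ∃ M : Subgroup G, M.Normal ∧ M ≠ ⊥ ∧ M ≠ ⊤ := by
    by_contra h
    push Not at h
    exact hns ⟨fun M hM => or_iff_not_imp_left.mpr (h M hM)⟩
  obtain ⟨N, hN, hNM⟩ := exists_isMinNormal_le M hM0
  haveI := hN.1
  have hN1 : N ≠ ⊤ := fun h => hM1 (top_le_iff.mp (h ▸ hNM))
  have hNp : ¬ p ∣ Nat.card N := by
    intro h
    obtain ⟨x, hx⟩ := exists_prime_orderOf_dvd_card' p h
    haveI := pCore_characteristic (G := N) p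
    have h1 := h0 ((pCore p N).map N.subtype) inferInstance ((pCore_isPGroup p).map _)
    rw [map_eq_bot_iff_of_injective _ N.subtype_injective] at h1
    have h2 := isPClosed_iff_le_pCore.mp (hsub N hN1) (zpowers x)
      (IsPGroup.of_card (n := 1) (by rw [Nat.card_zpowers, hx, pow_one]))
    rw [h1, le_bot_iff, zpowers_eq_bot] at h2
    rw [h2, orderOf_one] at hx
    exact hp.one_lt.ne hx
  obtain ⟨P⟩ : Nonempty (Sylow p G) := inferInstance
  have hP : ¬ (P : Subgroup G).Normal := fun h => hnc (isPClosed_of_normal_sylow P h)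
  have hPN : N ⊔ (P : Subgroup G) = ⊤ := by
    by_contra h
    apply hP
    have h1 : (N ⊔ (P : Subgroup G)).Normal := by
      have := hquo N hN.2.1 (P.mapSurjective (QuotientGroup.mk'_surjective N))
      have h2 := this.comap (QuotientGroup.mk' N)
      rwa [Sylow.coe_mapSurjective, comap_map_eq, QuotientGroup.ker_mk', sup_comm] at h2
    have h2 := hsub _ h (P.subtype le_sup_right)
    haveI := Sylow.characteristic_of_normal _ h2
    have h3 : ((P.subtype (le_sup_right : _ ≤ N ⊔ (P : Subgroup G)) : Subgroup _).map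
      (N ⊔ (P : Subgroup G)).subtype).Normal := inferInstance
    rwa [Sylow.coe_subtype, subgroupOf_map_subtype, inf_eq_left.mpr le_sup_right] at h3
  have hnorm : ∀ R : Subgroup G, R ≤ centralizer (N : Set G) →
      (P : Subgroup G) ≤ normalizer (R : Set G) → R.Normal := fun R h1 h2 =>
    normal_of_le_normalizer_top (hPN ▸ sup_le
      ((le_centralizer_iff.mp h1).trans (centralizer_le_normalizer _)) h2)
  obtain ⟨k, hk⟩ := P.2.exists_card_eq
  obtain ⟨q, hq, hNq⟩ : ∃ q : ℕ, q.Prime ∧ IsPGroup q N := by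
    by_contra h
    refine hP (hnorm P (le_centralizer_iff.mp ?_) le_normalizer)
    refine Cop.le_of_forall_invariant_sylowOf_le (A := P) le_normalizer_of_normal
      (hk ▸ (hp.coprime_iff_not_dvd.mpr hNp).pow_left k) (Or.inl (isSolvable_of_isPGroup P.2))
      fun q hq Q hd hQ hPQ => le_centralizer_iff.mp ?_
    refine le_centralizer_of_isPClosed (hsub (normalizer (Q : Set G)) fun h1 => ?_) P.2 hPQ
      le_normalizer (fun h1 => hNp (h1.trans (card_dvd_of_le hQ.1))) hPQ
    rcases hN.2.2 Q (normalizer_eq_top_iff.mp h1) hQ.1 with h2 | h2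
    · exact hQ.2.2 q hq.out rfl (by rwa [h2, relIndex_bot_left])
    · exact h ⟨q, hq.out, h2 ▸ IsPGroup.of_card (Nat.eq_prime_pow_of_unique_prime_dvd
        Nat.card_pos.ne' fun hr hd => hQ.2.1 _ hr hd)⟩
  haveI := Fact.mk hq
  have hNe := hN.isElementaryAbelian_of_isPGroup hNq
  have hqp : q ≠ p := by
    rintro rfl
    exact hN.2.1 (h0 N hN.1 hNq)
  have hdis : N ⊓ (P : Subgroup G) = ⊥ :=
    inf_eq_bot_of_coprime (hk ▸ ((hp.coprime_iff_not_dvd.mpr hNp).pow_left k).symm)
  have hidx0 : N.index = Nat.card P := by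
    rw [← relIndex_top_right, ← hPN, relIndex_sup_left, ← card_inf_mul_relIndex N P, hdis,
      card_bot, one_mul]
  have hP1 : Nat.card P = p := by
    rcases k with _ | k
    · exact absurd (by rw [card_eq_one.mp hk]; infer_instance) hP
    obtain ⟨R, hR⟩ := Sylow.exists_subgroup_card_pow_prime (G := P) p (n := k)
      (hk ▸ pow_dvd_pow p k.le_succ)
    have h1 : R.index = p := by
      have := R.card_mul_index
      rw [hR, hk, pow_succ] at this
      exact Nat.eq_of_mul_eq_mul_left (pow_pos hp.pos k) this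
    haveI := PGrp.normal_of_index_eq_prime P.2 h1
    have h2 : IsPGroup p (R.map (P : Subgroup G).subtype) := (P.2.to_subgroup R).map _
    have h3 := h0 (R.map (P : Subgroup G).subtype) (hnorm _ (le_centralizer_of_isPClosed
      (hsub (N ⊔ R.map (P : Subgroup G).subtype) fun h => ?_) h2 le_sup_right le_sup_left hNp
        le_normalizer_of_normal) ?_) h2
    · rw [map_eq_bot_iff_of_injective _ (subtype_injective _)] at h3
      rwa [h3, index_bot] at h1
    · have h3 := relIndex_dvd_card N (R.map (P : Subgroup G).subtype)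
      rw [← relIndex_sup_left, h, relIndex_top_right, hidx0, hk,
        card_map_of_injective (subtype_injective _), hR, Nat.pow_dvd_pow_iff_le_right hp.one_lt] at h3
      omega
    · have := le_normalizer_map (H := R) (P : Subgroup G).subtype
      rwa [normalizer_eq_top, ← MonoidHom.range_eq_map, range_subtype] at this
  have hidx : N.index = p := hidx0.trans hP1
  have h1 := (S3869.result hq hqp (fun h => hP inferInstance) N hNe hidx hN.2.2).1
  exact ⟨q, hq, hqp, by rw [← h1, ← hidx, index_mul_card], N, hN.1, h1, hNe, hN.2.2⟩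

end Cfsg.Agent.S3868
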