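import Cfsg.Statements.S3870
import Cfsg.Agent.Lib.SylowIn
import Cfsg.Agent.Lib.CorePi

set_option autoImplicit false
open Cfsg

namespace Cfsg.Agent.S3870

open Subgroup CfsgLib
open scoped Pointwise commutatorElement



theorem result {G : Type*} [Group G] [Finite G] [IsSimpleGroup G] {p : ℕ} [Fact p.Prime]
    (hnc : ¬ Cfsg.IsPClosed p G) (hsub : ∀ H : Subgroup G, H ≠ ⊤ → Cfsg.IsPClosed p ↥H) :
    (∀ P Q : Sylow p G, P ≠ Q → (P : Subgroup G) ⊓ (Q : Subgroup G) = ⊥) ∧
      ∀ (P : Sylow p G) (R : Subgroup G), R ≤ P → R ≠ ⊥ →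
        Subgroup.normalizer (R : Set G) ≤ Subgroup.normalizer ((P : Subgroup G) : Set G) := by
  have key : ∀ P Q : Sylow p G, P ≠ Q → (P : Subgroup G) ⊓ (Q : Subgroup G) = ⊥ := by
    suffices h : ∀ D : Subgroup G, D ≠ ⊥ → ∀ P Q : Sylow p G, D ≤ P → D ≤ Q → P = Q from
      fun P Q hne => by_contra fun h0 => hne (h _ h0 P Q inf_le_left inf_le_right)
    intro D
    induction D using WellFoundedGT.induction with
    | _ D ih =>
      intro h0 P Q hP hQ
      rcases hP.eq_or_lt with h1 | h1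
      · exact Sylow.ext (P.is_maximal' Q.isPGroup' (h1 ▸ hQ)).symm
      rcases hQ.eq_or_lt with h2 | h2
      · exact Sylow.ext (Q.is_maximal' P.isPGroup' (h2 ▸ hP))
      set N := normalizer (D : Set G)
      have hN : N ≠ ⊤ := fun h3 => by
        rcases (normalizer_eq_top_iff.mp h3).eq_bot_or_eq_top with h4 | h4
        · exact h0 h4
        · exact not_top_lt (h4 ▸ h1)
      obtain ⟨R⟩ : Nonempty (Sylow p N) := inferInstance
      have := hsub N hN R
      obtain ⟨S, hS⟩ := (R.isPGroup'.map N.subtype).exists_le_sylow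
      have h3 : ∀ T : Sylow p G, D < T → T = S := fun T hT => by
        have h4 := lt_inf_normalizer_of_isPGroup T.isPGroup' hT
        refine ih _ h4 (ne_bot_of_gt h4) T S inf_le_left (le_trans ?_ hS)
        intro x hx
        obtain ⟨R', hR'⟩ := (T.isPGroup'.comap_subtype (K := N)).exists_le_sylow
        have := Sylow.unique_of_normal R this
        rw [Subsingleton.elim R' R] at hR'
        exact ⟨⟨x, hx.2⟩, hR' hx.1, rfl⟩
      rw [h3 P h1, h3 Q h2]
  refine ⟨key, fun P R hR h0 g hg => ?_⟩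
  refine Sylow.smul_eq_iff_mem_normalizer.mp ?_
  by_contra h1
  apply h0
  rw [eq_bot_iff, ← key _ _ h1]
  refine le_inf ?_ hR
  rw [sylow_coe_smul_eq_map, ← map_conj_eq_of_mem_normalizer hg]
  exact map_mono hR

end Cfsg.Agent.S3870
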