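import Cfsg.Statements.S3872
import Cfsg.Agent.Lib.Regular
import Cfsg.Agent.Lib.PGroupMaxClass
import Cfsg.Agent.Lib.PGroupRankOne

set_option autoImplicit false
open Cfsg

namespace Cfsg.Agent.S3872

open Subgroup CfsgLib
open scoped Pointwise commutatorElement



theorem result {G : Type*} [Group G] [Finite G] {p : ℕ} [Fact p.Prime] (hG : IsPGroup p G)
    (hnc : ¬ (∃ H : Subgroup G, (H : Set G) = {g : G | g ^ p = 1})) (hsub : ∀ K : Subgroup G, K ≠ ⊤ → (∃ H : Subgroup ↥K, (H : Set ↥K) = {g : ↥K | g ^ p = 1}))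
    (hquo : ∀ (N : Subgroup G) [N.Normal], N ≠ ⊥ → (∃ H : Subgroup (G ⧸ N), (H : Set (G ⧸ N)) = {g : (G ⧸ N) | g ^ p = 1})) :
    (∃ x y : G, Subgroup.closure ({x, y} : Set G) = ⊤) ∧ (⊤ : Subgroup G).lowerCentralSeries (p - 1) ≠ ⊥ ∧
      Monoid.exponent G = p ^ 2 ∧ IsCyclic ↥(Subgroup.center G) ∧ p ^ (p + 1) ≤ Nat.card G := by
  have hp : p.Prime := Fact.out
  obtain ⟨x, y, hx, hy, hxy⟩ : ∃ x y : G, x ^ p = 1 ∧ y ^ p = 1 ∧ (x * y) ^ p ≠ 1 := by
    by_contra h
    push Not at h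
    exact hnc ⟨⟨⟨⟨{g : G | g ^ p = 1}, fun ha hb => h _ _ ha hb⟩, one_pow p⟩,
      fun {a} ha => by rw [Set.mem_setOf_eq, inv_pow, show a ^ p = 1 from ha, inv_one]⟩, rfl⟩
  have hgen : closure ({x, y} : Set G) = ⊤ := by
    by_contra h
    obtain ⟨H, hH⟩ := hsub _ h
    have h1 : (⟨x, subset_closure (by simp)⟩ : closure ({x, y} : Set G)) ∈ (H : Set _) :=
      hH ▸ Subtype.ext hx
    have h2 : (⟨y, subset_closure (by simp)⟩ : closure ({x, y} : Set G)) ∈ (H : Set _) :=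
      hH ▸ Subtype.ext hy
    have h3 := SetLike.mem_coe.mpr (H.mul_mem h1 h2)
    rw [hH] at h3
    exact hxy (congrArg Subtype.val h3)
  have hq : ∀ (N : Subgroup G) [N.Normal], N ≠ ⊥ → ∀ g : G, g ^ p ∈ N := by
    intro N _ hN g
    obtain ⟨H, hH⟩ := hquo N hN
    have h1 : closure ({x, y} : Set G) ≤ H.comap (QuotientGroup.mk' N) := by
      rw [closure_le]
      rintro z (rfl | rfl)
      · show QuotientGroup.mk' N z ∈ (H : Set (G ⧸ N))
        rw [hH, Set.mem_setOf_eq, ← map_pow, hx, map_one]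
      · show QuotientGroup.mk' N z ∈ (H : Set (G ⧸ N))
        rw [hH, Set.mem_setOf_eq, ← map_pow, hy, map_one]
    have h2 : QuotientGroup.mk' N g ∈ (H : Set _) := h1 (hgen ▸ mem_top g)
    rw [hH, Set.mem_setOf_eq, ← map_pow] at h2
    exact (QuotientGroup.eq_one_iff _).mp h2
  have hz : ∀ z ∈ center G, z ≠ 1 → ∀ g : G, g ^ p ∈ zpowers z := fun z hz h1 =>
    @hq (zpowers z) ⟨fun a ha g => by
      rwa [mem_center_iff.mp (zpowers_le.mpr hz ha) g, mul_inv_cancel_right]⟩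
      (zpowers_ne_bot.mpr h1)
  have hcl : (⊤ : Subgroup G).lowerCentralSeries (p - 1) ≠ ⊥ := by
    intro h
    refine hxy ?_
    have := Regular.mul_pow_eq_one (Regular.isRegular_of_class_lt hG fun a b =>
      le_bot_iff.mp (h ▸ Subgroup.lowerCentralSeries_mono _ le_top)) 1 (a := x) (b := y)
      (by rwa [pow_one]) (by rwa [pow_one])
    rwa [pow_one] at this
  haveI : Nontrivial G := ⟨_, _, hxy⟩
  refine ⟨⟨x, y, hgen⟩, hcl, ?_, ?_, ?_⟩
  · haveI := hG.center_nontrivial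
    obtain ⟨z, hz0⟩ := exists_prime_orderOf_dvd_card' (G := center G) p
      ((hG.to_subgroup _).card_eq_or_dvd.resolve_left Finite.one_lt_card.ne')
    rw [← orderOf_coe] at hz0
    have h1 : Monoid.exponent G ∣ p ^ 2 := Monoid.exponent_dvd_of_forall_pow_eq_one fun g => by
      obtain ⟨n, hn⟩ := hz z z.2 (fun h => hp.one_lt.ne (by rw [← hz0, h, orderOf_one])) g
      rw [pow_two, pow_mul, ← hn, ← zpow_natCast, ← zpow_mul, mul_comm, zpow_mul, zpow_natCast,
        ← hz0, pow_orderOf_eq_one, one_zpow]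
    obtain ⟨k, hk, h2⟩ := (Nat.dvd_prime_pow hp).mp h1
    by_contra h3
    refine hxy (orderOf_dvd_iff_pow_eq_one.mp ((Monoid.order_dvd_exponent _).trans ?_))
    have : k ≠ 2 := fun h => h3 (h ▸ h2)
    rw [h2]
    exact (pow_dvd_pow p (by omega : k ≤ 1)).trans (pow_one p).dvd
  · by_contra h
    obtain ⟨a, ha, b, hb, h1, h2, h3⟩ := PGrp.exists_orderOf_eq_prime_pair (hG.to_subgroup _)
      (inferInstance : IsMulCommutative (center G)) h
    have h4 := hz a ha (fun h => hp.one_lt.ne (by rw [← h1, h, orderOf_one])) (x * y)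
    have hb1 : b ≠ 1 := fun h => h3 (h ▸ one_mem _)
    have h5 := zpowers_le.mpr (hz b hb hb1 (x * y))
    have h6 := card_dvd_of_le h5
    rw [Nat.card_zpowers b, orderOf_eq_prime h2 hb1, Nat.dvd_prime hp, card_eq_one,
      zpowers_eq_bot] at h6
    refine h3 (zpowers_le.mpr h4 ?_)
    rw [eq_of_le_of_card_ge h5 (by
      rw [h6.resolve_left hxy, Nat.card_zpowers b, orderOf_eq_prime h2 hb1])]
    exact mem_zpowers b
  · obtain ⟨n, hn⟩ := hG.exists_card_eq
    rw [hn, Nat.pow_le_pow_iff_right hp.one_lt]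
    by_contra h
    apply hcl
    by_cases h2 : 2 ≤ n
    · exact le_bot_iff.mp (PGrp.lowerCentralSeries_eq_bot_of_card hn h2 ▸
        Subgroup.lowerCentralSeries_antitone _ (by omega))
    · refine absurd (orderOf_dvd_iff_pow_eq_one.mp ((_root_.orderOf_dvd_natCard _).trans ?_)) hxy
      rw [hn]
      exact (pow_dvd_pow p (by omega : n ≤ 1)).trans (pow_one p).dvd

end Cfsg.Agent.S3872
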