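import Cfsg.Statements.S3873
import Cfsg.Agent.S3868

set_option autoImplicit false
open Cfsg

namespace Cfsg.Agent.S3873

open Subgroup CfsgLib
open scoped Pointwise commutatorElement



theorem result {G : Type*} [Group G] [Finite G] {p : ℕ} [Fact p.Prime]
    (hnc : ¬ (∃ H : Subgroup G, (H : Set G) = {g : G | g ^ p = 1})) (hsub : ∀ K : Subgroup G, K ≠ ⊤ → (∃ H : Subgroup ↥K, (H : Set ↥K) = {g : ↥K | g ^ p = 1}))
    (hquo : ∀ (N : Subgroup G) [N.Normal], N ≠ ⊥ → (∃ H : Subgroup (G ⧸ N), (H : Set (G ⧸ N)) = {g : (G ⧸ N) | g ^ p = 1}))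
    (hns : ¬ IsSimpleGroup G) (hnp : ¬ IsPGroup p G) :
    ∃ q : ℕ, q.Prime ∧ q ≠ p ∧ Nat.card G = p * q ^ orderOf (q : ZMod p) ∧
      ∃ A : Subgroup G, A.Normal ∧ Nat.card ↥A = q ^ orderOf (q : ZMod p) ∧ Cfsg.IsElementaryAbelian q A ∧
        ∀ B : Subgroup G, B.Normal → B ≤ A → B = ⊥ ∨ B = A := by
  have hp : p.Prime := Fact.out
  obtain ⟨x, y, hx, hy, hxy⟩ : ∃ x y : G, x ^ p = 1 ∧ y ^ p = 1 ∧ (x * y) ^ p ≠ 1 := by
    by_contra h
    push Not at h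
    exact hnc ⟨⟨⟨⟨{g : G | g ^ p = 1}, fun ha hb => h _ _ ha hb⟩, one_pow p⟩,
      fun {a} ha => by rw [Set.mem_setOf_eq, inv_pow, show a ^ p = 1 from ha, inv_one]⟩, rfl⟩
  have hgen : closure ({x, y} : Set G) = ⊤ := by
    by_contra h
    obtain ⟨H, hH⟩ := hsub _ h
    have h1 : (⟨x, subset_closure (by simp)⟩ : closure ({x, y} : Set G)) ∈ (H : Set _) :=
      hH ▸ Subtype.ext hx
    have h2 : (⟨y, subset_closure (by simp)⟩ : closure ({x, y} : Set G)) ∈ (H : Set _) :=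
      hH ▸ Subtype.ext hy
    have h3 := SetLike.mem_coe.mpr (H.mul_mem h1 h2)
    rw [hH] at h3
    exact hxy (congrArg Subtype.val h3)
  have hq : ∀ (N : Subgroup G) [N.Normal], N ≠ ⊥ → ∀ g : G, g ^ p ∈ N := by
    intro N _ hN g
    obtain ⟨H, hH⟩ := hquo N hN
    have h1 : closure ({x, y} : Set G) ≤ H.comap (QuotientGroup.mk' N) := by
      rw [closure_le]
      rintro z (rfl | rfl)
      · show QuotientGroup.mk' N z ∈ (H : Set (G ⧸ N))
        rw [hH, Set.mem_setOf_eq, ← map_pow, hx, map_one]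
      · show QuotientGroup.mk' N z ∈ (H : Set (G ⧸ N))
        rw [hH, Set.mem_setOf_eq, ← map_pow, hy, map_one]
    have h2 : QuotientGroup.mk' N g ∈ (H : Set _) := h1 (hgen ▸ mem_top g)
    rw [hH, Set.mem_setOf_eq, ← map_pow] at h2
    exact (QuotientGroup.eq_one_iff _).mp h2
  have hq' : ∀ (N : Subgroup G) [N.Normal], N ≠ ⊥ → IsPGroup p (G ⧸ N) := by
    intro N _ hN g
    obtain ⟨g, rfl⟩ := QuotientGroup.mk_surjective g
    exact ⟨1, by rw [pow_one, ← QuotientGroup.mk_pow, QuotientGroup.eq_one_iff]; exact hq N hN g⟩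
  have h0 : ∀ K : Subgroup G, K.Normal → IsPGroup p K → K = ⊥ := fun K _ hK => by
    by_contra h
    have := (hq' K h).to_subgroup ⊤ |>.comap_of_ker_isPGroup (QuotientGroup.mk' K)
      (by rwa [QuotientGroup.ker_mk'])
    rw [comap_top] at this
    exact hnp (this.of_equiv topEquiv)
  haveI : Nontrivial G := ⟨_, _, hxy⟩
  obtain ⟨M, hM, hM0, hM1⟩ : ∃ M : Subgroup G, M.Normal ∧ M ≠ ⊥ ∧ M ≠ ⊤ := by
    by_contra h
    push Not at h
    exact hns ⟨fun M hM => or_iff_not_imp_left.mpr (h M hM)⟩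
  have h1 : ∀ g ∈ M, g ^ p = 1 → g = 1 := by
    obtain ⟨H, hH⟩ := hsub M hM1
    have h2 : ∀ g : M, g ∈ H ↔ g ^ p = 1 := fun g => by
      rw [← SetLike.mem_coe, hH, Set.mem_setOf_eq]
    have h3 := h0 (H.map M.subtype) ⟨by
      rintro _ ⟨a, ha, rfl⟩ g
      refine ⟨⟨_, hM.conj_mem _ a.2 g⟩, (h2 _).mpr (Subtype.ext ?_), rfl⟩
      show (g * a * g⁻¹) ^ p = 1
      rw [conj_pow, ← SubmonoidClass.coe_pow, (h2 a).mp ha]
      simp⟩ (IsPGroup.map (fun a => ⟨1, by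
        rw [pow_one]; exact Subtype.ext ((h2 _).mp a.2)⟩) _)
    intro g hg hgp
    exact mem_bot.mp (h3 ▸ ⟨⟨g, hg⟩, (h2 _).mpr (Subtype.ext hgp), rfl⟩)
  have h2 : ∀ (k : ℕ) (g : G), g ^ p ^ k = 1 → g ^ p = 1 := by
    intro k
    induction k with
    | zero => intro g hg; rw [pow_zero, pow_one] at hg; rw [hg, one_pow]
    | succ k ih =>
      intro g hg
      rw [pow_succ', pow_mul] at hg
      exact h1 _ (hq M hM0 g) (ih _ hg)
  refine S3868.result (fun h => hxy ?_) (fun K hK => ?_)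
    (fun N _ hN => isPClosed_of_isPGroup (hq' N hN)) hns
  · have h3 : ∀ z : G, z ^ p = 1 → z = 1 := fun z hz => by
      have := isPClosed_iff_le_pCore.mp h (zpowers z) (fun ⟨_, n, rfl⟩ => ⟨1, Subtype.ext (by
        show (z ^ n) ^ p ^ 1 = 1
        rw [pow_one, ← zpow_natCast, ← zpow_mul, mul_comm, zpow_mul, zpow_natCast, hz, one_zpow])⟩)
      rwa [h0 _ inferInstance (pCore_isPGroup p), le_bot_iff, zpowers_eq_bot] at this
    rw [h3 x hx, h3 y hy, one_mul, one_pow]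
  · obtain ⟨H, hH⟩ := hsub K hK
    have h3 : ∀ g : K, g ∈ H ↔ g ^ p = 1 := fun g => by
      rw [← SetLike.mem_coe, hH, Set.mem_setOf_eq]
    haveI : H.Normal := ⟨fun a ha g => by rw [h3, conj_pow, (h3 a).mp ha]; simp⟩
    refine isPClosed_iff_le_pCore.mpr fun R hR => le_trans (fun a ha => ?_)
      (le_pCore (N := H) fun a => ⟨1, by rw [pow_one]; exact Subtype.ext ((h3 _).mp a.2)⟩)
    obtain ⟨k, hk⟩ := hR ⟨a, ha⟩
    exact (h3 a).mpr (Subtype.ext (h2 k a (congrArg (Subtype.val ∘ Subtype.val) hk)))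

end Cfsg.Agent.S3873
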