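import Cfsg.Statements.S3875
import Cfsg.Agent.Lib.Blk.DefOne
import Cfsg.Agent.Lib.SL2Card
import Cfsg.Agent.Lib.H1SL2
import Cfsg.Agent.Lib.H9SylowNum
import Cfsg.Agent.Lib.CorePClosed

set_option autoImplicit false
open Cfsg

namespace Cfsg.Agent.S3875

open Subgroup CfsgLib Matrix
open scoped MatrixGroups

theorem not_closed {H : Type*} [Group H] {p r : ℕ} (hr : r.Coprime p) {x y : H} (hx : x ^ p = 1)
    (hy : y ^ p = 1) (h1 : x * y ≠ 1) (h : (x * y) ^ r = 1) : ¬ IsPClosed p H := by
  intro hc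
  have hm : ∀ z : H, z ^ p = 1 → z ∈ pCore p H := fun z hz =>
    isPClosed_iff_le_pCore.mp hc (zpowers z) (fun ⟨g, k, hk⟩ => ⟨1, Subtype.ext (by
      simp only at hk
      simp only [pow_one, SubmonoidClass.mk_pow, OneMemClass.coe_one, ← hk]
      rw [← zpow_natCast, ← _root_.zpow_mul, mul_comm, _root_.zpow_mul, zpow_natCast, hz, _root_.one_zpow])⟩)
      (mem_zpowers z)
  obtain ⟨k, hk⟩ := pCore_isPGroup (G := H) p ⟨_, mul_mem (hm x hx) (hm y hy)⟩
  have hk' : (x * y) ^ p ^ k = 1 := congrArg Subtype.val hk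
  exact h1 (orderOf_eq_one_iff.mp (Nat.eq_one_of_dvd_coprimes (hr.pow_right k)
    (orderOf_dvd_of_pow_eq_one h) (orderOf_dvd_of_pow_eq_one hk')))

theorem ex_affine {p : ℕ} [hp : Fact p.Prime] {m : ℕ} (hm : IsPrimePow m) (hm1 : m % p = 1) :
    ∃ (H : Type) (_ : Group H) (_ : Finite H), Nat.card H = p * m ∧ ¬ IsPClosed p H := by
  obtain ⟨r, k, hr, hk, rfl⟩ := (isPrimePow_nat_iff m).mp hm
  have := Fact.mk hr
  have hrp : r.Coprime p := (Nat.coprime_primes hr hp.out).mpr fun h => by
    rw [h, Nat.mod_eq_zero_of_dvd (dvd_pow_self p hk.ne')] at hm1; omega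
  let F := GaloisField r k
  have hF : Nat.card F = r ^ k := GaloisField.card r k hk.ne'
  have hd : p ∣ Nat.card Fˣ := by
    rw [Nat.card_units, hF]
    exact (Nat.modEq_iff_dvd' (Nat.one_le_pow _ _ hr.pos)).mp
      (by rw [Nat.ModEq, hm1, Nat.mod_eq_of_lt hp.out.one_lt])
  obtain ⟨ζ, hζ⟩ := exists_prime_orderOf_dvd_card' p hd
  let φ : zpowers ζ →* MulAut (Multiplicative F) :=
    (MulAutMultiplicative F).symm.toMonoidHom.comp (DistribMulAction.toAddAut (zpowers ζ) F)
  let z : zpowers ζ := ⟨ζ, mem_zpowers ζ⟩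
  have hz : z ^ p = 1 := Subtype.ext (by rw [← hζ]; exact pow_orderOf_eq_one ζ)
  have e : (SemidirectProduct.inr z : Multiplicative F ⋊[φ] zpowers ζ) *
      (SemidirectProduct.inl (Multiplicative.ofAdd 1) * (SemidirectProduct.inr z)⁻¹ *
        (SemidirectProduct.inl (Multiplicative.ofAdd 1))⁻¹) =
      SemidirectProduct.inl (Multiplicative.ofAdd ((ζ : F) - 1)) := by
    rw [← mul_assoc, ← mul_assoc, ← map_inv, ← SemidirectProduct.inl_aut, ← map_inv, ← map_mul]
    congr 1
    change Multiplicative.ofAdd ((ζ : F) * 1 + -1) = _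
    rw [mul_one, sub_eq_add_neg]
  refine ⟨Multiplicative F ⋊[φ] zpowers ζ, inferInstance,
    Finite.of_equiv _ SemidirectProduct.equivProd.symm, ?_, not_closed hrp
      (x := SemidirectProduct.inr z) (by rw [← map_pow, hz, map_one])
      (y := SemidirectProduct.inl (Multiplicative.ofAdd 1) * (SemidirectProduct.inr z)⁻¹ *
        (SemidirectProduct.inl (Multiplicative.ofAdd 1))⁻¹)
      (by rw [conj_pow, inv_pow, ← map_pow, hz]; simp) ?_ ?_⟩
  · rw [SemidirectProduct.card, Nat.card_zpowers, hζ, mul_comm]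
    exact congrArg _ hF
  · rw [e, ne_eq, map_eq_one_iff _ SemidirectProduct.inl_injective, ofAdd_eq_one, sub_eq_zero]
    intro h
    have : ζ = 1 := Units.ext h
    rw [this, orderOf_one] at hζ
    exact hp.out.one_lt.ne hζ
  · rw [e, ← map_pow, ← ofAdd_nsmul, nsmul_eq_mul, CharP.cast_eq_zero, zero_mul]; simp

theorem ex_psl {p : ℕ} [hp : Fact p.Prime] (h2 : p ≠ 2) :
    ∃ (H : Type) (_ : Group H) (_ : Finite H), Nat.card H = p * (p ^ 2 - 1) / 2 ∧
      ¬ IsPClosed p H := by
  have h2' : (2 : ZMod p) ≠ 0 := fun h => h2 ((Nat.prime_dvd_prime_iff_eq hp.out Nat.prime_two).mp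
    ((ZMod.natCast_eq_zero_iff 2 p).mp (by exact_mod_cast h)))
  let x : SL(2, ZMod p) := ⟨!![1, 1; 0, 1], by simp [det_fin_two]⟩
  let y : SL(2, ZMod p) := ⟨!![1, 0; -2, 1], by simp [det_fin_two]⟩
  have hxy : ((x * y : SL(2, ZMod p)) : Matrix (Fin 2) (Fin 2) (ZMod p)) = !![-1, 1; -2, 1] := by
    change !![1, 1; 0, 1] * !![1, 0; -2, 1] = _
    simp; norm_num
  let π := QuotientGroup.mk' (center SL(2, ZMod p))
  refine ⟨ProjectiveSpecialLinearGroup (Fin 2) (ZMod p), inferInstance,
    inferInstanceAs (Finite (SL(2, ZMod p) ⧸ center _)),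
    by rw [SL2C.card_PSL2 h2', Nat.card_zmod],
    not_closed (r := 2) ((Nat.coprime_primes Nat.prime_two hp.out).mpr h2.symm)
      (x := π x) (y := π y) ?_ ?_ ?_ ?_⟩
  · rw [← map_pow, H1.SL2_pow_char_eq_one (g := x) (by simp [x]; norm_num), map_one]
  · rw [← map_pow, H1.SL2_pow_char_eq_one (g := y) (by simp [y]; norm_num), map_one]
  · rw [← map_mul]
    intro h
    obtain ⟨r, -, hr⟩ := Matrix.SpecialLinearGroup.mem_center_iff.mp ((QuotientGroup.eq_one_iff (x * y)).mp h)
    have := congrFun (congrFun (hr.trans hxy) 0) 1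
    simp at this
  · rw [← map_mul, ← map_pow]
    refine (QuotientGroup.eq_one_iff ((x * y) ^ 2)).mpr
      (Matrix.SpecialLinearGroup.mem_center_iff.mpr ⟨-1, by simp, ?_⟩)
    rw [Matrix.SpecialLinearGroup.coe_pow, hxy]
    ext i j
    fin_cases i <;> fin_cases j <;> simp [sq] <;> norm_num

theorem lower {p : ℕ} [hp : Fact p.Prime] {m : ℕ}
    (hleast : ∀ k : ℕ, IsPrimePow k → k % p = 1 → m ≤ k) (n : ℕ) :
    ∀ (H : Type) [Group H] [Finite H], Nat.card H = n → ¬ IsPClosed p H →
      min (p * m) (p * (p ^ 2 - 1) / 2) ≤ n := by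
  induction n using Nat.strong_induction_on with
  | _ n ih =>
  intro H _ _ hn hc
  by_contra hlt
  push Not at hlt
  have hlt1 : n < p * m := hlt.trans_le (min_le_left _ _)
  have hlt2 : n < p * (p ^ 2 - 1) / 2 := hlt.trans_le (min_le_right _ _)
  have hsub : ∀ K : Subgroup H, K ≠ ⊤ → IsPClosed p K := fun K hK => by
    by_contra h
    have := ih _ (hn ▸ card_lt_of_ne_top hK) K rfl h
    have := hn ▸ card_lt_of_ne_top hK
    omega
  obtain ⟨P, hP⟩ : ∃ P : Sylow p H, ¬ (P : Subgroup H).Normal := by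
    by_contra h; push Not at h; exact hc h
  have hp1 := hp.out.one_lt
  set N := normalizer ((P : Subgroup H) : Set H) with hN
  have hN1 : N.index ≠ 1 := fun h => hP (normalizer_eq_top_iff.mp (index_eq_one.mp h))
  have hNm : N.index % p = 1 := by
    have := card_sylow_modEq_one p H
    rwa [H9.card_sylow_eq_index P, Nat.ModEq, Nat.mod_eq_of_lt hp1] at this
  obtain ⟨a, ha⟩ : ∃ a, N.index = a * p + 1 := ⟨N.index / p, by
    have := Nat.div_add_mod' N.index p; omega⟩
  have ha1 : 1 ≤ a := by by_contra h; exact hN1 (by rw [ha, show a = 0 by omega]; simp)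
  have hPN : Nat.card P * N.index ≤ n := by
    rw [← hn, ← N.card_mul_index]
    exact Nat.mul_le_mul_right _ (card_le_of_le le_normalizer)
  have h2n : 2 * n < p * (p ^ 2 - 1) := by omega
  have hsq : p ^ 2 - 1 + 1 = p ^ 2 := Nat.sub_add_cancel (Nat.one_le_pow _ _ (by omega))
  have hPc : Nat.card P = p := by
    obtain ⟨k, hk⟩ := IsPGroup.iff_card.mp P.isPGroup'
    rcases k with _ | _ | k
    · exact absurd (card_eq_one.mp hk ▸ normal_bot) hP
    · simpa using hk
    · exfalso
      have : p ^ 2 ≤ p ^ (k + 1 + 1) := Nat.pow_le_pow_right (by omega) (by omega)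
      have : p ^ 2 * (p + 1) ≤ n :=
        (Nat.mul_le_mul (hk ▸ this) (by rw [ha]; nlinarith)).trans hPN
      nlinarith
  -- normal subgroups containing `P`
  have hs : ∀ K : Subgroup H, K.Normal → (P : Subgroup H) ≤ K → K = ⊤ := fun K hK hPK => by
    by_contra h
    have := hsub K h (P.subtype hPK)
    have h1 := (normal_subgroupOf_iff_le_normalizer hPK).mp this
    have h2 := Sylow.normalizer_sup_eq_top' P hPK
    exact hP (normalizer_eq_top_iff.mp ((sup_eq_left.mpr h1).symm.trans h2))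
  by_cases he : N ≤ centralizer ((P : Subgroup H) : Set H)
  · obtain ⟨K, hK, hKP⟩ := PCompl.hnpc_exists_isComplement'
      (PCompl.hnpc_of_normalizer_le_centralizer P he) P
    have hcop : (Nat.card K).Coprime p := by
      rw [← hKP.index_eq_card]
      exact ((Nat.Prime.coprime_iff_not_dvd hp.out).mpr P.not_dvd_index).symm
    have hNK : N.relIndex K = N.index := by
      rw [← relIndex_top_right, ← hKP.sup_eq_top, sup_comm]
      exact (H9.relIndex_sup_eq_of_le_normalizer le_normalizer le_normalizer_of_normal).symm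
    obtain ⟨q, hq, hqd⟩ := Nat.exists_prime_and_dvd hN1
    have h1 := H9.ordProj_relIndex_normalizer_modEq_one K P le_normalizer_of_normal hcop hq
    rw [← hN, hNK, Nat.ModEq, Nat.mod_eq_of_lt hp1] at h1
    have h0 : N.index ≠ 0 := index_ne_zero_of_finite
    have h2 := hleast _ ((isPrimePow_nat_iff _).mpr
      ⟨q, _, hq, hq.factorization_pos_of_dvd h0 hqd, rfl⟩) h1
    have h3 := Nat.ordProj_le q h0
    rw [hPc] at hPN
    have := Nat.mul_le_mul_left p (h2.trans h3)
    omega
  · have := Fintype.ofFinite H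
    have h1 := Blk.D1.core hp.out hPc P.not_dvd_index hs ha1 ha (by
      have h1 : (centralizer ((P : Subgroup H) : Set H)).relIndex N ≠ 1 :=
        fun h => he (relIndex_eq_one.mp h)
      have h0 := FT.relIndex_ne_zero' (centralizer ((P : Subgroup H) : Set H)) N
      rw [← hN]; omega)
    have h2 : p * (centralizer ((P : Subgroup H) : Set H)).index ≤ n := by
      rw [← hn, ← (centralizer ((P : Subgroup H) : Set H)).card_mul_index]
      exact Nat.mul_le_mul_right _ (hPc.ge.trans (card_le_of_le (Blk.D1.le_cent hp.out hPc)))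
    have h3 : p ^ 2 - 1 ≤ 2 * (centralizer ((P : Subgroup H) : Set H)).index := by
      zify [Nat.one_le_pow 2 p (by omega)]; exact h1
    nlinarith

/-- Let p be an odd prime and let m be the least prime power congruent to 1 modulo p. Then the least order of a finite group whose Sylow p-subgroups are not normal is the smaller of p · m and p(p² − 1)/2: every finite group whose Sylow p-subgroups are not normal has at least that order, and some group of exactly that order has non-normal Sylow p-subgroups. -/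
theorem result (p : ℕ) [Fact p.Prime] (hp : p ≠ 2) (m : ℕ) (hm : IsPrimePow m) (hm1 : m % p = 1)
    (hleast : ∀ k : ℕ, IsPrimePow k → k % p = 1 → m ≤ k) :
    (∀ (H : Type) [Group H] [Finite H], ¬ Cfsg.IsPClosed p H → min (p * m) (p * (p ^ 2 - 1) / 2) ≤ Nat.card H) ∧
      ∃ (H : Type) (_ : Group H) (_ : Finite H), Nat.card H = min (p * m) (p * (p ^ 2 - 1) / 2) ∧ ¬ Cfsg.IsPClosed p H := by
  refine ⟨fun H _ _ h => lower hleast _ H rfl h, ?_⟩
  rcases min_cases (p * m) (p * (p ^ 2 - 1) / 2) with h | h <;> rw [h.1]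
  · exact ex_affine hm hm1
  · exact ex_psl hp

end Cfsg.Agent.S3875
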