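import Cfsg.Statements.S3889
import Mathlib
import Cfsg.Agent.Lib.PGroupMisc

set_option autoImplicit false
open Cfsg

namespace Cfsg.Agent.S3889

open CfsgLib.PGrp
open scoped commutatorElement

/-- A finite abelian group that is the union of a family of proper subgroups any two of which intersect trivially is elementary abelian: its exponent is a prime. -/
theorem result {G : Type*} [CommGroup G] [Finite G] (𝓑 : Set (Subgroup G)) (hprop : ∀ B ∈ 𝓑, B ≠ ⊤)
    (hcov : ∀ g : G, ∃ B ∈ 𝓑, g ∈ B) (hdisj : ∀ B ∈ 𝓑, ∀ C ∈ 𝓑, B ≠ C → B ⊓ C = ⊥) :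
    (Monoid.exponent G).Prime := by
  have key : ∀ B ∈ 𝓑, ∀ x ∈ B, x ≠ 1 → ∀ y, y ∉ B → orderOf x = orderOf y := by
    have h1 : ∀ B ∈ 𝓑, ∀ x ∈ B, ∀ y, y ∉ B → x ^ orderOf y = 1 := by
      intro B hB x hx y hy
      by_contra h
      obtain ⟨C, hC, hxy⟩ := hcov (x * y)
      have h2 : x ^ orderOf y ∈ B ⊓ C := by
        refine ⟨B.pow_mem hx _, ?_⟩
        have := C.pow_mem hxy (orderOf y)
        rwa [mul_pow, pow_orderOf_eq_one, mul_one] at this
      have h3 : B = C := by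
        by_contra h3
        rw [hdisj B hB C hC h3] at h2
        exact h h2
      subst h3
      exact hy (by simpa using mul_mem (inv_mem hx) hxy)
    intro B hB x hx hx1 y hy
    obtain ⟨C, hC, hyC⟩ := hcov y
    have hxC : x ∉ C := by
      intro h
      have h2 : B ≠ C := fun h2 => hy (h2 ▸ hyC)
      have : x ∈ B ⊓ C := ⟨hx, h⟩
      rw [hdisj B hB C hC h2] at this
      exact hx1 this
    exact Nat.dvd_antisymm (orderOf_dvd_of_pow_eq_one (h1 B hB x hx y hy))
      (orderOf_dvd_of_pow_eq_one (h1 C hC y hyC x hxC))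
  obtain ⟨B₀, hB₀, -⟩ := hcov 1
  obtain ⟨g₀, -, hg₀⟩ := SetLike.exists_of_lt (lt_top_iff_ne_top.2 (hprop B₀ hB₀))
  have hnt : Nontrivial G := ⟨g₀, 1, fun h => hg₀ (h ▸ B₀.one_mem)⟩
  obtain ⟨p, hp, hpd⟩ := Nat.exists_prime_and_dvd (Finite.one_lt_card (α := G)).ne'
  have := Fact.mk hp
  obtain ⟨x, hx⟩ := exists_prime_orderOf_dvd_card' p hpd
  have hx1 : x ≠ 1 := by
    rintro rfl
    rw [orderOf_one] at hx
    exact hp.ne_one hx.symm
  obtain ⟨B, hB, hxB⟩ := hcov x
  obtain ⟨y, -, hy⟩ := SetLike.exists_of_lt (lt_top_iff_ne_top.2 (hprop B hB))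
  have : Monoid.exponent G = p := by
    rw [Monoid.exponent_eq_prime_iff hp]
    intro g hg
    by_cases hgB : g ∈ B
    · rw [key B hB g hgB hg y hy, ← key B hB x hxB hx1 y hy, hx]
    · rw [← key B hB x hxB hx1 g hgB, hx]
  rwa [this]

end Cfsg.Agent.S3889
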