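import Cfsg.Statements.S3890
import Mathlib
import Cfsg.Agent.Lib.NilpCover
import Cfsg.Agent.Lib.SylowIn

set_option autoImplicit false
open Cfsg

namespace Cfsg.Agent.S3890

open CfsgLib.PGrp
open scoped commutatorElement

open CfsgLib Subgroup

theorem le_normalizer_of_ne_top {G : Type*} [Group G] [Finite G] (hZ : center G = ⊥)
    {𝓐 : Finset (Subgroup G)} (h : IsNilpMinCover 𝓐) {p : ℕ} [Fact p.Prime] (P : Sylow p G)
    (hab : IsMulCommutative (P : Subgroup G)) (hnn : ¬ (P : Subgroup G).Normal)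
    (hel : ¬ (Cfsg.IsElementaryAbelian p (P : Subgroup G) ∧ p < Nat.card (P : Subgroup G))) :
    (∀ g : G, centralizer ((g • P : Sylow p G) : Set G) ∈ 𝓐) ∧
    (∀ g : G, centralizer ((g • P : Sylow p G) : Set G) = centralizer ((P : Subgroup G) : Set G) →
      g ∈ normalizer ((P : Subgroup G) : Set G)) ∧
    ∀ M : Subgroup G, M ≠ ⊤ → centralizer ((P : Subgroup G) : Set G) ≤ M →
      M ≤ normalizer ((P : Subgroup G) : Set G) := by
  have hP : (P : Subgroup G) ≠ ⊥ := fun h => hnn (h ▸ inferInstance)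
  have hab' : ∀ g : G, IsMulCommutative ((g • P : Sylow p G) : Subgroup G) := fun g => by
    rw [Sylow.coe_subgroup_smul]
    exact Subgroup.map_isMulCommutative _ _
  have hcard : ∀ g : G, Nat.card ((g • P : Sylow p G) : Subgroup G) = Nat.card (P : Subgroup G) :=
    fun g => by rw [Sylow.card_eq_multiplicity, Sylow.card_eq_multiplicity]
  have h1 : ∀ g : G, centralizer ((g • P : Sylow p G) : Set G) ∈ 𝓐 := by
    intro g
    refine h.centralizer_mem hZ (g • P) (hab' g) (fun h => hP ?_) fun h => hel ⟨⟨hab, ?_⟩, ?_⟩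
    · rw [eq_bot_iff_card, ← hcard g, h, card_bot]
    · intro a ha
      have := h.1.2 _ (show MulAut.conj g a ∈ ((g • P : Sylow p G) : Subgroup G) from ⟨a, ha, rfl⟩)
      rwa [← map_pow, map_eq_one_iff _ (MulAut.conj g).injective] at this
    · exact hcard g ▸ h.2
  have h2 : ∀ g : G, centralizer ((g • P : Sylow p G) : Set G) =
      centralizer ((P : Subgroup G) : Set G) → g ∈ normalizer ((P : Subgroup G) : Set G) := by
    intro g hg
    have h3 : ((g • P : Sylow p G) : Subgroup G) ≤ normalizer ((P : Subgroup G) : Set G) := by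
      refine le_trans ?_ (centralizer_le_normalizer _)
      rw [← hg]
      have := hab' g
      exact le_centralizer _
    have h4 := P.is_maximal' (P.isPGroup'.to_sup_of_normal_left' (g • P).isPGroup' h3) le_sup_left
    have h5 := (g • P).is_maximal' P.isPGroup' (h4 ▸ le_sup_right)
    exact Sylow.smul_eq_iff_mem_normalizer.1 (Sylow.ext h5.symm)
  refine ⟨h1, h2, fun M hM hle m hm => h2 m ?_⟩
  refine h.eq_of_le (h1 m) (by simpa using h1 1) hM ?_ hle
  have : centralizer ((m • P : Sylow p G) : Set G) =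
      (centralizer ((P : Subgroup G) : Set G)).map (MulAut.conj m).toMonoidHom :=
    centralizer_map_conj m P
  rw [this]
  rintro _ ⟨x, hx, rfl⟩
  exact mul_mem (mul_mem hm (hle hx)) (inv_mem hm)

theorem isCoatom_normalizer {G : Type*} [Group G] {P : Subgroup G} (hnn : ¬ P.Normal)
    (h : ∀ M : Subgroup G, M ≠ ⊤ → centralizer (P : Set G) ≤ M → M ≤ normalizer (P : Set G)) :
    IsCoatom (normalizer (P : Set G)) := by
  refine ⟨fun h => hnn (normalizer_eq_top_iff.1 h), fun M hM => ?_⟩
  by_contra h1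
  exact hM.not_ge (h M h1 ((centralizer_le_normalizer _).trans hM.le))

/-- A cover of a group is a finite set of proper subgroups whose union is the whole group; it is minimal when no cover has fewer members, and nilpotent when all its members are nilpotent. Let G be a finite group with trivial center admitting a nilpotent minimal cover 𝓐, and let P be an abelian Sylow p-subgroup of G that is not normal. Then either P is elementary abelian of order greater than p, or P is a Sylow p-subgroup of some member A of 𝓐, the normalizer N of P is a maximal subgroup of G, N meets each of its conjugates by elements outside N in a subgroup of order prime to p, and the centralizer of P equals A. -/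
theorem result {G : Type*} [Group G] [Finite G] (hZ : Subgroup.center G = ⊥) (𝓐 : Finset (Subgroup G))
    (h𝓐 : ((∀ A ∈ 𝓐, A ≠ ⊤) ∧ (∀ g : G, ∃ A ∈ 𝓐, g ∈ A)) ∧ (∀ 𝓑 : Finset (Subgroup G), (∀ A ∈ 𝓑, A ≠ ⊤) ∧ (∀ g : G, ∃ A ∈ 𝓑, g ∈ A) → 𝓐.card ≤ 𝓑.card) ∧ (∀ A ∈ 𝓐, Group.IsNilpotent ↥A)) {p : ℕ} [Fact p.Prime] (P : Sylow p G) (hab : IsMulCommutative ↥(P : Subgroup G))
    (hnn : ¬ (P : Subgroup G).Normal) :
    (Cfsg.IsElementaryAbelian p (P : Subgroup G) ∧ p < Nat.card ↥(P : Subgroup G)) ∨
    (∃ A ∈ 𝓐, (P : Subgroup G) ≤ A ∧ ¬ p ∣ ((P : Subgroup G).subgroupOf A).index ∧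
      IsCoatom (Subgroup.normalizer ((P : Subgroup G) : Set G)) ∧
      (∀ g : G, g ∉ Subgroup.normalizer ((P : Subgroup G) : Set G) →
        ¬ p ∣ Nat.card ↥(Subgroup.normalizer ((P : Subgroup G) : Set G) ⊓
          (Subgroup.normalizer ((P : Subgroup G) : Set G)).map (MulAut.conj g).toMonoidHom)) ∧
      Subgroup.centralizer ((P : Subgroup G) : Set G) = A) := by
  by_cases hel : Cfsg.IsElementaryAbelian p (P : Subgroup G) ∧ p < Nat.card (P : Subgroup G)
  · exact Or.inl hel
  obtain ⟨h1, h2, h3⟩ := le_normalizer_of_ne_top hZ h𝓐 P hab hnn hel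
  have hpp : p.Prime := Fact.out
  refine Or.inr ⟨_, by simpa using h1 1, le_centralizer _,
    (IsSylowIn.of_sylow P (le_centralizer _)).not_dvd, isCoatom_normalizer hnn h3, ?_, rfl⟩
  intro g hg hd
  obtain ⟨⟨x, hx⟩, hxo⟩ := exists_prime_orderOf_dvd_card' p hd
  rw [orderOf_mk] at hxo
  have key : ∀ (Q : Sylow p G), x ∈ normalizer ((Q : Subgroup G) : Set G) →
      x ∈ (Q : Subgroup G) := by
    intro Q hxQ
    have h4 := Q.is_maximal' (Q.isPGroup'.to_sup_of_normal_left'
      (isPGroup_zpowers_iff.2 ⟨1, by rw [hxo, pow_one]⟩) (zpowers_le.2 hxQ)) le_sup_left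
    rw [← h4]
    exact mem_sup_right (mem_zpowers x)
  have h5 := key P (mem_inf.1 hx).1
  have h6 := key (g • P) (by
    rw [sylow_coe_smul_eq_map, normalizer_map_conj]; exact (mem_inf.1 hx).2)
  have hab' : IsMulCommutative ((g • P : Sylow p G) : Subgroup G) := by
    rw [Sylow.coe_subgroup_smul]
    exact Subgroup.map_isMulCommutative _ _
  refine hg (h2 g (IsNilpMinCover.eq_of_mem h𝓐 hZ P hab (h1 g) (by simpa using h1 1) (x := x)
    (fun h => hpp.ne_one (by rw [← hxo, h, orderOf_one])) (k := 1) (by rw [hxo, pow_one])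
    (le_centralizer ((g • P : Sylow p G) : Subgroup G) h6) (le_centralizer _ h5)))

end Cfsg.Agent.S3890
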