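import Cfsg.Statements.S3892
import Mathlib
import Cfsg.Agent.Lib.NilpCover

set_option autoImplicit false
open Cfsg

namespace Cfsg.Agent.S3892

open CfsgLib.PGrp
open scoped commutatorElement

open Subgroup Equiv Equiv.Perm CfsgLib
open scoped Pointwise

theorem mem_stab_of_conj {α : Type*} [Fintype α] [DecidableEq α] {y g : Perm α} (hy : y.IsCycle)
    (h2 : Fintype.card α < 2 * y.support.card)
    (hg : g⁻¹ * y * g ∈ MulAction.stabilizer (Perm α) (y.support : Set α)) :
    g ∈ MulAction.stabilizer (Perm α) (y.support : Set α) := by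
  have hz : (g⁻¹ * y * g).IsCycle := by simpa using hy.conj (g := g⁻¹)
  have hs : (g⁻¹ * y * g).support = y.support.map (g⁻¹ : Perm α).toEmbedding := by
    simpa using support_conj (σ := g⁻¹) (τ := y)
  have h1 : ¬ Disjoint (g⁻¹ * y * g).support y.support := by
    intro h
    have h3 := Finset.card_union_of_disjoint h
    have h4 := Finset.card_le_univ ((g⁻¹ * y * g).support ∪ y.support)
    rw [h3, hs, Finset.card_map] at h4
    omega
  obtain ⟨a, ha1, ha2⟩ := Finset.not_disjoint_iff.1 h1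
  have h3 : (g⁻¹ * y * g).support ⊆ y.support := by
    intro b hb
    obtain ⟨k, rfl⟩ := hz.exists_zpow_eq (mem_support.1 ha1) (mem_support.1 hb)
    exact (MulAction.mem_stabilizer_set.1 (zpow_mem hg k) a).2 ha2
  have h4 := Finset.eq_of_subset_of_card_le h3 (by rw [hs, Finset.card_map])
  rw [MulAction.mem_stabilizer_set]
  intro b
  rw [Finset.mem_coe, Finset.mem_coe]
  conv_rhs => rw [← h4, hs]
  rw [Finset.mem_map_equiv]
  rfl

theorem nilpotent_le_stab {α : Type*} [Fintype α] [DecidableEq α] {H : Subgroup (Perm α)} {y : H}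
    (hy : (y : Perm α).IsCycle) (h2 : Fintype.card α < 2 * (y : Perm α).support.card)
    (B : Subgroup H) (hB : Group.IsNilpotent B) (hyB : y ∈ B) :
    B ≤ (MulAction.stabilizer (Perm α) ((y : Perm α).support : Set α)).subgroupOf H := by
  refine nilpotent_le_of_unique_conj ?_ (fun g hg => mem_stab_of_conj hy h2 hg) hB hyB
  rw [mem_subgroupOf, MulAction.mem_stabilizer_set]
  simp

theorem four_points {α : Type*} [DecidableEq α] {a b c d : α} (hab : a ≠ b) (hac : a ≠ c)
    (had : a ≠ d) (hbc : b ≠ c) (hbd : b ≠ d) (hcd : c ≠ d) :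
    (swap b c * swap a b) ^ 3 = 1 ∧ (swap b d * swap a c) ^ 2 = 1 ∧
      ¬ Commute (swap b c * swap a b) (swap b d * swap a c) := by
  refine ⟨?_, ?_, fun h => ?_⟩
  · ext z
    simp only [pow_succ, pow_zero, one_mul, Perm.mul_apply, swap_apply_def, Perm.one_apply]
    grind
  · ext z
    simp only [pow_succ, pow_zero, one_mul, Perm.mul_apply, swap_apply_def, Perm.one_apply]
    grind
  · have := congrArg (fun σ : Perm α => σ a) h.eq
    simp only [Perm.mul_apply, swap_apply_def] at this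
    grind

theorem no_cover {α : Type*} [Fintype α] [DecidableEq α] {G : Type*} [Group G]
    {𝓐 : Finset (Subgroup G)} (h : IsNilpMinCover 𝓐) (H : Subgroup (Perm α)) (e : H →* G)
    (he : Function.Surjective e) (hk : e.ker = ⊥) (hA : alternatingGroup α ≤ H) {x : Perm α}
    (hxH : x ∈ H) (hx : x.IsCycle) (h4 : 4 ≤ x.support.card)
    (hlt : x.support.card < Fintype.card α) (h2 : Fintype.card α < 2 * x.support.card) : False := by
  obtain ⟨a, ha⟩ : x.support.Nonempty := Finset.card_pos.1 (by omega)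
  have hpow : ∀ k, 0 < k → k < 4 → (x ^ k) a ≠ a := by
    intro k hk hk4 h
    have := orderOf_dvd_of_pow_eq_one ((hx.pow_eq_one_iff' (mem_support.1 ha)).2 h)
    rw [hx.orderOf] at this
    have := Nat.le_of_dvd hk this
    omega
  have h1 : x a ≠ a := by simpa using hpow 1 (by omega) (by omega)
  have h2' : x (x a) ≠ a := by simpa [pow_succ] using hpow 2 (by omega) (by omega)
  have h3 : x (x (x a)) ≠ a := by simpa [pow_succ] using hpow 3 (by omega) (by omega)
  have hM : (MulAction.stabilizer (Perm α) (x.support : Set α)).subgroupOf H ≠ ⊤ := by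
    intro hM
    obtain ⟨c, hc⟩ : ∃ c, c ∉ x.support := by
      by_contra hc
      push Not at hc
      rw [Finset.eq_univ_iff_forall.2 hc, Finset.card_univ] at hlt
      omega
    have hg : swap a (x a) * swap (x a) c ∈ H := hA (by
      rw [mem_alternatingGroup, map_mul, sign_swap h1.symm, sign_swap (by
        rintro rfl; exact hc (apply_mem_support.2 ha))]; simp)
    have h5 : (⟨_, hg⟩ : H) ∈ (MulAction.stabilizer (Perm α) (x.support : Set α)).subgroupOf H :=
      hM ▸ mem_top _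
    rw [mem_subgroupOf, MulAction.mem_stabilizer_set] at h5
    exact hc ((h5 c).1 (by simpa using ha))
  obtain ⟨A, hAn, hA'⟩ := h.exists_nilpotent e he (hk ▸ bot_le) hM (hk ▸ bot_le)
  have hxA : (⟨x, hxH⟩ : H) ∈ A := hA' _ (nilpotent_le_stab hx h2)
  have key : ∀ b ∈ x.support, ∃ hc : swap (x a) (x b) * swap a b ∈ H, (⟨_, hc⟩ : H) ∈ A := by
    intro b hb
    have h5 : swap a b * x * (swap a b)⁻¹ ∈ H := by
      have : swap a b * x * (swap a b)⁻¹ * x⁻¹ ∈ H := hA (by
        rw [mem_alternatingGroup, map_mul, map_mul, map_mul, map_inv, map_inv,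
          mul_inv_cancel_comm, mul_inv_cancel])
      simpa using mul_mem this hxH
    have h6 : (swap a b * x * (swap a b)⁻¹).support = x.support := by
      rw [support_conj]
      ext z
      simp only [Finset.mem_map_equiv, symm_swap, swap_apply_def]
      grind
    have h7 : (⟨_, h5⟩ : H) ∈ A := by
      refine hA' _ fun B hB hyB => ?_
      have := nilpotent_le_stab (y := ⟨_, h5⟩) hx.conj (by rwa [h6]) B hB hyB
      rwa [h6] at this
    have h8 : x * (swap a b * x * (swap a b)⁻¹)⁻¹ = swap (x a) (x b) * swap a b := by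
      rw [swap_apply_apply]
      simp [mul_assoc]
    refine ⟨h8 ▸ mul_mem hxH (inv_mem h5), ?_⟩
    convert mul_mem hxA (inv_mem h7) using 1
    exact Subtype.ext h8.symm
  obtain ⟨hc1, hc1'⟩ := key (x a) (apply_mem_support.2 ha)
  obtain ⟨hc2, hc2'⟩ := key (x (x a)) (apply_mem_support.2 (apply_mem_support.2 ha))
  obtain ⟨h5, h6, h7⟩ := four_points h1.symm h2'.symm h3.symm (x.injective.ne h1).symm
    (x.injective.ne h2').symm (x.injective.ne (x.injective.ne h1)).symm
  refine h7 (Commute.map (commute_of_coprime_of_mem_isNilpotent hAn hc1' hc2' ?_) H.subtype)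
  rw [orderOf_mk, orderOf_mk]
  exact Nat.Coprime.coprime_dvd_left (orderOf_dvd_of_pow_eq_one h5)
    (Nat.Coprime.coprime_dvd_right (orderOf_dvd_of_pow_eq_one h6) (by norm_num))

theorem exists_cycle (n m : ℕ) (h2 : 2 ≤ m) (hm : m ≤ n) :
    ∃ x : Perm (Fin n), x.IsCycle ∧ x.support.card = m := by
  obtain ⟨x, hx⟩ := (exists_with_cycleType_iff (Fin n) (m := {m})).2 ⟨by simpa using hm, by simpa⟩
  refine ⟨x, card_cycleType_eq_one.1 (by rw [hx]; rfl), ?_⟩
  rw [← sum_cycleType, hx, Multiset.sum_singleton]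

theorem small_case {α : Type*} [Fintype α] [DecidableEq α] {G : Type*} [Group G]
    {𝓐 : Finset (Subgroup G)} (h : IsNilpMinCover 𝓐) (H : Subgroup (Perm α)) (e : H →* G)
    (he : Function.Surjective e) (hk : e.ker = ⊥) (M : Subgroup H) (hM : M ≠ ⊤) (x y : H)
    (hα : Fintype.card α < 6) (hx : (x : Perm α).IsThreeCycle) (hy : (y : Perm α).IsThreeCycle)
    (hxy : (x * y) ^ 2 = 1) (hc : ¬ Commute x (x * y))
    (h1 : ∀ z : H, z = x ∨ z = y → ∀ g : H,
      (∀ a, (g : Perm α) a ∈ (z : Perm α).support ↔ a ∈ (z : Perm α).support) →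
      g ∈ M ∨ (g ^ 2 = 1 ∧ ¬ Commute z g)) : False := by
  obtain ⟨A, hAn, hA'⟩ := h.exists_nilpotent e he (hk ▸ bot_le) hM (hk ▸ bot_le)
  have key : ∀ (B : Subgroup H), Group.IsNilpotent B → ∀ z ∈ B, (z : Perm α).IsThreeCycle →
      ∀ g ∈ B, g ^ 2 = 1 → Commute z g := by
    intro B hB z hz hz3 g hg hg2
    refine commute_of_coprime_of_mem_isNilpotent hB hz hg ?_
    rw [← orderOf_coe, hz3.orderOf]
    exact Nat.Coprime.coprime_dvd_right (orderOf_dvd_of_pow_eq_one hg2) (by norm_num)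
  have key2 : ∀ z : H, z = x ∨ z = y → (z : Perm α).IsThreeCycle → z ∈ A := by
    intro z hz hz3
    refine hA' z fun B hB hzB g hg => ?_
    have h2 := nilpotent_le_stab hz3.isCycle (by rw [hz3.card_support]; omega) B hB hzB hg
    rw [mem_subgroupOf, MulAction.mem_stabilizer_set] at h2
    exact (h1 z hz g h2).resolve_right fun h => h.2 (key B hB z hzB hz3 g hg h.1)
  have hxA := key2 x (Or.inl rfl) hx
  exact hc (key A hAn x hxA hx _ (mul_mem hxA (key2 y (Or.inr rfl) hy)) hxy)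

theorem dec4 : ∀ g : Perm (Fin 4), ∀ z ∈ [swap 0 1 * swap 1 2, swap 0 1 * swap 1 3],
    (∀ a, g a ∈ z.support ↔ a ∈ z.support) →
    Perm.sign g = 1 ∨ (g ^ 2 = 1 ∧ z * g ≠ g * z) := by decide +kernel

theorem dec5 : ∀ g : Perm (Fin 5), ∀ z ∈ [swap 0 1 * swap 1 2, swap 0 1 * swap 1 3],
    Perm.sign g = 1 → (∀ a, g a ∈ z.support ↔ a ∈ z.support) →
    g 4 = 4 ∨ (g ^ 2 = 1 ∧ z * g ≠ g * z) := by decide +kernel

/-- A cover of a group is a finite set of proper subgroups whose union is the whole group; it is minimal when no cover has fewer members, and nilpotent when all its members are nilpotent. The alternating groups of degree at least 5 and the symmetric groups of degree at least 4 have no nilpotent minimal cover. -/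
theorem result (n : ℕ) :
    (5 ≤ n → ¬ ∃ 𝓐 : Finset (Subgroup ↥(alternatingGroup (Fin n))), ((∀ A ∈ 𝓐, A ≠ ⊤) ∧ (∀ g : ↥(alternatingGroup (Fin n)), ∃ A ∈ 𝓐, g ∈ A)) ∧ (∀ 𝓑 : Finset (Subgroup ↥(alternatingGroup (Fin n))), (∀ A ∈ 𝓑, A ≠ ⊤) ∧ (∀ g : ↥(alternatingGroup (Fin n)), ∃ A ∈ 𝓑, g ∈ A) → 𝓐.card ≤ 𝓑.card) ∧ (∀ A ∈ 𝓐, Group.IsNilpotent ↥A)) ∧
    (4 ≤ n → ¬ ∃ 𝓐 : Finset (Subgroup (Equiv.Perm (Fin n))), ((∀ A ∈ 𝓐, A ≠ ⊤) ∧ (∀ g : (Equiv.Perm (Fin n)), ∃ A ∈ 𝓐, g ∈ A)) ∧ (∀ 𝓑 : Finset (Subgroup (Equiv.Perm (Fin n))), (∀ A ∈ 𝓑, A ≠ ⊤) ∧ (∀ g : (Equiv.Perm (Fin n)), ∃ A ∈ 𝓑, g ∈ A) → 𝓐.card ≤ 𝓑.card) ∧ (∀ A ∈ 𝓐, Group.IsNilpotent ↥A)) := by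
  refine ⟨fun hn ⟨𝓐, h⟩ => ?_, fun hn ⟨𝓐, h⟩ => ?_⟩
  · rcases hn.eq_or_lt with rfl | hn
    · refine small_case h _ (MonoidHom.id _) Function.surjective_id (MonoidHom.ker_id)
        ((MulAction.stabilizer (Perm (Fin 5)) (4 : Fin 5)).subgroupOf _) (fun h => ?_)
        ⟨swap 0 1 * swap 1 2, mem_alternatingGroup.2 (by decide)⟩
        ⟨swap 0 1 * swap 1 3, mem_alternatingGroup.2 (by decide)⟩ (by simp)
        (card_support_eq_three_iff.1 (by decide)) (card_support_eq_three_iff.1 (by decide))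
        (Subtype.ext (by decide))
        (fun h => absurd (congrArg Subtype.val h) (by decide)) fun z hz g hg => ?_
      · have : (⟨swap 0 1 * swap 1 4, mem_alternatingGroup.2 (by decide)⟩ :
            alternatingGroup (Fin 5)) ∈
          (MulAction.stabilizer (Perm (Fin 5)) (4 : Fin 5)).subgroupOf _ := h ▸ mem_top _
        exact absurd (MulAction.mem_stabilizer_iff.1 (mem_subgroupOf.1 this)) (by decide)
      · refine (dec5 g z (by rcases hz with rfl | rfl <;> simp) g.2 hg).imp id fun h => ?_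
        exact ⟨Subtype.ext h.1, fun h' => h.2 (congrArg Subtype.val h')⟩
    · obtain ⟨m, hm1, hm2, hm3⟩ : ∃ m, Odd m ∧ m < n ∧ n ≤ m + 2 := by
        rcases Nat.even_or_odd n with ⟨k, hk⟩ | ⟨k, hk⟩
        · exact ⟨n - 1, ⟨k - 1, by omega⟩, by omega, by omega⟩
        · exact ⟨n - 2, ⟨k - 1, by omega⟩, by omega, by omega⟩
      obtain ⟨x, hx, hxm⟩ := exists_cycle n m (by omega) hm2.le
      refine no_cover h _ (MonoidHom.id _) Function.surjective_id (MonoidHom.ker_id) le_rfl
        (x := x) ?_ hx (by omega) (by simpa [hxm] using hm2) (by simp [hxm]; omega)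
      rw [mem_alternatingGroup, hx.sign, hxm, hm1.neg_one_pow, neg_neg]
  · rcases hn.eq_or_lt with rfl | hn
    · refine small_case h ⊤ (Subgroup.subtype _) (fun x => ⟨⟨x, mem_top x⟩, rfl⟩) (ker_subtype _)
        ((alternatingGroup (Fin 4)).subgroupOf _) (fun h => ?_)
        ⟨swap 0 1 * swap 1 2, mem_top _⟩ ⟨swap 0 1 * swap 1 3, mem_top _⟩ (by simp)
        (card_support_eq_three_iff.1 (by decide)) (card_support_eq_three_iff.1 (by decide))
        (Subtype.ext (by decide))
        (fun h => absurd (congrArg Subtype.val h) (by decide)) fun z hz g hg => ?_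
      · have : (⟨swap 0 1, mem_top _⟩ : (⊤ : Subgroup (Perm (Fin 4)))) ∈
          (alternatingGroup (Fin 4)).subgroupOf _ := h ▸ mem_top _
        exact absurd (mem_alternatingGroup.1 (mem_subgroupOf.1 this)) (by decide)
      · refine (dec4 g z (by rcases hz with rfl | rfl <;> simp) hg).imp id fun h => ?_
        exact ⟨Subtype.ext h.1, fun h' => h.2 (congrArg Subtype.val h')⟩
    · obtain ⟨x, hx, hxm⟩ := exists_cycle n (n - 1) (by omega) (by omega)
      exact no_cover h ⊤ (Subgroup.subtype _) (fun x => ⟨⟨x, mem_top x⟩, rfl⟩) (ker_subtype _)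
        le_top (mem_top x) hx (by omega) (by simp [hxm]; omega) (by simp [hxm]; omega)

end Cfsg.Agent.S3892
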