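import Cfsg.Statements.S3893
import Mathlib
import Cfsg.Agent.Lib.NilpCoverLin

set_option autoImplicit false
open Cfsg

namespace Cfsg.Agent.S3893

open CfsgLib.PGrp
open scoped commutatorElement

open Matrix Subgroup CfsgLib Cfsg.Lie
open scoped MatrixGroups

section
variable {F : Type*} [Field F] [CharP F 2]

def uM (F : Type*) [Field F] : Matrix (Fin 4) (Fin 4) F := !![1,1,1,1; 0,1,1,0; 0,0,1,1; 0,0,0,1]
def uI (F : Type*) [Field F] : Matrix (Fin 4) (Fin 4) F := !![1,1,0,1; 0,1,1,1; 0,0,1,1; 0,0,0,1]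
def wM (F : Type*) [Field F] : Matrix (Fin 4) (Fin 4) F := !![0,0,0,1; 0,0,1,0; 0,1,0,0; 1,0,0,0]

theorem uM_mul : uM F * uI F = 1 := by
  have h : (1 : F) + 1 = 0 := CharTwo.add_self_eq_zero 1
  ext i j; fin_cases i <;> fin_cases j <;> simp [uM, uI, Matrix.mul_apply, Fin.sum_univ_four, h]

def uG (F : Type*) [Field F] [CharP F 2] : GL (Fin 4) F :=
  ⟨uM F, uI F, uM_mul, mul_eq_one_comm.1 uM_mul⟩

omit [CharP F 2] in
theorem wM_mul : wM F * wM F = 1 := by
  ext i j; fin_cases i <;> fin_cases j <;> simp [wM, Matrix.mul_apply, Fin.sum_univ_four]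

def wG (F : Type*) [Field F] : GL (Fin 4) F := ⟨wM F, wM F, wM_mul, wM_mul⟩

theorem uG_pow : uG F ^ 4 = 1 := by
  have h : (1 : F) + 1 = 0 := CharTwo.add_self_eq_zero 1
  have h1 : uM F * uM F * uM F = uI F := by
    ext i j; fin_cases i <;> fin_cases j <;> simp [uM, uI, Matrix.mul_apply, Fin.sum_univ_four, h]
  ext1
  change (uM F) ^ 4 = 1
  rw [pow_succ', pow_three', h1, uM_mul]

theorem uG_mem {e : ℕ} (he : e ≠ 0) : uG F ∈ Sz F e := by
  have h : (1 : F) + 1 = 0 := CharTwo.add_self_eq_zero 1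
  have h2 : (2 : F) = 0 := CharTwo.two_eq_zero
  refine subset_closure ⟨fun u v => ?_, ?_⟩
  · simp only [altForm4, Units.coeHom_apply, uG, uM, mulVec, dotProduct, Fin.sum_univ_four]
    simp
    linear_combination (u 1 * v 3 + u 2 * v 3 + u 3 * v 3 + u 2 * v 2 + u 3 * v 1 + u 3 * v 2) * h2
  · ext i j
    fin_cases i <;> fin_cases j <;> simp [star4, pairOf, uG, uM, he, CharTwo.neg_eq]

omit [CharP F 2] in
theorem wG_mem [CharP F 2] {e : ℕ} (he : e ≠ 0) : wG F ∈ Sz F e := by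
  refine subset_closure ⟨fun u v => ?_, ?_⟩
  · simp only [altForm4, Units.coeHom_apply, wG, wM, mulVec, dotProduct, Fin.sum_univ_four]
    simp
    ring
  · ext i j
    fin_cases i <;> fin_cases j <;> simp [star4, pairOf, wG, wM, he, CharTwo.neg_eq]

theorem uG_unique (w : Fin 4 → F) (c : F) (hw : w ≠ 0) (h : uM F *ᵥ w = c • w) :
    ∃ d : F, w = d • Pi.single 0 (1 : F) := by
  have h0 := congrFun h 0
  have h1 := congrFun h 1
  have h2 := congrFun h 2
  have h3 := congrFun h 3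
  simp [uM, mulVec, dotProduct, Fin.sum_univ_four] at h0 h1 h2 h3
  have key : w 1 = 0 ∧ w 2 = 0 ∧ w 3 = 0 := by
    by_cases hc : c = 1
    · subst hc
      have h3' : w 3 = 0 := by linear_combination h2
      have h2' : w 2 = 0 := by linear_combination h1
      exact ⟨by linear_combination h0 - h3' - h2', h2', h3'⟩
    · have hc' : c - 1 ≠ 0 := sub_ne_zero.2 hc
      have h3' : w 3 = 0 := (mul_eq_zero.1 (by linear_combination -h3 : (c - 1) * w 3 = 0)).resolve_left hc'
      have h2' : w 2 = 0 :=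
        (mul_eq_zero.1 (by linear_combination h3' - h2 : (c - 1) * w 2 = 0)).resolve_left hc'
      exact ⟨(mul_eq_zero.1 (by linear_combination h2' - h1 : (c - 1) * w 1 = 0)).resolve_left hc',
        h2', h3'⟩
  refine ⟨w 0, eq_smul_single_of_eq_zero fun j hj => ?_⟩
  fin_cases j
  · exact absurd rfl hj
  · exact key.1
  · exact key.2.1
  · exact key.2.2

end

/-- A cover of a group is a finite set of proper subgroups whose union is the whole group; it is minimal when no cover has fewer members, and nilpotent when all its members are nilpotent. The Suzuki groups Sz(q), q = 2^(2m+1) with m ≥ 1, have no nilpotent minimal cover. -/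
theorem result {F : Type*} [Field F] [Fintype F] (m : ℕ) (hm : 1 ≤ m) (hF : Fintype.card F = 2 ^ (2 * m + 1)) :
    ¬ ∃ 𝓐 : Finset (Subgroup ↥(Cfsg.Lie.Sz F (2 ^ (m + 1)))), ((∀ A ∈ 𝓐, A ≠ ⊤) ∧ (∀ g : ↥(Cfsg.Lie.Sz F (2 ^ (m + 1))), ∃ A ∈ 𝓐, g ∈ A)) ∧ (∀ 𝓑 : Finset (Subgroup ↥(Cfsg.Lie.Sz F (2 ^ (m + 1)))), (∀ A ∈ 𝓑, A ≠ ⊤) ∧ (∀ g : ↥(Cfsg.Lie.Sz F (2 ^ (m + 1))), ∃ A ∈ 𝓑, g ∈ A) → 𝓐.card ≤ 𝓑.card) ∧ (∀ A ∈ 𝓐, Group.IsNilpotent ↥A) := by
  rintro ⟨𝓐, h⟩
  classical
  have : CharP F 2 := by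
    have := ringChar.charP F
    obtain ⟨n, hp, hn⟩ := FiniteField.card F (ringChar F)
    have h2 : ringChar F = 2 := by
      refine ((Nat.prime_dvd_prime_iff_eq hp Nat.prime_two).1 (hp.dvd_of_dvd_pow (n := 2 * m + 1) ?_))
      rw [← hF, hn]
      exact dvd_pow_self _ n.ne_zero
    rwa [h2] at this
  set e := 2 ^ (m + 1) with he
  have he0 : e ≠ 0 := pow_ne_zero _ two_ne_zero
  obtain ⟨r, hr, hrd⟩ := Nat.exists_prime_and_dvd (n := 2 ^ (2 * m + 1) - 1) (by
    have : 2 ^ 3 ≤ 2 ^ (2 * m + 1) := Nat.pow_le_pow_right two_pos (by omega)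
    omega)
  have hr5 : 4 < r := by
    have h1 : 2 ^ (2 * m + 1) % 6 = 2 := by
      clear * -
      induction m with
      | zero => rfl
      | succ m ih => rw [show 2 * (m + 1) + 1 = 2 * m + 1 + 2 by ring, pow_add]; omega
    have h2 := hr.two_le
    by_contra h3
    have h4 : r ≠ 4 := by rintro rfl; exact absurd hr (by decide)
    have : r = 2 ∨ r = 3 := by omega
    rcases this with rfl | rfl <;> omega
  have : Fact r.Prime := ⟨hr⟩
  obtain ⟨a, ha⟩ := exists_prime_orderOf_dvd_card' (G := Fˣ) r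
    (by rwa [Nat.card_units, Nat.card_eq_fintype_card, hF])
  have ha1 : a ≠ 1 := by rintro rfl; exact hr.ne_one (by rw [← ha, orderOf_one])
  have hsq : ∀ b : Fˣ, b * b = 1 → b = 1 := fun b hb => by
    ext
    have h1 : (b : F) ^ 2 = 1 ^ 2 := by rw [sq, ← Units.val_mul, hb]; simp
    exact frobenius_inj F 2 h1
  have hee : (a ^ e) ^ e = a * a := by
    ext
    have h1 : e * e = 2 ^ (2 * m + 1) * 2 := by rw [he, ← pow_add, ← pow_succ]; congr 1; ring
    rw [← pow_mul, h1, pow_mul, ← hF]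
    simp [FiniteField.pow_card, sq]
  set b := a ^ e with hb
  have hb1 : b ≠ 1 := fun h => ha1 (hsq a (by rw [← hee, h, one_pow]))
  have hba : b ≠ a := fun h => ha1 (by rw [h, ← hb, h] at hee; exact left_eq_mul.1 hee)
  have hbaa : b ≠ a * a := fun h => ha1 (hsq a (by
    rw [h, mul_pow, ← hb, h] at hee; exact mul_eq_left.1 hee))
  let d : Fin 4 → Fˣ := ![a, b * a⁻¹, a * b⁻¹, a⁻¹]
  have hd : Function.Injective fun i => (d i : F) := by
    intro i j hij
    have hij' : d i = d j := Units.ext hij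
    have h01 : a ≠ b * a⁻¹ := fun h => hbaa (eq_mul_inv_iff_mul_eq.1 h).symm
    have h02 : a ≠ a * b⁻¹ := fun h => hb1 (inv_eq_one.1 (left_eq_mul.1 h))
    have h03 : a ≠ a⁻¹ := fun h => ha1 (hsq a (eq_inv_iff_mul_eq_one.1 h))
    have h12 : b * a⁻¹ ≠ a * b⁻¹ := fun h => hba (mul_inv_eq_one.1 (hsq _ (by
      nth_rewrite 2 [h]; group)))
    have h13 : b * a⁻¹ ≠ a⁻¹ := fun h => hb1 (mul_eq_right.1 h)
    have h23 : a * b⁻¹ ≠ a⁻¹ := fun h => hbaa (by
      rw [mul_inv_eq_iff_eq_mul, eq_inv_mul_iff_mul_eq] at h; exact h.symm)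
    fin_cases i <;> fin_cases j <;> first
      | rfl
      | exact absurd hij' (by assumption)
      | exact absurd hij'.symm (by assumption)
  let t : GL (Fin 4) F := ⟨diagonal fun i => (d i : F), diagonal fun i => ((d i)⁻¹ : Fˣ),
    by rw [diagonal_mul_diagonal]; simp, by rw [diagonal_mul_diagonal]; simp⟩
  have ha0 : (a : F) ≠ 0 := a.ne_zero
  have hb0 : (b : F) ≠ 0 := b.ne_zero
  have hbF : (a : F) ^ e = b := by rw [hb]; simp
  have heeF : (b : F) ^ e = a * a := by exact_mod_cast congrArg Units.val hee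
  have ht : t ∈ Sz F e := by
    refine subset_closure ⟨fun u v => ?_, ?_⟩
    · simp only [altForm4, Units.coeHom_apply, t, mulVec_diagonal, d]
      simp
      field_simp
    · ext i j
      fin_cases i <;> fin_cases j <;>
        simp [star4, pairOf, t, d, he0, mul_pow, hbF, heeF] <;> field_simp
  have htr : orderOf (⟨t, ht⟩ : Sz F e) = r ^ 1 := by
    rw [pow_one, orderOf_mk]
    refine orderOf_eq_prime ?_ fun h => ?_
    · ext1
      have h1 : a ^ r = 1 := by rw [← ha, pow_orderOf_eq_one]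
      have h2 : b ^ r = 1 := by rw [hb, ← pow_mul, mul_comm, pow_mul, h1, one_pow]
      have h3 : ∀ i, d i ^ r = 1 := by
        intro i; fin_cases i <;> simp [d, mul_pow, h1, h2]
      simp only [Units.val_pow_eq_pow_val, t, diagonal_pow, Units.val_one]
      rw [← diagonal_one]
      congr 1
      ext i
      simpa using congrArg Units.val (h3 i)
    · have := congrArg (fun g : GL (Fin 4) F => (g : Matrix (Fin 4) (Fin 4) F) 0 0) h
      exact ha1 (by simpa [t, d] using this)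
  have hv : (Pi.single 0 (1 : F) : Fin 4 → F) ≠ 0 := by simp
  obtain ⟨A, hA, hA'⟩ := IsNilpMinCover.exists_nilpotent h (MonoidHom.id _) Function.surjective_id
    (by simp) (M := (lineStab (Pi.single 0 (1 : F))).subgroupOf (Sz F e)) (fun h => by
      have h1 : (⟨wG F, wG_mem he0⟩ : Sz F e) ∈
        (lineStab (Pi.single 0 (1 : F))).subgroupOf (Sz F e) := h ▸ mem_top _
      obtain ⟨c, hc⟩ := (mem_lineStab hv).1 h1
      simpa [wG, wM] using congrFun hc 3) (by simp)
  have h1 := hA' ⟨t, ht⟩ (nilpotent_le_lineStab_of_diagonal hd rfl hr htr (by simpa using hr5) 0)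
  have h2 := hA' ⟨uG F, uG_mem he0⟩ (nilpotent_le_lineStab_of_unique hv
    ((mem_lineStab hv).2 ⟨1, by
      ext i; fin_cases i <;> simp [uG, uM]⟩) uG_unique)
  have h3 := commute_of_coprime_of_mem_isNilpotent hA h2 h1 (by
    rw [htr, orderOf_mk, pow_one]
    refine Nat.Coprime.coprime_dvd_left (orderOf_dvd_of_pow_eq_one uG_pow) ?_
    exact Nat.Coprime.pow_left 2 ((Nat.coprime_primes Nat.prime_two hr).2 (by omega)))
  obtain ⟨c, hc⟩ := (mem_lineStab (by simp)).1
    (mem_lineStab_of_commute_diagonal hd (t := t) rfl (h3.map (Sz F e).subtype) 1)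
  simpa [uG, uM] using congrFun hc 0

end Cfsg.Agent.S3893
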