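import Cfsg.Statements.S3894
import Mathlib
import Cfsg.Agent.Lib.NilpCoverLin

set_option autoImplicit false
open Cfsg

namespace Cfsg.Agent.S3894

open CfsgLib.PGrp
open scoped commutatorElement

open Matrix Subgroup CfsgLib
open scoped MatrixGroups

section
variable {ι F : Type*} [Fintype ι] [DecidableEq ι] [Field F]

def invT : GL ι F →* GL ι F where
  toFun g := ⟨((g⁻¹ : GL ι F) : Matrix ι ι F)ᵀ, (g : Matrix ι ι F)ᵀ,
    by rw [← transpose_mul, Units.mul_inv, transpose_one],
    by rw [← transpose_mul, Units.inv_mul, transpose_one]⟩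
  map_one' := by ext1; simp
  map_mul' g h := by ext1; simp

theorem invT_inv (g : GL ι F) : ((invT g⁻¹ : GL ι F) : Matrix ι ι F) = (g : Matrix ι ι F)ᵀ := rfl

theorem det_eq_zero_of_eigen {M : Matrix ι ι F} {w : ι → F} {c : F} (hw : w ≠ 0)
    (h : M *ᵥ w = c • w) : (M - c • (1 : Matrix ι ι F)).det = 0 :=
  exists_mulVec_eq_zero_iff.1 ⟨w, hw, by rw [sub_mulVec, h, smul_mulVec, one_mulVec, sub_self]⟩

def shift (n : ℕ) (F : Type*) [Field F] : Matrix (Fin n) (Fin n) F :=
  Matrix.of fun i j => if (j : ℕ) = i + 1 then 1 else 0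

theorem det_shift (n : ℕ) (c : F) : (1 + shift n F - c • (1 : Matrix (Fin n) (Fin n) F)).det =
    (1 - c) ^ n := by
  rw [det_of_isUpperTriangular]
  · simp [shift]
  · intro i j hij
    have h1 : i ≠ j := ne_of_gt hij
    have h2 : (j : ℕ) < i := hij
    have h3 : (j : ℕ) ≠ i + 1 := by omega
    simp [shift, h1, h3]

theorem shift_unique {n : ℕ} (w : Fin (n + 1) → F) (c : F) (hw : w ≠ 0)
    (h : (1 + shift (n + 1) F) *ᵥ w = c • w) : ∃ d : F, w = d • Pi.single 0 (1 : F) := by
  have h1 := det_eq_zero_of_eigen hw h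
  rw [det_shift, pow_eq_zero_iff (Nat.succ_ne_zero n), sub_eq_zero] at h1
  rw [← h1, one_smul, add_mulVec, one_mulVec, add_eq_left] at h
  refine ⟨w 0, eq_smul_single_of_eq_zero fun j hj => ?_⟩
  obtain ⟨k, rfl⟩ := Fin.exists_succ_eq.2 hj
  have := congrFun h k.castSucc
  simp only [shift, mulVec, dotProduct, of_apply, Pi.zero_apply] at this
  rwa [Finset.sum_eq_single k.succ (fun j _ hj => by
    rw [if_neg (fun h => hj (Fin.ext (by simpa using h))), zero_mul]) (by simp), if_pos (by simp),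
    one_mul] at this

theorem shift_unique' {n : ℕ} (w : Fin (n + 1) → F) (c : F) (hw : w ≠ 0)
    (h : (1 + shift (n + 1) F)ᵀ *ᵥ w = c • w) :
    ∃ d : F, w = d • Pi.single (Fin.last n) (1 : F) := by
  have h1 := det_eq_zero_of_eigen hw h
  rw [← det_transpose, transpose_sub, transpose_transpose, transpose_smul, transpose_one,
    det_shift, pow_eq_zero_iff (Nat.succ_ne_zero n), sub_eq_zero] at h1
  rw [← h1, one_smul, transpose_add, transpose_one, add_mulVec, one_mulVec, add_eq_left] at h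
  refine ⟨w (Fin.last n), eq_smul_single_of_eq_zero fun j hj => ?_⟩
  obtain ⟨k, rfl⟩ := Fin.exists_castSucc_eq.2 hj
  have := congrFun h k.succ
  simp only [shift, mulVec, dotProduct, transpose_apply, of_apply, Pi.zero_apply] at this
  rwa [Finset.sum_eq_single k.castSucc (fun j _ hj => by
    rw [if_neg (fun h => hj (Fin.ext (by simpa using h.symm))), zero_mul]) (by simp),
    if_pos (by simp), one_mul] at this

theorem case_three {G : Type*} [Group G] {𝓐 : Finset (Subgroup G)} (h : IsNilpMinCover 𝓐) {n : ℕ}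
    {H : Subgroup (GL (Fin (n + 3)) F)} (f : H →* G) (hf : Function.Surjective f)
    (hk : f.ker ≤ (center _).subgroupOf H)
    (hSL : ∀ g : GL (Fin (n + 3)) F, (g : Matrix (Fin (n + 3)) (Fin (n + 3)) F).det = 1 → g ∈ H) :
    False := by
  have hZ : f.ker ≤ center H := fun x hx =>
    mem_center_iff.2 fun y => Subtype.ext (mem_center_iff.1 (hk hx) y)
  have hv : ∀ i, (Pi.single i (1 : F) : Fin (n + 3) → F) ≠ 0 := by simp
  have hdu : (1 + shift (n + 3) F).det = 1 := by simpa using det_shift (F := F) (n + 3) 0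
  let u : H := ⟨GeneralLinearGroup.mkOfDetNeZero (1 + shift (n + 3) F) (by simp [hdu]),
    hSL _ hdu⟩
  have h1l : (1 : Fin (n + 3)) ≠ Fin.last (n + 2) := by simp [Fin.ext_iff]
  have h0l : (0 : Fin (n + 3)) ≠ Fin.last (n + 2) := by simp [Fin.ext_iff]
  let T : ∀ i j : Fin (n + 3), i ≠ j → H := fun i j hij =>
    ⟨GeneralLinearGroup.mkOfDetNeZero (transvection i j 1) (by simp [det_transvection_of_ne, hij]),
      hSL _ (det_transvection_of_ne i j hij 1)⟩
  let g := T _ _ h1l.symm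
  set M := (lineStab (Pi.single 0 (1 : F))).subgroupOf H with hM
  have huM : u ∈ M := (mem_lineStab (hv _)).2 ⟨1, by
    ext i; simp [u, shift, Pi.single_apply, one_apply]⟩
  have hgM : g ∈ M := (mem_lineStab (hv _)).2 ⟨1, by
    ext i; simp [g, T, transvection, Pi.single_apply, one_apply]⟩
  have hu : ∀ k : H, k⁻¹ * u * k ∈ M → k ∈ M := fun k hk =>
    unique_conj_lineStab (hv _) shift_unique _ hk
  obtain ⟨A, hA, hA'⟩ := h.exists_nilpotent f hf hZ (M := M) (fun h => by
      have h1 : T _ _ h0l.symm ∈ M := h ▸ mem_top _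
      obtain ⟨c, hc⟩ := (mem_lineStab (hv _)).1 h1
      simpa [T, transvection, h0l.symm] using congrFun hc (Fin.last (n + 2)))
    (hk.trans (comap_mono (center_le_lineStab (hv _))))
  have h1 := hA' u fun B => nilpotent_le_of_unique_conj huM hu
  have h2 := hA' (g * u * g⁻¹) fun B => nilpotent_le_of_unique_conj
    (mul_mem (mul_mem hgM huM) (inv_mem hgM)) fun k hk => by
      have := hu (g⁻¹ * k) (by convert hk using 1; group)
      simpa using mul_mem hgM this
  set M' := ((lineStab (Pi.single (Fin.last (n + 2)) (1 : F))).comap invT).subgroupOf H with hM'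
  have hu' : ∀ k : H, k⁻¹ * u⁻¹ * k ∈ M' → k ∈ M' := fun k hk => by
    refine unique_conj_lineStab (x := invT (u : GL (Fin (n + 3)) F)⁻¹) (hv _) shift_unique' _ ?_
    simpa [hM', mem_subgroupOf] using hk
  have h3 : A ≤ M' := nilpotent_le_of_unique_conj (u := u⁻¹) ((mem_lineStab (hv _)).2 ⟨1, by
    change (1 + shift (n + 3) F)ᵀ *ᵥ _ = _
    ext i
    have : (i : ℕ) ≠ n + 2 + 1 := by omega
    simp [shift, Pi.single_apply, one_apply, this]⟩) hu' hA (inv_mem h1)
  have h4 := hu' g⁻¹ (by simpa [mul_assoc] using inv_mem (h3 h2))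
  obtain ⟨c, hc⟩ := (mem_lineStab (hv _)).1 h4
  have h5 : (transvection (Fin.last (n + 2)) 1 (1 : F))ᵀ *ᵥ _ = _ := hc
  simpa [transvection, h1l, h1l.symm] using congrFun h5 1

theorem eigen_of_commute {a s : Matrix (Fin 2) (Fin 2) F} (h : a * s = s * a) {v : Fin 2 → F}
    (hv : v ≠ 0) {μ : F} (hs : s *ᵥ v = μ • v) (hns : s ≠ μ • (1 : Matrix (Fin 2) (Fin 2) F)) :
    ∃ c : F, a *ᵥ v = c • v := by
  have h1 : s *ᵥ (a *ᵥ v) = μ • (a *ᵥ v) := by
    rw [mulVec_mulVec, ← h, ← mulVec_mulVec, hs, mulVec_smul]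
  generalize a *ᵥ v = w at h1
  have h2 := congrFun hs 0
  have h3 := congrFun hs 1
  have h4 := congrFun h1 0
  have h5 := congrFun h1 1
  simp only [mulVec, dotProduct, Fin.sum_univ_two, Pi.smul_apply, smul_eq_mul] at h2 h3 h4 h5
  have hdet : v 0 * w 1 - v 1 * w 0 = 0 := by
    by_contra hd
    apply hns
    have e1 : s 0 0 = μ := mul_left_cancel₀ hd (by linear_combination w 1 * h2 - v 1 * h4)
    have e2 : s 0 1 = 0 := mul_left_cancel₀ hd (by linear_combination v 0 * h4 - w 0 * h2)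
    have e3 : s 1 0 = 0 := mul_left_cancel₀ hd (by linear_combination w 1 * h3 - v 1 * h5)
    have e4 : s 1 1 = μ := mul_left_cancel₀ hd (by linear_combination v 0 * h5 - w 0 * h3)
    ext i j
    fin_cases i <;> fin_cases j <;> simp [e1, e2, e3, e4]
  by_cases h0 : v 0 = 0
  · have h1 : v 1 ≠ 0 := fun h1 => hv (by ext i; fin_cases i <;> simp [h0, h1])
    refine ⟨w 1 / v 1, ?_⟩
    ext i; fin_cases i
    · simpa [h0, h1] using hdet
    · simp [h1]
  · refine ⟨w 0 / v 0, ?_⟩
    ext i; fin_cases i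
    · simp [h0]
    · simp; field_simp; linear_combination hdet

theorem u_unique (w : Fin 2 → F) (c : F) (hw : w ≠ 0) (h : !![(1 : F), 1; 0, 1] *ᵥ w = c • w) :
    ∃ d : F, w = d • Pi.single 0 (1 : F) :=
  shift_unique (n := 1) w c hw (by
    rw [← h]; congr 1; ext i j; fin_cases i <;> fin_cases j <;> simp [shift])

theorem u_pow (k : ℕ) : !![(1 : F), 1; 0, 1] ^ k = !![(1 : F), k; 0, 1] := by
  induction k with
  | zero => ext i j; fin_cases i <;> fin_cases j <;> simp
  | succ k ih => rw [pow_succ, ih]; ext i j; fin_cases i <;> fin_cases j <;> simp [add_comm]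

theorem u_pow' (k : ℕ) : !![(1 : F), 0; 1, 1] ^ k = !![(1 : F), 0; k, 1] := by
  induction k with
  | zero => ext i j; fin_cases i <;> fin_cases j <;> simp
  | succ k ih => rw [pow_succ, ih]; ext i j; fin_cases i <;> fin_cases j <;> simp

theorem exists_eigen_of_sq {s : Matrix (Fin 2) (Fin 2) F} {c : F} (hs : s * s = c • 1)
    (hns : ∀ μ : F, s ≠ μ • 1) (hd : IsSquare (-s.det)) :
    ∃ (v : Fin 2 → F) (μ : F), v ≠ 0 ∧ s *ᵥ v = μ • v := by
  obtain ⟨μ, hμ⟩ := hd
  have h00 := congrFun (congrFun hs 0) 0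
  have h01 := congrFun (congrFun hs 0) 1
  have h10 := congrFun (congrFun hs 1) 0
  have h11 := congrFun (congrFun hs 1) 1
  simp [Matrix.mul_apply] at h00 h01 h10 h11
  have htr : s 0 0 + s 1 1 = 0 := by
    by_contra h
    have e1 : s 0 1 = 0 := mul_left_cancel₀ h (by linear_combination h01)
    have e2 : s 1 0 = 0 := mul_left_cancel₀ h (by linear_combination h10)
    have e3 : s 1 1 = s 0 0 := mul_left_cancel₀ h (by linear_combination h11 - h00)
    refine hns (s 0 0) ?_
    ext i j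
    fin_cases i <;> fin_cases j <;> simp [e1, e2, e3]
  obtain ⟨v, hv, h⟩ := (exists_mulVec_eq_zero_iff (M := s - μ • 1)).2 (by
    rw [det_fin_two] at hμ ⊢
    simp
    linear_combination -hμ - μ * htr)
  exact ⟨v, μ, hv, by rwa [sub_mulVec, smul_mulVec, one_mulVec, sub_eq_zero] at h⟩

theorem case_two [Fintype F] (hq : 4 ≤ Fintype.card F) {G : Type*} [Group G]
    {𝓐 : Finset (Subgroup G)} (h : IsNilpMinCover 𝓐) {H : Subgroup (GL (Fin 2) F)} (f : H →* G)
    (hf : Function.Surjective f) (hk : f.ker ≤ (center _).subgroupOf H)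
    (hSL : ∀ g : GL (Fin 2) F, (g : Matrix (Fin 2) (Fin 2) F).det = 1 → g ∈ H) : False := by
  classical
  have hZ : f.ker ≤ center H := fun x hx =>
    mem_center_iff.2 fun y => Subtype.ext (mem_center_iff.1 (hk hx) y)
  have hv : ∀ i, (Pi.single i (1 : F) : Fin 2 → F) ≠ 0 := by simp
  let S : ∀ m : Matrix (Fin 2) (Fin 2) F, m.det = 1 → H := fun m hm =>
    ⟨GeneralLinearGroup.mkOfDetNeZero m (by simp [hm]), hSL _ hm⟩
  have hS : ∀ m hm, ((S m hm : GL (Fin 2) F) : Matrix (Fin 2) (Fin 2) F) = m := fun _ _ => rfl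
  let u : H := S !![1, 1; 0, 1] (by simp [det_fin_two])
  let u' : H := S !![1, 0; 1, 1] (by simp [det_fin_two])
  set M := (lineStab (Pi.single 0 (1 : F))).subgroupOf H with hM
  have huM : u ∈ M := (mem_lineStab (hv _)).2 ⟨1, by ext i; fin_cases i <;> simp [u, hS]⟩
  have hu'M : u' ∉ M := fun h => by
    obtain ⟨c, hc⟩ := (mem_lineStab (hv _)).1 h
    simpa [u', hS] using congrFun hc 1
  have hMt : M ≠ ⊤ := fun h => hu'M (h ▸ mem_top _)
  have hkM : f.ker ≤ M := hk.trans (comap_mono (center_le_lineStab (hv _)))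
  have hu : ∀ k : H, k⁻¹ * u * k ∈ M → k ∈ M := fun k hk =>
    unique_conj_lineStab (hv _) u_unique _ hk
  have := ringChar.charP F
  obtain ⟨n, hp, hn⟩ := FiniteField.card F (ringChar F)
  set p := ringChar F
  have hup : u ^ p = 1 := Subtype.ext (Units.ext (by
    simp only [SubgroupClass.coe_pow, Units.val_pow_eq_pow_val, u, hS, u_pow]
    ext i j; fin_cases i <;> fin_cases j <;> simp))
  have hu'p : u' ^ p = 1 := Subtype.ext (Units.ext (by
    simp only [SubgroupClass.coe_pow, Units.val_pow_eq_pow_val, u', hS, u_pow']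
    ext i j; fin_cases i <;> fin_cases j <;> simp))
  have hdiag : ∀ a : Fˣ, a * a ≠ 1 → ∃ t : H, orderOf t ∣ orderOf a ∧ t ≠ 1 ∧
      (Function.Injective ![(a : F), (a : F)⁻¹]) ∧
      ((t : GL (Fin 2) F) : Matrix (Fin 2) (Fin 2) F) = diagonal ![(a : F), (a : F)⁻¹] := by
    intro a ha
    have h1 : (a : F) ≠ (a : F)⁻¹ := fun h => ha (Units.ext (by
      rw [Units.val_mul]; nth_rewrite 2 [h]; simp))
    refine ⟨S (diagonal ![(a : F), (a : F)⁻¹]) (by simp), orderOf_dvd_of_pow_eq_one ?_,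
      fun h => ?_, fun i j hij => ?_, rfl⟩
    · refine Subtype.ext (Units.ext ?_)
      have h2 : (a : F) ^ orderOf a = 1 := by
        rw [← Units.val_pow_eq_pow_val, pow_orderOf_eq_one, Units.val_one]
      simp only [SubgroupClass.coe_pow, Units.val_pow_eq_pow_val, hS, diagonal_pow]
      ext i j; fin_cases i <;> fin_cases j <;> simp [h2]
    · have h2 := congrArg (fun g : H => ((g : GL (Fin 2) F) : Matrix (Fin 2) (Fin 2) F) 0 0) h
      have h3 : a = 1 := by simpa [hS] using h2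
      exact ha (by simp [h3])
    · fin_cases i <;> fin_cases j <;> simp_all
  have hcu : ∀ {d : Fin 2 → F}, Function.Injective d → ∀ t g : H,
      ((t : GL (Fin 2) F) : Matrix (Fin 2) (Fin 2) F) = diagonal d → ¬ Commute (g * u * g⁻¹) t := by
    intro d hd t g ht hc
    have key : ∀ i, ∃ c : F, ((g⁻¹ : H) : GL (Fin 2) F).val *ᵥ Pi.single i 1 = c • Pi.single 0 1 := by
      intro i
      have h1 := mem_lineStab_of_commute_diagonal hd ht (hc.map H.subtype) i
      have h2 : ((g⁻¹ : H) : GL (Fin 2) F)⁻¹ * u * ((g⁻¹ : H) : GL (Fin 2) F) ∈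
        lineStab (Pi.single i (1 : F)) := by simpa using h1
      obtain ⟨c, hc⟩ := (conj_mem_lineStab (hv i)).1 h2
      exact u_unique _ c (gl_mulVec_ne_zero _ (hv i)) hc
    obtain ⟨c, h1⟩ := key 0
    obtain ⟨c', h2⟩ := key 1
    have h3 := congrFun h1 1
    have h4 := congrFun h2 1
    have h5 := ((g⁻¹ : H) : GL (Fin 2) F).det_ne_zero
    simp only [mulVec_single_one, col_apply, Pi.smul_apply, ne_eq, one_ne_zero, not_false_eq_true,
      Pi.single_eq_of_ne, smul_eq_mul, mul_zero] at h3 h4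
    exact h5 (by rw [det_fin_two, h3, h4]; simp)
  have hpq : ∀ m, m ∣ Fintype.card F - 1 → p.Coprime m := by
    intro m hm
    refine Nat.Coprime.coprime_dvd_right hm ?_
    refine (Nat.coprime_pow_left_iff n.pos _ _).1 ?_
    rw [← hn]
    exact (Nat.coprime_self_sub_right (by omega)).2 (by simp)
  have hcardu : Nat.card Fˣ = Fintype.card F - 1 := by rw [Nat.card_units, Nat.card_eq_fintype_card]
  by_cases hr : ∃ r : ℕ, r.Prime ∧ r ≠ 2 ∧ r ∣ Fintype.card F - 1
  · obtain ⟨r, hr, hr2, hrd⟩ := hr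
    have : Fact r.Prime := ⟨hr⟩
    obtain ⟨a, ha⟩ := exists_prime_orderOf_dvd_card' (G := Fˣ) r (by rwa [hcardu])
    obtain ⟨t, ht1, ht2, hd, ht⟩ := hdiag a fun h => hr2 ((Nat.prime_dvd_prime_iff_eq hr
      Nat.prime_two).1 (ha ▸ orderOf_dvd_of_pow_eq_one (by rw [sq, h])))
    have hto : orderOf t = r ^ 1 := by
      rw [pow_one]
      exact ((Nat.dvd_prime hr).1 (ha ▸ ht1)).resolve_left fun h => ht2 (orderOf_eq_one_iff.1 h)
    obtain ⟨A, hA, hA'⟩ := h.exists_nilpotent f hf hZ hMt hkM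
    have h1 := hA' u fun B => nilpotent_le_of_unique_conj huM hu
    have h2 := hA' t (nilpotent_le_lineStab_of_diagonal hd ht hr hto (by
      have := hr.two_le; simp; omega) 0)
    refine hcu hd t 1 ht (by
      simpa using commute_of_coprime_of_mem_isNilpotent hA h1 h2 (Nat.Coprime.coprime_dvd_left
        (orderOf_dvd_of_pow_eq_one hup) (hpq _ (by rwa [hto, pow_one]))))
  push Not at hr
  obtain ⟨k, hk2⟩ : ∃ k, Fintype.card F - 1 = 2 ^ k :=
    ⟨_, Nat.eq_prime_pow_of_unique_prime_dvd (by omega) fun hd1 hd2 => by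
      by_contra h; exact hr _ hd1 h hd2⟩
  have hk4 : 4 ∣ Fintype.card F - 1 := by
    rw [hk2]
    rcases k with _ | _ | k
    · omega
    · omega
    · exact ⟨2 ^ k, by ring⟩
  have hp2 : p ≠ 2 := fun h => absurd (h ▸ hpq 4 hk4) (by decide)
  have hpodd : Odd p := hp.odd_of_ne_two hp2
  by_cases hsq : ∀ a : H, IsSquare ((a : GL (Fin 2) F) : Matrix (Fin 2) (Fin 2) F).det
  · obtain ⟨i, hi⟩ : IsSquare (-1 : F) := FiniteField.isSquare_neg_one_iff.2 (by omega)
    have hi0 : i ≠ 0 := by rintro rfl; simp at hi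
    have h2 : (2 : F) ≠ 0 := Ring.two_ne_zero hp2
    obtain ⟨t, ht1, -, hd, ht⟩ := hdiag (Units.mk0 i hi0) fun h => h2 (by
      have := congrArg Units.val h
      simp at this
      linear_combination -hi - this)
    have ht4 : orderOf t ∣ 2 ^ 2 := ht1.trans (orderOf_dvd_of_pow_eq_one (Units.ext (by
      simp; linear_combination (1 - i * i) * hi)))
    have hto : ∀ A : Subgroup H, Group.IsNilpotent A → t ∈ A → ∀ a ∈ A, Odd (orderOf a) →
        Commute a t := fun A hA htA a ha ho => commute_of_coprime_of_mem_isNilpotent hA ha htA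
      (Nat.Coprime.coprime_dvd_right ht4 ((Nat.coprime_two_right.2 ho).pow_right 2))
    refine h.false_of_unique_conj f hf hZ hMt hkM huM hu t fun A hA htA => ⟨fun a ha => ?_,
      fun g hg => hcu hd t g ht (hto A hA htA _ hg ?_)⟩
    · suffices ∃ (v : Fin 2 → F) (c : F), v ≠ 0 ∧ (a : GL (Fin 2) F).val *ᵥ v = c • v by
        obtain ⟨v, c, hv0, hc⟩ := this
        obtain ⟨m, hm, hmv⟩ : ∃ m : Matrix (Fin 2) (Fin 2) F, m.det = 1 ∧ m *ᵥ Pi.single 0 1 = v := by
          by_cases h0 : v 0 = 0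
          · have h1 : v 1 ≠ 0 := fun h1 => hv0 (by ext i; fin_cases i <;> simp [h0, h1])
            exact ⟨!![0, -(v 1)⁻¹; v 1, 0], by simp [det_fin_two, h1],
              by ext i; fin_cases i <;> simp [h0]⟩
          · exact ⟨!![v 0, 0; v 1, (v 0)⁻¹], by simp [det_fin_two, h0],
              by ext i; fin_cases i <;> simp⟩
        exact ⟨S m hm, (conj_mem_lineStab (hv 0)).2 ⟨c, by rw [hS m hm, hmv, hc]⟩⟩
      suffices key : ∀ s : H, Commute a s → (s : GL (Fin 2) F) ∉ center (GL (Fin 2) F) →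
          (∃ (v : Fin 2 → F) (μ : F), v ≠ 0 ∧ (s : GL (Fin 2) F).val *ᵥ v = μ • v) →
          ∃ (v : Fin 2 → F) (c : F), v ≠ 0 ∧ (a : GL (Fin 2) F).val *ᵥ v = c • v by
        by_cases haZ : (a : GL (Fin 2) F) ∈ center (GL (Fin 2) F)
        · obtain ⟨c, hc⟩ := (mem_lineStab (hv 0)).1 (center_le_lineStab (hv 0) haZ)
          exact ⟨_, c, hv 0, hc⟩
        let π := (QuotientGroup.mk' (center (GL (Fin 2) F))).comp H.subtype
        have hπ : ∀ x : H, π x = 1 ↔ (x : GL (Fin 2) F) ∈ center (GL (Fin 2) F) := fun x =>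
          QuotientGroup.eq_one_iff _
        rcases Nat.even_or_odd (orderOf (π a)) with ⟨m, hm⟩ | hodd
        · have hm0 : 0 < m := by have := orderOf_pos (π a); omega
          have h1 : ((a ^ m : H) : GL (Fin 2) F) ∉ center (GL (Fin 2) F) := by
            rw [← hπ, map_pow]
            exact pow_ne_one_of_lt_orderOf hm0.ne' (by omega)
          have h2 : ((a ^ m * a ^ m : H) : GL (Fin 2) F) ∈ center (GL (Fin 2) F) := by
            rw [← hπ, ← pow_add, ← hm, map_pow, pow_orderOf_eq_one]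
          obtain ⟨c, hc⟩ := GeneralLinearGroup.mem_center_iff_val_mem_range_scalar.1 h2
          refine key (a ^ m) (Commute.self_pow a m) h1 (exists_eigen_of_sq (c := c) ?_ ?_ ?_)
          · rw [← Units.val_mul, ← coe_mul, ← hc, smul_one_eq_diagonal]; rfl
          · intro μ hμ
            exact h1 (GeneralLinearGroup.mem_center_iff_val_mem_range_scalar.2
              ⟨μ, by rw [hμ, smul_one_eq_diagonal]; rfl⟩)
          · rw [neg_eq_neg_one_mul]
            exact IsSquare.mul ⟨i, hi⟩ (hsq _)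
        · obtain ⟨j, m, hm, hjm⟩ := Nat.exists_eq_two_pow_mul_odd (orderOf_pos a).ne'
          have h1 : Odd (orderOf (a ^ 2 ^ j)) := by
            refine Odd.of_dvd_nat hm (orderOf_dvd_of_pow_eq_one ?_)
            rw [← pow_mul, ← hjm, pow_orderOf_eq_one]
          obtain ⟨c, hc⟩ := (mem_lineStab (hv 0)).1 (mem_lineStab_of_commute_diagonal hd ht
            ((hto A hA htA _ (pow_mem ha _) h1).map H.subtype) 0)
          refine key (a ^ 2 ^ j) (Commute.self_pow a _) (fun h => haZ ?_) ⟨_, c, hv 0, hc⟩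
          rw [← hπ, map_pow, ← orderOf_dvd_iff_pow_eq_one] at h
          rw [← hπ, ← orderOf_eq_one_iff]
          exact Nat.Coprime.eq_one_of_dvd ((Nat.coprime_two_right.2 hodd).pow_right j) h
      rintro s hs hsZ ⟨v, μ, hv0, hμ⟩
      obtain ⟨c, hc⟩ := eigen_of_commute (congrArg (fun x : H => (x : GL (Fin 2) F).val) hs.eq)
        hv0 hμ fun h => hsZ (GeneralLinearGroup.mem_center_iff_val_mem_range_scalar.2
          ⟨μ, by rw [h, smul_one_eq_diagonal]; rfl⟩)
      exact ⟨v, c, hv0, hc⟩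
    · refine Odd.of_dvd_nat hpodd (orderOf_dvd_of_pow_eq_one ?_)
      rw [conj_pow, hup, mul_one, mul_inv_cancel]
  · let M' : Subgroup H := (Subgroup.square Fˣ).comap (GeneralLinearGroup.det.comp H.subtype)
    have hM' : ∀ a : H, a ∈ M' ↔ IsSquare ((a : GL (Fin 2) F) : Matrix (Fin 2) (Fin 2) F).det :=
      fun a => ⟨fun ⟨b, hb⟩ => ⟨b, congrArg Units.val hb⟩, fun ⟨b, hb⟩ =>
        ⟨Units.mk0 b (by
          rintro rfl; exact (a : GL (Fin 2) F).det_ne_zero (by simpa using hb)), Units.ext hb⟩⟩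
    have key : ∀ x : H, x ^ p = 1 → (∀ a : H, Commute a x → a ∈ M') →
        ∀ B : Subgroup H, Group.IsNilpotent B → x ∈ B → B ≤ M' := by
      intro x hx hC B hB hxB
      refine le_of_forall_primePow_mem fun a ha r j hr hao => ?_
      by_cases hrp : r = p
      · obtain ⟨m, hm⟩ : Odd (orderOf a) := by rw [hao, hrp]; exact hpodd.pow
        have : a = a ^ (m + 1) * a ^ (m + 1) := by
          rw [← pow_add, show m + 1 + (m + 1) = orderOf a + 1 by omega, pow_succ,
            pow_orderOf_eq_one, one_mul]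
        rw [this]
        exact ⟨_, map_mul _ _ _⟩
      · refine hC a (commute_of_coprime_of_mem_isNilpotent hB ha hxB ?_)
        rw [hao]
        exact Nat.Coprime.coprime_dvd_right (orderOf_dvd_of_pow_eq_one hx)
          (((Nat.coprime_primes hr hp).2 hrp).pow_left j)
    obtain ⟨A, hA, hA'⟩ := h.exists_nilpotent f hf hZ (M := M')
      (fun h => hsq fun a => (hM' a).1 (h ▸ mem_top a)) fun a ha => by
        obtain ⟨c, hc⟩ := GeneralLinearGroup.mem_center_iff_val_mem_range_scalar.1 (hk ha)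
        have hc' : scalar (Fin 2) c = ((a : GL (Fin 2) F) : Matrix (Fin 2) (Fin 2) F) := hc
        exact (hM' a).2 ⟨c, by rw [← hc']; simp [sq]⟩
    have h1 := hA' u (key u hup fun a ha => by
      have h1 := congrArg (fun x : H => (x : GL (Fin 2) F).val) ha.eq
      simp only [coe_mul, Units.val_mul, u, hS] at h1
      have h2 := congrFun (congrFun h1 0) 0
      have h3 := congrFun (congrFun h1 0) 1
      simp [Matrix.mul_apply] at h2 h3
      exact (hM' a).2 ⟨(a : GL (Fin 2) F).val 0 0, by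
        rw [det_fin_two, h2]; linear_combination -(a : GL (Fin 2) F).val 0 0 * h3⟩)
    have h2 := hA' u' (key u' hu'p fun a ha => by
      have h1 := congrArg (fun x : H => (x : GL (Fin 2) F).val) ha.eq
      simp only [coe_mul, Units.val_mul, u', hS] at h1
      have h2 := congrFun (congrFun h1 0) 0
      have h3 := congrFun (congrFun h1 1) 0
      simp [Matrix.mul_apply] at h2 h3
      exact (hM' a).2 ⟨(a : GL (Fin 2) F).val 0 0, by
        rw [det_fin_two, h2]; linear_combination (a : GL (Fin 2) F).val 0 0 * h3⟩)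
    exact hu'M (nilpotent_le_of_unique_conj huM hu hA h1 h2)

end

/-- A cover of a group is a finite set of proper subgroups whose union is the whole group; it is minimal when no cover has fewer members, and nilpotent when all its members are nilpotent. Let F be a finite field with q elements and n ≥ 3, or n = 2 and q ≥ 4. Then no subgroup of PGL_n(F) = GL_n(F)/Z(GL_n(F)) containing the image of SL_n(F) has a nilpotent minimal cover. -/
theorem result {F : Type*} [Field F] [Fintype F] (n : ℕ) (hn : 3 ≤ n ∨ (n = 2 ∧ 4 ≤ Fintype.card F))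
    (G : Subgroup (GL (Fin n) F ⧸ Subgroup.center (GL (Fin n) F)))
    (hG : ((Matrix.SpecialLinearGroup.toGL : Matrix.SpecialLinearGroup (Fin n) F →* GL (Fin n) F).range).map
      (QuotientGroup.mk' (Subgroup.center (GL (Fin n) F))) ≤ G) :
    ¬ ∃ 𝓐 : Finset (Subgroup ↥G), ((∀ A ∈ 𝓐, A ≠ ⊤) ∧ (∀ g : ↥G, ∃ A ∈ 𝓐, g ∈ A)) ∧ (∀ 𝓑 : Finset (Subgroup ↥G), (∀ A ∈ 𝓑, A ≠ ⊤) ∧ (∀ g : ↥G, ∃ A ∈ 𝓑, g ∈ A) → 𝓐.card ≤ 𝓑.card) ∧ (∀ A ∈ 𝓐, Group.IsNilpotent ↥A) := by
  rintro ⟨𝓐, h⟩
  let π := QuotientGroup.mk' (Subgroup.center (GL (Fin n) F))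
  have hf := π.subgroupComap_surjective_of_surjective G (QuotientGroup.mk'_surjective _)
  have hk : (π.subgroupComap G).ker ≤ (center _).subgroupOf (G.comap π) := fun x hx => by
    have h1 : π (x : GL (Fin n) F) = 1 := congrArg Subtype.val (MonoidHom.mem_ker.1 hx)
    exact mem_subgroupOf.2 ((QuotientGroup.eq_one_iff (x : GL (Fin n) F)).1 h1)
  have hSL : ∀ g : GL (Fin n) F, (g : Matrix (Fin n) (Fin n) F).det = 1 → g ∈ G.comap π :=
    fun g hg => hG ⟨g, ⟨⟨g, hg⟩, Units.ext rfl⟩, rfl⟩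
  rcases hn with hn | ⟨rfl, hq⟩
  · obtain ⟨m, rfl⟩ := Nat.exists_eq_add_of_le' hn
    exact case_three h _ hf hk hSL
  · exact case_two hq h _ hf hk hSL

end Cfsg.Agent.S3894
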