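import Cfsg.Statements.S3916
import Cfsg.Agent.Lib.CS.Asm
import Cfsg.Agent.Lib.CS.Quot
import Cfsg.Agent.Lib.CS.Simple
import Cfsg.Agent.Lib.CS.Core

set_option autoImplicit false
open Cfsg

namespace Cfsg.Agent.S3916

/-- Let G be a finite group in which, for every prime p, any two cyclic p-subgroups of the same order are conjugate. If G is not solvable, then G has normal subgroups K ≤ L such that K is solvable, L/K is a non-abelian simple group, and G/L is solvable. -/
theorem result {G : Type*} [Group G] [Finite G] (hP : ∀ (p : ℕ), p.Prime → ∀ A B : Subgroup G, IsCyclic ↥A → IsCyclic ↥B → IsPGroup p ↥A → Nat.card ↥A = Nat.card ↥B → ∃ g : G, B = A.map (MulAut.conj g).toMonoidHom) (hns : ¬ Group.IsSolvable G) :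
    ∃ (K L : Subgroup G) (_ : K.Normal) (_ : L.Normal), K ≤ L ∧ Group.IsSolvable ↥K ∧ Group.IsSolvable (G ⧸ L) ∧
      IsSimpleGroup (↥L ⧸ K.subgroupOf L) ∧ ¬ IsMulCommutative (↥L ⧸ K.subgroupOf L) := by
  have h1 := CfsgLib.CS.quot_conj hP (solvableRadical G)
  have hn : Nontrivial (G ⧸ solvableRadical G) := QuotientGroup.nontrivial_iff.2 fun e =>
    hns (CfsgLib.solvableRadical_eq_top_iff.1 e)
  obtain ⟨S, hN, hS, hs⟩ := CfsgLib.CS.exists_simple h1 fun N _ h => le_bot_iff.1
    (CfsgLib.solvableRadical_quotient_solvableRadical (G := G) ▸ CfsgLib.le_solvableRadical h)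
  exact CfsgLib.CS.asm _ CfsgLib.solvableRadical_isSolvable S hS hs (CfsgLib.CS.core h1 S hs)

end Cfsg.Agent.S3916
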