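import Cfsg.Statements.S3923
import Cfsg.Agent.Lib.Hom.Main

set_option autoImplicit false
open Cfsg

namespace Cfsg.Agent.S3923

/-- Call a finite group homogeneous when every isomorphism between two of its subgroups is the restriction of an automorphism of the whole group. A homogeneous quasisimple finite group (perfect with simple central quotient) is isomorphic to SL₂(5) if it is not simple, and to PSL₂(5) or PSL₂(7) if it is simple. -/
theorem result {G : Type*} [Group G] [Finite G] (hhom : ∀ (A B : Subgroup G) (e : ↥A ≃* ↥B), ∃ φ : G ≃* G, ∀ a : ↥A, φ (a : G) = (e a : G)) (hq : Cfsg.IsQuasisimple G) :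
    (¬ IsSimpleGroup G → ∃ (F : Type) (_ : Field F) (_ : Fintype F), Fintype.card F = 5 ∧ Nonempty (G ≃* Matrix.SpecialLinearGroup (Fin 2) F)) ∧
    (IsSimpleGroup G → ∃ (F : Type) (_ : Field F) (_ : Fintype F), (Fintype.card F = 5 ∨ Fintype.card F = 7) ∧
      Nonempty (G ≃* Matrix.ProjectiveSpecialLinearGroup (Fin 2) F)) := by
  refine ⟨fun hs => ?_, fun hs => ?_⟩
  · have := Fact.mk Nat.prime_five
    exact ⟨ZMod 5, inferInstance, inferInstance, ZMod.card 5, CfsgLib.Hom.quasi_hm hhom hq hs⟩
  · obtain ⟨p, _, h1, h2⟩ := CfsgLib.Hom.simple_hm (fun e => by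
      have h1 := hq.1
      have h2 : commutator G = ⊥ := (commutator_eq_bot_iff G).2 e
      exact bot_ne_top (h2.symm.trans h1.commutator_eq_top)) hhom
    exact ⟨ZMod p, inferInstance, inferInstance, by rwa [ZMod.card], h2⟩

end Cfsg.Agent.S3923
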