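import Cfsg.Statements.S3930
import Cfsg.Agent.Lib.H9Pyr5
import Cfsg.Agent.Lib.H1SL2

set_option autoImplicit false
open Cfsg

namespace Cfsg.Agent.S3930

open Matrix MatrixGroups SemidirectProduct

section
variable (F : Type) [Field F]

/-- The natural action of `SL(2, F)` on the plane, written multiplicatively. -/
noncomputable def phi : SL(2, F) →* MulAut (Multiplicative (Fin 2 → F)) where
  toFun g := AddEquiv.toMultiplicative (SpecialLinearGroup.toLin' g).toAddEquiv
  map_one' := by ext; simp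
  map_mul' := by intros; ext; simp

variable {F}

theorem phi_neg (v : Multiplicative (Fin 2 → F)) : phi F (-1) v = v⁻¹ := by
  change Multiplicative.ofAdd (SpecialLinearGroup.toLin' (-1 : SL(2, F)) v.toAdd) = _
  rw [SpecialLinearGroup.toLin'_apply, toLin'_apply]
  simp [neg_mulVec]

theorem eq_one_of_sq (h2 : (2 : F) ≠ 0) {v : Multiplicative (Fin 2 → F)} (h : v * v = 1) :
    v = 1 := by
  have h1 : (2 : F) • v.toAdd = 0 := by rw [two_smul]; exact h
  exact (smul_eq_zero.1 h1).resolve_left h2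

theorem neg_ne (h2 : (2 : F) ≠ 0) : (-1 : SL(2, F)) ≠ 1 := fun h => by
  have h1 : (-1 : F) = 1 := congrArg (fun g : SL(2, F) => g 0 0) h
  exact h2 (by linear_combination -h1)

theorem orderOf_iff (h2 : (2 : F) ≠ 0) (x : Multiplicative (Fin 2 → F) ⋊[phi F] SL(2, F)) :
    orderOf x = 2 ↔ x.right = -1 := by
  have := Fact.mk Nat.prime_two
  rw [orderOf_eq_prime_iff, sq]
  refine ⟨fun ⟨h, h1⟩ => CfsgLib.H1.SL2_eq_neg_one_of_sq h2
    (by rw [sq, ← mul_right, h, one_right]) fun h3 => h1 ?_, fun h => ⟨?_, fun h1 => ?_⟩⟩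
  · have h4 := congrArg left h
    rw [mul_left, h3, map_one, MulAut.one_apply, one_left] at h4
    exact SemidirectProduct.ext (eq_one_of_sq h2 h4) h3
  · exact SemidirectProduct.ext (by rw [mul_left, h, phi_neg, mul_inv_cancel, one_left])
      (by rw [mul_right, h, one_right, neg_mul_neg, one_mul])
  · exact neg_ne h2 (by rw [← h, h1, one_right])

theorem conj (h2 : (2 : F) ≠ 0) {x y : Multiplicative (Fin 2 → F) ⋊[phi F] SL(2, F)}
    (hx : x.right = -1) (hy : y.right = -1) : ∃ g, g * x * g⁻¹ = y := by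
  refine ⟨inl (Multiplicative.ofAdd ((2 : F)⁻¹ • (y.left.toAdd - x.left.toAdd))),
    SemidirectProduct.ext ?_ (by simp [hx, hy])⟩
  rw [← map_inv, mul_left, mul_left, mul_right, right_inl, map_one, one_mul, hx, phi_neg, left_inl,
    left_inl, inv_inv, MulAut.one_apply]
  refine Multiplicative.toAdd.injective ?_
  simp only [toAdd_mul, toAdd_ofAdd]
  match_scalars <;> field_simp <;> ring

theorem not_solvable {a : F} (ha : a ≠ 0) (ha2 : a ^ 2 ≠ 1) (h2 : (2 : F) ≠ 0) :
    ¬Group.IsSolvable (Multiplicative (Fin 2 → F) ⋊[phi F] SL(2, F)) := fun h => by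
  have : Nontrivial SL(2, F) := ⟨_, _, neg_ne h2⟩
  have := Group.isSolvable_of_surjective
    (rightHom_surjective (N := Multiplicative (Fin 2 → F)) (φ := phi F))
  exact (Group.IsSolvable.commutator_lt_top_of_nontrivial SL(2, F)).ne (SL2.commutator_eq_top ha ha2)

end

/-- Call a finite group m-pyramidal when it has exactly m involutions and they form a single conjugacy class. Let p be an odd prime and k ≥ 1. Then every p^k-pyramidal finite group is solvable if and only if k is odd or p^k = 9. -/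
theorem result (p k : ℕ) (hp : p.Prime) (hp2 : p ≠ 2) (hk : 1 ≤ k) :
    (∀ (G : Type) [Group G] [Finite G], Nat.card {x : G // orderOf x = 2} = p ^ k →
      (∀ x y : G, orderOf x = 2 → orderOf y = 2 → ∃ g : G, g * x * g⁻¹ = y) → Group.IsSolvable G) ↔ (Odd k ∨ p ^ k = 9) := by
  refine ⟨fun h => ?_, fun h G _ _ h1 hc => h.elim
    (fun h => CfsgLib.H9.Pyr.isSolvable_of_odd hp h ((Nat.card_coe_set_eq _).symm.trans h1) hc)
    fun h => CfsgLib.H9.Pyr.isSolvable_of_nine (((Nat.card_coe_set_eq _).symm.trans h1).trans h) hc⟩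
  by_contra h0
  rw [not_or, Nat.not_odd_iff_even] at h0
  obtain ⟨⟨m, rfl⟩, h9⟩ := h0
  have := Fact.mk hp
  have hm : m ≠ 0 := by omega
  have hF := GaloisField.card p m hm
  have h2 : (2 : GaloisField p m) ≠ 0 := fun h => hp2 ((Nat.prime_dvd_prime_iff_eq hp
    Nat.prime_two).1 ((CharP.cast_eq_zero_iff (GaloisField p m) p 2).1 h))
  have h3 : 3 < p ^ m := by
    have h3 : 3 ≤ p := by have := hp.two_le; omega
    refine lt_of_le_of_ne (h3.trans (Nat.le_self_pow hm p)) fun h => h9 ?_
    norm_num [pow_add, ← h]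
  obtain ⟨a, ha⟩ : ∃ a : GaloisField p m, a ∉ ({0, 1, -1} : Set (GaloisField p m)) := by
    by_contra h4
    push Not at h4
    have h5 := Set.ncard_le_ncard (s := Set.univ) (fun a _ => h4 a) (Set.toFinite _)
    rw [Set.ncard_univ, hF] at h5
    have h6 := Set.ncard_insert_le (0 : GaloisField p m) {1, -1}
    have h7 := Set.ncard_insert_le (1 : GaloisField p m) {-1}
    rw [Set.ncard_singleton] at h7
    omega
  simp only [Set.mem_insert_iff, Set.mem_singleton_iff, not_or] at ha
  have : Finite (Multiplicative (Fin 2 → GaloisField p m) ⋊[phi _] SL(2, GaloisField p m)) :=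
    Finite.of_equiv _ SemidirectProduct.equivProd.symm
  refine not_solvable ha.1 (fun h => (sq_eq_one_iff.1 h).elim ha.2.1 ha.2.2) h2
    (h _ ?_ fun x y hx hy => conj h2 ((orderOf_iff h2 x).1 hx) ((orderOf_iff h2 y).1 hy))
  rw [pow_add, ← hF, ← sq, show Nat.card (GaloisField p m) ^ 2 = Nat.card (Fin 2 → GaloisField p m)
    by simp [Nat.card_fun]]
  exact Nat.card_congr ⟨fun x => x.1.left.toAdd,
    fun v => ⟨⟨Multiplicative.ofAdd v, -1⟩, (orderOf_iff h2 _).2 rfl⟩,
    fun x => Subtype.ext (SemidirectProduct.ext rfl ((orderOf_iff h2 _).1 x.2).symm), fun _ => rfl⟩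

end Cfsg.Agent.S3930
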