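import Cfsg.Statements.S3940
import Cfsg.Agent.Lib.SE.Free
import Cfsg.Agent.Lib.H8TwoGen
import Cfsg.Agent.Lib.Hall

set_option autoImplicit false
open Cfsg

namespace Cfsg.Agent.S3940

open Subgroup CfsgLib CfsgLib.SE CfsgLib.H1 CfsgLib.Cop

/-- all `p'`-subgroups are nilpotent -/
def NP (p : ℕ) (G : Type*) [Group G] : Prop :=
  ∀ H : Subgroup G, (Nat.card ↥H).Coprime p → Group.IsNilpotent ↥H

theorem NP.of_surjective {p : ℕ} [Fact p.Prime] {G G' : Type*} [Group G] [Finite G] [Group G']
    (h : NP p G) (f : G →* G') (hs : PiSep {p}ᶜ G) (hf : Function.Surjective f) : NP p G' := by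
  intro K hK
  have := Finite.of_surjective f hf
  obtain ⟨L, h1, rfl⟩ := Hall.exists_isPiSubgroup_map_eq hs hf (coprime_iff_isPiSubgroup.1 hK)
  have := h L (coprime_iff_isPiSubgroup.2 h1)
  exact Group.nilpotent_of_surjective (f.subgroupMap L) (f.subgroupMap_surjective L)

theorem NP.subgroup {p : ℕ} {G : Type*} [Group G] (h : NP p G) (H : Subgroup G) : NP p H := by
  intro K hK
  have := h (K.map H.subtype) (by rwa [card_map_of_injective H.subtype_injective])
  exact Group.nilpotent_of_mulEquiv (K.equivMapOfInjective _ H.subtype_injective).symm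

theorem NP.quot {p : ℕ} [Fact p.Prime] {G : Type*} [Group G] [Finite G] (h : NP p G)
    (N : Subgroup G) [N.Normal] (hN : Group.IsSolvable N) : NP p (G ⧸ N) := by
  intro K hK
  set f := QuotientGroup.mk' N with hf
  have hs := f.subgroupComap_surjective_of_surjective K (QuotientGroup.mk'_surjective N)
  have h1 : PiSep {p}ᶜ (K.comap f) := by
    refine PiSep.of_normal_of_quotient (f.subgroupComap K).ker (PiSep.of_isSolvable ?_) ?_
    · refine Group.isSolvable_of_isSolvable_injective (f := ((K.comap f).subtype.comp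
        (f.subgroupComap K).ker.subtype).codRestrict N fun x =>
          (QuotientGroup.eq_one_iff _).1 (congrArg Subtype.val x.2)) fun x y e => ?_
      exact Subtype.ext (Subtype.ext (congrArg (Subtype.val : N → G) e))
    · refine PiSep.of_equiv (PiSep.of_isPiSubgroup (Or.inl (coprime_iff_isPiSubgroup.1 hK)))
        (QuotientGroup.quotientKerEquivOfSurjective _ hs).symm
  have := ((h.subgroup _).of_surjective _ h1 hs) ⊤ (by rwa [card_top])
  exact Group.nilpotent_of_mulEquiv topEquiv

theorem NP.comm {p : ℕ} {G : Type*} [Group G] [Finite G] (h : NP p G) {A B : Subgroup G}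
    (hn : A ≤ normalizer (B : Set G)) (hA : (Nat.card A).Coprime p) (hB : (Nat.card B).Coprime p)
    {x y : G} (hx : x ∈ A) (hy : y ∈ B) (hc : (orderOf x).Coprime (orderOf y)) : Commute x y :=
  commute_of_coprime_of_mem_isNilpotent (h (A ⊔ B) ((Nat.Coprime.mul_left hA hB).coprime_dvd_left
    (Dvd.intro _ (card_sup_mul_card_inf hn)))) (mem_sup_left hx) (mem_sup_right hy) hc

theorem NP.not_real {p : ℕ} (hp : p.Prime) (hp3 : 3 < p) {G : Type*} [Group G] [Finite G]
    (h : NP p G) {q : ℕ} (hq : q.Prime) (h2 : q ≠ 2) (hqp : q ≠ p) {y t : G} (hy : orderOf y = q) :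
    t * y * t⁻¹ ≠ y⁻¹ := fun e => by
  have : Fact (Nat.Prime 2) := ⟨Nat.prime_two⟩
  obtain ⟨s, -, ⟨k, hk⟩, e⟩ := exists_two_element_inverting e
  have h1 := h.comm (zpowers_le_of_mem (inv_conj_mem_normalizer_zpowers e))
    (by rw [Nat.card_zpowers]
        exact coprime_orderOf_of_pow ((Nat.coprime_primes Nat.prime_two hp).2 (by omega)) hk)
    (by rw [Nat.card_zpowers, hy]; exact (Nat.coprime_primes hq hp).2 hqp) (mem_zpowers s)
    (mem_zpowers y) (hy ▸ coprime_orderOf_of_pow ((Nat.coprime_primes Nat.prime_two hq).2 h2.symm) hk)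
  rw [h1.eq, mul_inv_cancel_right] at e
  have h3 := orderOf_dvd_of_pow_eq_one (x := y) (n := 2) (by
    rw [pow_two]; nth_rw 1 [e]; exact inv_mul_cancel y)
  exact h2 ((Nat.prime_dvd_prime_iff_eq hq Nat.prime_two).1 (hy ▸ h3))

theorem NP.f3 {p : ℕ} (hp : p.Prime) (hp3 : 3 < p) {G : Type*} [Group G] [Finite G]
    (h : NP p G) : F3 G := by
  intro a b x ha hb hc e1 e2
  have : Fact (Nat.Prime 2) := ⟨Nat.prime_two⟩
  have e3 : x * (a * b) * x⁻¹ = a := by rw [← conj_mul, e1, e2, hc, hb.mul_mul]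
  have hx : x ∈ normalizer ((zpowers a ⊔ zpowers b : Subgroup G) : Set G) := by
    refine mem_normalizer_of_map_conj_eq (eq_of_le_of_card_ge ?_ (card_map_conj _ _).ge)
    rw [Subgroup.map_sup, MonoidHom.map_zpowers, MonoidHom.map_zpowers]
    refine sup_le (zpowers_le_of_mem ?_) (zpowers_le_of_mem ?_)
    · exact mem_sup_right (e1 ▸ mem_zpowers _)
    · change x * b * x⁻¹ ∈ _
      rw [e2]; exact mul_mem_sup (mem_zpowers a) (mem_zpowers b)
  have h3 : x ^ 3 ∈ centralizer {a} := mem_cent_of_conj_eq (by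
    calc _ = x * (x * (x * a * x⁻¹) * x⁻¹) * x⁻¹ := by
          simp only [pow_succ, pow_zero, one_mul, mul_inv_rev, mul_assoc]
      _ = a := by rw [e1, e2, e3])
  obtain ⟨k, m, hm, hkm⟩ := Nat.exists_eq_pow_mul_and_not_dvd (orderOf_pos x).ne' 3 (by decide)
  have h4 : (x ^ m) ^ 3 ^ k = 1 := by rw [← pow_mul, mul_comm, ← hkm, pow_orderOf_eq_one]
  have h5 := h.comm (zpowers_le_of_mem (pow_mem hx m))
    (by rw [Nat.card_zpowers]
        exact coprime_orderOf_of_pow ((Nat.coprime_primes Nat.prime_three hp).2 (by omega)) h4)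
    (by obtain ⟨j, hj⟩ := (IsElementaryAbelian.isPGroup
          (Sig.isElementaryAbelian_four ha.1 hb.1 hc)).exists_card_eq
        rw [hj]; exact ((Nat.coprime_primes Nat.prime_two hp).2 (by omega)).pow_left _)
    (mem_zpowers _) (mem_sup_left (mem_zpowers a))
    (by rw [ha.orderOf]; exact coprime_orderOf_of_pow (by decide) h4)
  have h6 : x ∈ centralizer {a} := by
    have h7 := Nat.gcd_eq_gcd_ab m 3
    rw [((Nat.Prime.coprime_iff_not_dvd Nat.prime_three).2 hm).symm] at h7
    have h8 := mul_mem (zpow_mem (mem_centralizer_singleton_iff.2 h5.eq) (Nat.gcdA m 3))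
      (zpow_mem h3 (Nat.gcdB m 3))
    rwa [← zpow_natCast, ← zpow_natCast, ← zpow_mul, ← zpow_mul, ← zpow_add, ← h7, Nat.cast_one,
      zpow_one] at h8
  rw [conj_eq_of_mem_cent h6] at e1
  subst e1
  exact (ha.conj x).2 (e2.trans ha.1)

/-- Let p > 3 be a prime and G a finite group in which every subgroup of order prime to p is nilpotent. Then G is solvable. -/
theorem result {G : Type*} [Group G] [Finite G] (p : ℕ) (hp : p.Prime) (hp3 : 3 < p)
    (h : ∀ H : Subgroup G, (Nat.card ↥H).Coprime p → Group.IsNilpotent ↥H) : Group.IsSolvable G := by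
  have : Fact p.Prime := ⟨hp⟩
  refine H8TwoGen.solvable_of_hereditary (fun X _ => NP p X) (fun X _ _ h H => h.subgroup H)
    (fun X _ _ h N _ hN => h.quot N hN) (fun X _ _ h h1 h2 => ?_) G h
  by_contra h3
  have : Nontrivial X := by
    by_contra h4
    have := not_nontrivial_iff_subsingleton.1 h4
    exact h3 inferInstance
  obtain ⟨M, Q, t, y, R, h4, h5, h6, F, _, _, m, hm, -, h7, -⟩ :=
    MS.suzuki ⟨⟨h2⟩, h1, h3, h.f3 hp hp3⟩ (fun M hM h4 => by
      obtain ⟨K, f, hf⟩ := involves_iff.1 h4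
      have := ((h.subgroup M).subgroup K).of_surjective f (PiSep.of_isSolvable inferInstance) hf
      exact this.not_real hp hp3 Nat.prime_three (by decide) (by omega)
        (y := Equiv.swap 0 1 * Equiv.swap 1 2) (t := Equiv.swap 0 1)
        (orderOf_eq_prime (by decide) (by decide)) (by decide))
      fun y t hy => h.not_real hp hp3 Nat.prime_three (by decide) (by omega) hy
  obtain rfl : 5 = p := by
    by_contra h8
    exact h.not_real hp hp3 Nat.prime_five (by decide) h8 h4 h5
  have h8 : Nat.card (Suz.Dg M t) ≠ 1 := fun e => by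
    rw [e] at h7
    have : 2 ^ 1 = 2 ^ (2 * m + 1) := h7
    have : 1 = 2 * m + 1 := Nat.pow_right_injective le_rfl this
    omega
  obtain ⟨q, hq, h9⟩ := Nat.exists_prime_and_dvd h8
  have : Fact q.Prime := ⟨hq⟩
  obtain ⟨d, hd⟩ := exists_prime_orderOf_dvd_card' q h9
  by_cases h10 : q = 5
  · subst h10
    have h11 : 2 ^ (2 * m + 1) % 5 = 1 := by omega
    rw [pow_succ, pow_mul, Nat.mul_mod, Nat.pow_mod] at h11
    have h12 : ∀ j : ℕ, 4 ^ j % 5 = 1 ∨ 4 ^ j % 5 = 4 := fun j => by
      induction j with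
      | zero => left; rfl
      | succ j ih => rw [pow_succ]; omega
    rcases h12 m with e | e <;> simp [e] at h11
  · exact h.not_real hp hp3 hq (fun e => by
      subst e; exact (Nat.not_even_iff_odd.2 R.odd) (even_iff_two_dvd.2 h9)) h10
      ((orderOf_coe d).trans hd) (h6 d d.2)

end Cfsg.Agent.S3940
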