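import Cfsg.Statements.S4003
import Cfsg.Agent.Lib.SubgroupCount
import Cfsg.Agent.Lib.PGroupRankOne
import Cfsg.Agent.Lib.CoreElements

set_option autoImplicit false
open Cfsg

namespace Cfsg.Agent.S4003


open CfsgLib Subgroup
open scoped commutatorElement Pointwise

theorem mul_pow_eq {P : Type*} [Group P] [Finite P] {p : ℕ} [hp : Fact p.Prime] (hP : IsPGroup p P)
    (hodd : p ≠ 2) {E : Subgroup P} [hE : E.Normal] (he : IsElementaryAbelian p E)
    (hc : Nat.card E = p ^ 2) (x : P) {e : P} (h : e ∈ E) : (x * e) ^ p = x ^ p := by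
  have := hP.isNilpotent
  obtain ⟨Z, hZ, hZE, hZc⟩ := PGrp.exists_normal_le_card_eq_pow hP E 1
    (hc ▸ Nat.pow_le_pow_right hp.out.pos (by norm_num))
  rw [pow_one] at hZc
  have hZ1 := PGrp.le_center_of_card_eq_prime hP Z hZc
  have hm : ⁅e, x⁆ ∈ Z := by
    have h1 : Nat.card (E.map (QuotientGroup.mk' Z)) = p := by
      have := card_comap_mk' Z (E.map (QuotientGroup.mk' Z))
      rw [comap_map_eq, QuotientGroup.ker_mk', sup_eq_left.mpr hZE, hc, hZc, pow_two] at this
      exact (Nat.eq_of_mul_eq_mul_right hp.out.pos this).symm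
    have := hE.map _ (QuotientGroup.mk'_surjective Z)
    have h2 := PGrp.le_center_of_card_eq_prime (hP.to_quotient Z) _ h1 (mem_map_of_mem _ h)
    rw [← QuotientGroup.eq_one_iff]
    change QuotientGroup.mk' Z ⁅e, x⁆ = 1
    rw [map_commutatorElement, commutatorElement_eq_one_iff_mul_comm]
    exact (mem_center_iff.mp h2 _).symm
  rw [PGrp.mul_pow_prime_eq_of_odd (hp.out.odd_of_ne_two hodd)
    (mem_center_iff.mp (hZ1 hm) _).symm (mem_center_iff.mp (hZ1 hm) _).symm (he.2 _ (hZE hm)),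
    he.2 e h, mul_one]

theorem pgroup {P : Type*} [Group P] [Finite P] {p : ℕ} [hp : Fact p.Prime] (hP : IsPGroup p P)
    (hodd : p ≠ 2) (hc : ¬ IsCyclic P) (s : ℕ) :
    p ^ (s + 2) ∣ {x : P | orderOf x = p ^ (s + 2)}.ncard := by
  obtain ⟨E, hE, he, hEc⟩ := PGrp.exists_normal_card_sq_of_odd hP hodd hc
  refine H4.dvd_ncard_of_fibers _ (fun x => zpowers (x ^ p) ⊔ E) _ fun a ha => ?_
  have hpo : ∀ x : P, orderOf x = p ^ (s + 2) → orderOf (x ^ p) = p ^ (s + 1) := fun x hx => by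
    rw [orderOf_pow_of_dvd hp.out.ne_zero (hx ▸ dvd_pow_self p (by omega)), hx, pow_succ,
      Nat.mul_div_cancel _ hp.out.pos]
  set M := zpowers (a ^ p) ⊔ E with hM
  have h1 : p ^ (s + 2) ∣ Nat.card M := by
    have h2 := card_sup_mul_card_inf (H := zpowers (a ^ p)) (N := E) le_normalizer_of_normal
    rw [Nat.card_zpowers, hpo a ha, hEc] at h2
    obtain ⟨i, hi, h3⟩ := (Nat.dvd_prime_pow hp.out).mp
      (hEc ▸ card_dvd_of_le (inf_le_right : zpowers (a ^ p) ⊓ E ≤ E))
    have hi2 : i ≠ 2 := by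
      rintro rfl
      have h4 : zpowers (a ^ p) ⊓ E = E := eq_of_le_of_card_ge inf_le_right (by rw [h3, hEc])
      have : IsCyclic E := isCyclic_of_le (inf_eq_right.mp h4)
      obtain ⟨g, hg⟩ := IsCyclic.exists_ofOrder_eq_natCard (α := E)
      have h5 : orderOf g ∣ p := orderOf_dvd_of_pow_eq_one (Subtype.ext (he.2 g g.2))
      rw [hg, hEc] at h5
      have := (Nat.pow_dvd_pow_iff_le_right hp.out.one_lt).mp (h5.trans (pow_one p).symm.dvd)
      omega
    refine Nat.dvd_of_mul_dvd_mul_right (pow_pos hp.out.pos i) ?_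
    rw [h3] at h2
    rw [h2, ← pow_add, ← pow_add]
    exact pow_dvd_pow p (by omega)
  refine h1.trans ?_
  have key : ∀ u ∈ M, ∀ z : P, orderOf z = p ^ (s + 2) → zpowers (z ^ p) ⊔ E = M →
      orderOf (z * u) = p ^ (s + 2) ∧ zpowers ((z * u) ^ p) ⊔ E = M := by
    intro u hu z hz hzM
    rw [← hzM, ← SetLike.mem_coe, mul_normal] at hu
    obtain ⟨_, ⟨j, rfl⟩, e, he', rfl⟩ := hu
    obtain ⟨j, hj⟩ : ∃ k : ℕ, (z ^ p) ^ k = (z ^ p) ^ j :=
      mem_powers_iff_mem_zpowers.mpr ⟨j, rfl⟩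
    simp only
    rw [← hj, ← mul_assoc, ← pow_mul, ← pow_succ']
    have h2 : (z ^ (p * j + 1) * e) ^ p = (z ^ p) ^ (p * j + 1) := by
      rw [mul_pow_eq hP hodd he hEc _ he', ← pow_mul, ← pow_mul, mul_comm]
    have hcop : (orderOf (z ^ p)).Coprime (p * j + 1) := by
      rw [hpo z hz]
      exact Nat.Coprime.pow_left _ (by simp)
    refine ⟨?_, ?_⟩
    · have h3 : orderOf ((z ^ (p * j + 1) * e) ^ p) = p ^ (s + 1) := by
        rw [h2, hcop.orderOf_pow, hpo z hz]
      obtain ⟨k, hk⟩ := IsPGroup.iff_orderOf.mp hP (z ^ (p * j + 1) * e)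
      rcases k with _ | k
      · rw [pow_zero, orderOf_eq_one_iff] at hk
        rw [hk, one_pow, orderOf_one] at h3
        exact absurd h3.symm (Nat.one_lt_pow (by omega) hp.out.one_lt).ne'
      · rw [orderOf_pow_of_dvd hp.out.ne_zero (hk ▸ dvd_pow_self p (by omega)), hk, pow_succ,
          Nat.mul_div_cancel _ hp.out.pos] at h3
        rw [hk, pow_succ, h3, ← pow_succ]
    · rw [h2, ← hzM]
      congr 1
      refine eq_of_le_of_card_ge (zpowers_le.mpr (pow_mem (mem_zpowers _) _)) ?_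
      rw [Nat.card_zpowers, Nat.card_zpowers, hcop.orderOf_pow]
  rw [← Set.ncard_image_of_injective _ inv_injective]
  refine Frob.card_dvd_ncard_of_free (A := M) _ ?_ fun x _ u h => Subtype.ext (mul_eq_right.mp h)
  rintro u _ ⟨z, ⟨hz, hzM⟩, rfl⟩
  exact ⟨z * (u : P)⁻¹, key _ (inv_mem u.2) z hz hzM, by simp [Subgroup.smul_def]⟩

theorem dvd_nonnormalized {G : Type*} [Group G] [Finite G] {p : ℕ} [hp : Fact p.Prime]
    {P : Subgroup G} (hP : IsPGroup p P) (S : Set (Subgroup G))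
    (hS : ∀ g ∈ P, ∀ H ∈ S, H.map (MulAut.conj g).toMonoidHom ∈ S) :
    p ∣ {H | H ∈ S ∧ ¬ P ≤ normalizer (H : Set G)}.ncard := by
  let _ : MulAction P (Subgroup G) :=
    MulAction.compHom _ ((MulAut.conj : G →* MulAut G).comp P.subtype)
  have hsm : ∀ (g : P) (H : Subgroup G), g • H = H.map (MulAut.conj (g : G)).toMonoidHom :=
    fun _ _ => rfl
  refine Frob.dvd_ncard_of_dvd_index_stabilizer (A := P) _ ?_ ?_
  · rintro g H ⟨h1, h2⟩
    refine ⟨hS g g.2 H h1, fun h => h2 ?_⟩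
    have h3 : g⁻¹ • g • H = g • H := map_conj_eq_of_mem_normalizer (h (inv_mem g.2))
    rw [inv_smul_smul] at h3
    rwa [h3]
  · rintro H ⟨-, h2⟩
    obtain ⟨k, hk⟩ := hP.index (MulAction.stabilizer P H)
    rw [hk]
    refine dvd_pow_self p ?_
    rintro rfl
    refine h2 fun g hg => mem_normalizer_of_map_conj_eq ?_
    have : (⟨g, hg⟩ : P) ∈ MulAction.stabilizer P H := by
      rw [Subgroup.index_eq_one.mp hk]; trivial
    exact this

theorem dvd_cyclic {G : Type*} [Group G] [Finite G] {p : ℕ} [hp : Fact p.Prime] (hodd : p ≠ 2)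
    (P : Sylow p G) (hc : ¬ IsCyclic (P : Subgroup G)) (s : ℕ) :
    p ∣ {H : Subgroup G | Nat.card H = p ^ (s + 2) ∧ IsCyclic H}.ncard := by
  have h1 := pgroup P.isPGroup' hodd hc s
  rw [H4.ncard_orderOf_eq_mul_totient, Nat.totient_prime_pow_succ hp.out, mul_left_comm] at h1
  replace h1 := Nat.dvd_of_mul_dvd_mul_left (pow_pos hp.out.pos _) ((pow_succ p (s + 1)).symm.dvd.trans h1)
  replace h1 := (Nat.Coprime.dvd_mul_right (by
    have := hp.out.two_le
    exact (Nat.coprime_self_sub_right (by omega)).mpr (by simp))).mp h1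
  rw [← Set.ncard_image_of_injective _ (map_injective (P : Subgroup G).subtype_injective)] at h1
  have hsplit : ∀ (S : Set (Subgroup G)), S.ncard =
      {H | H ∈ S ∧ (P : Subgroup G) ≤ normalizer (H : Set G)}.ncard +
      {H | H ∈ S ∧ ¬ (P : Subgroup G) ≤ normalizer (H : Set G)}.ncard := fun S => by
    rw [← Set.ncard_union_eq (Set.disjoint_left.mpr fun x h h' => h'.2 h.2)]
    congr 1
    ext x
    simp only [Set.mem_ofPred_eq, Set.mem_union]
    tauto
  have himg : map (P : Subgroup G).subtype ''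
      {H : Subgroup (P : Subgroup G) | Nat.card H = p ^ (s + 2) ∧ IsCyclic H} =
      {H : Subgroup G | (Nat.card H = p ^ (s + 2) ∧ IsCyclic H) ∧ H ≤ P} := by
    ext H
    constructor
    · rintro ⟨K, ⟨h2, h3⟩, rfl⟩
      exact ⟨⟨(card_map_of_injective (subtype_injective _)).trans h2,
        isCyclic_of_surjective _ (equivMapOfInjective _ _ (subtype_injective _)).surjective⟩,
        map_subtype_le K⟩
    · rintro ⟨⟨h2, h3⟩, h4⟩
      exact ⟨H.subgroupOf P, ⟨(Nat.card_congr (subgroupOfEquivOfLe h4).toEquiv).trans h2,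
        isCyclic_of_surjective _ (subgroupOfEquivOfLe h4).symm.surjective⟩,
        map_subgroupOf_eq_of_le h4⟩
  have hinv : ∀ g : G, ∀ H ∈ {H : Subgroup G | Nat.card H = p ^ (s + 2) ∧ IsCyclic H},
      H.map (MulAut.conj g).toMonoidHom ∈
        {H : Subgroup G | Nat.card H = p ^ (s + 2) ∧ IsCyclic H} := by
    rintro g H ⟨h2, h3⟩
    exact ⟨(card_map_of_injective (MulAut.conj g).injective).trans h2,
      isCyclic_of_surjective _ (equivMapOfInjective _ _ (MulAut.conj g).injective).surjective⟩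
  rw [himg, hsplit, Nat.dvd_add_left (dvd_nonnormalized P.isPGroup' _ (by
    rintro g hg H ⟨h2, h3⟩
    refine ⟨hinv g H h2, ?_⟩
    rintro _ ⟨x, hx, rfl⟩
    exact mul_mem (mul_mem hg (h3 hx)) (inv_mem hg)))] at h1
  rw [hsplit, Nat.dvd_add_left (dvd_nonnormalized P.isPGroup' _ fun g _ => hinv g)]
  convert h1 using 4 with H
  refine and_congr_left fun h => (and_iff_left_of_imp fun h2 => ?_).symm
  have h3 := (P.isPGroup'.to_sup_of_normal_right' (IsPGroup.of_card h2.1) h)
  rw [← P.is_maximal' h3 le_sup_left]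
  exact le_sup_right

theorem general {G : Type*} [Group G] [Finite G] {p : ℕ} [hp : Fact p.Prime] (hodd : p ≠ 2)
    (P : Sylow p G) (hc : ¬ IsCyclic (P : Subgroup G)) (s : ℕ) :
    p ^ (s + 2) ∣ {x : G | orderOf x = p ^ (s + 2)}.ncard := by
  rw [H4.ncard_orderOf_eq_mul_totient, Nat.totient_prime_pow_succ hp.out]
  exact (pow_succ' p (s + 1)).dvd.trans
    (Nat.mul_dvd_mul (dvd_cyclic hodd P hc s) (Dvd.intro _ rfl))

theorem fibre {G : Type*} [Group G] [Finite G] {p k m : ℕ} (hm : p.Coprime m) {z : G}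
    (hz : orderOf z = m) :
    {g : G | orderOf g = p ^ k * m ∧ g ^ p ^ k = z}.ncard =
      {y : centralizer ({z} : Set G) | orderOf y = p ^ k}.ncard := by
  have hcop : (orderOf z).Coprime (p ^ k) := hz ▸ (hm.pow_left k).symm
  obtain ⟨j, hj⟩ := exists_pow_eq_self_of_coprime hcop.symm
  set w := z ^ j with hw
  have hwp : w ^ p ^ k = z := by rw [hw, ← pow_mul, mul_comm, pow_mul, hj]
  have hwo : orderOf w = m := by
    rw [← hz]
    exact Nat.dvd_antisymm (orderOf_pow_dvd j) (hwp ▸ orderOf_pow_dvd _)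
  rw [← Set.ncard_image_of_injective _ (f := fun y : centralizer ({z} : Set G) => (y : G) * w)
    fun a b h => Subtype.ext (mul_right_cancel h)]
  congr 1
  ext g
  constructor
  · rintro ⟨h1, h2⟩
    have hgz : Commute g z := h2 ▸ Commute.self_pow g _
    have hgw : Commute g w := hgz.pow_right j
    have hc : Commute (g * w⁻¹) w := hgw.mul_left (Commute.refl w).inv_left
    refine ⟨⟨g * w⁻¹, mem_centralizer_singleton_iff.mpr
      (hgz.mul_left (Commute.pow_self z j).inv_left).eq⟩, ?_, by simp⟩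
    have h3 : orderOf (g * w⁻¹) ∣ p ^ k := orderOf_dvd_of_pow_eq_one (by
      rw [hgw.inv_right.mul_pow, inv_pow, h2, hwp, mul_inv_cancel])
    have h4 := hc.orderOf_mul_eq_mul_orderOf_of_coprime
      (hwo ▸ Nat.Coprime.coprime_dvd_left h3 (hm.pow_left k))
    rw [inv_mul_cancel_right, h1, hwo] at h4
    rw [Set.mem_ofPred_eq, orderOf_mk]
    exact (Nat.eq_of_mul_eq_mul_right (hz ▸ orderOf_pos z) h4).symm
  · rintro ⟨y, hy, rfl⟩
    have hy' : orderOf (y : G) = p ^ k := by simpa using hy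
    have hc : Commute (y : G) w :=
      (show Commute (y : G) z from mem_centralizer_singleton_iff.mp y.2).pow_right j
    refine ⟨?_, ?_⟩
    · rw [hc.orderOf_mul_eq_mul_orderOf_of_coprime (by rw [hy', hwo]; exact hm.pow_left k), hy',
        hwo]
    · rw [hc.mul_pow, hwp, ← hy', pow_orderOf_eq_one, one_mul]

/-- Let G be a finite group, p an odd prime dividing the order of G whose Sylow p-subgroups are not cyclic, and n = p^s·m with s > 1 and m coprime to p. Then the number of elements of G of order n is a multiple of p^s. -/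
theorem result {G : Type*} [Group G] [Finite G] (p : ℕ) [Fact p.Prime] (hodd : p ≠ 2) (hpG : p ∣ Nat.card G)
    (P : Sylow p G) (hP : ¬ IsCyclic ↥(P : Subgroup G)) (s m : ℕ) (hs : 1 < s) (hm : Nat.Coprime p m) :
    p ^ s ∣ Nat.card {g : G // orderOf g = p ^ s * m} := by

  obtain ⟨s, rfl⟩ : ∃ t, s = t + 2 := ⟨s - 2, by omega⟩
  have hp : p.Prime := Fact.out
  change p ^ (s + 2) ∣ {g : G | orderOf g = p ^ (s + 2) * m}.ncard
  refine H4.dvd_ncard_of_fibers _ (fun g => ConjClasses.mk (g ^ p ^ (s + 2))) _ fun a ha => ?_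
  set z := a ^ p ^ (s + 2) with hz
  have hzo : orderOf z = m := by
    rw [hz, orderOf_pow_of_dvd (pow_pos hp.pos _).ne' (ha ▸ Dvd.intro _ rfl), ha,
      Nat.mul_div_cancel_left _ (pow_pos hp.pos _)]
  rw [H4.ncard_eq_mul_of_fibers _ (fun g => g ^ p ^ (s + 2)) {y | IsConj z y} (Set.toFinite _)
    {y : centralizer ({z} : Set G) | orderOf y = p ^ (s + 2)}.ncard
    (fun g hg => (ConjClasses.mk_eq_mk_iff_isConj.mp hg.2).symm), H4.ncard_conj_eq_index]
  · by_cases hd : p ∣ (centralizer ({z} : Set G)).index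
    · refine (pow_succ' p (s + 1)).dvd.trans (Nat.mul_dvd_mul hd ?_)
      rw [H4.ncard_orderOf_eq_mul_totient, Nat.totient_prime_pow_succ hp]
      exact Dvd.dvd.mul_left (Dvd.intro _ rfl) _
    · refine Dvd.dvd.mul_left ?_ _
      obtain ⟨Q⟩ : Nonempty (Sylow p (centralizer ({z} : Set G))) := inferInstance
      refine general hodd Q (fun hQ => hP ?_) s
      have h1 : IsPGroup p ((Q : Subgroup (centralizer ({z} : Set G))).map (Subgroup.subtype _)) :=
        Q.isPGroup'.map _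
      let R : Sylow p G := h1.toSylow (by
        rw [index_map_subtype]
        exact fun h => ((Nat.Prime.dvd_mul hp).mp h).elim Q.not_dvd_index hd)
      have : IsCyclic (R : Subgroup G) :=
        isCyclic_of_surjective _ (equivMapOfInjective _ _ (subtype_injective _)).surjective
      exact isCyclic_of_surjective _ (R.equiv P).surjective
  · intro y hy
    rw [← fibre hm hzo]
    obtain ⟨c, rfl⟩ := isConj_iff.mp hy
    rw [← Set.ncard_image_of_injective {g : G | orderOf g = p ^ (s + 2) * m ∧ g ^ p ^ (s + 2) = z}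
      (MulAut.conj c).injective]
    congr 1
    ext g
    constructor
    · rintro ⟨⟨h1, -⟩, h2⟩
      refine ⟨(MulAut.conj c).symm g, ⟨((MulAut.conj c).symm.orderOf_eq g).trans h1, ?_⟩,
        (MulAut.conj c).apply_symm_apply g⟩
      rw [← map_pow, h2]
      simp [mul_assoc]
    · rintro ⟨g, ⟨h1, h2⟩, rfl⟩
      have h3 : (MulAut.conj c g) ^ p ^ (s + 2) = c * z * c⁻¹ := by rw [← map_pow, h2]; rfl
      exact ⟨⟨((MulAut.conj c).orderOf_eq g).trans h1, by
        rw [h3]; exact ConjClasses.mk_eq_mk_iff_isConj.mpr hy.symm⟩, h3⟩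

end Cfsg.Agent.S4003
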