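import Cfsg.Statements.S4017
import Mathlib
import Cfsg.Agent.Lib.H5Redundant
import Cfsg.Agent.Lib.H5Real
import Cfsg.Agent.Lib.H5Involutions
import Cfsg.Agent.Lib.H5Small
import Cfsg.Agent.Lib.H1Amb
import Cfsg.Agent.Lib.H1Misc
import Cfsg.Agent.Lib.CharBurnside
import Cfsg.Agent.Lib.FrobeniusPComplement
import Cfsg.Agent.Lib.PComplement

set_option autoImplicit false
open Cfsg

namespace Cfsg.Agent.S4017
open Subgroup CfsgLib CfsgLib.H5
open scoped commutatorElement Pointwise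

section aux
variable {G : Type*} [Group G] [Finite G] {p : ℕ} [hp : Fact p.Prime]

/-- `x` is a `p`-element. -/
abbrev PE (p : ℕ) (x : G) : Prop := ∃ k : ℕ, orderOf x = p ^ k

omit [Finite G] hp in
theorem PE.conj {x : G} (h : PE p x) (g : G) : PE p (g * x * g⁻¹) := by
  rwa [PE, orderOf_conj']

theorem PE.of_mem_zpowers {x y : G} (h : PE p x) (hy : y ∈ zpowers x) : PE p y :=
  orderOf_eq_pow_of_mem_isPGroup (isPGroup_zpowers_iff.2 h) hy

omit [Finite G] in
theorem PE.eq_one {x : G} (h : PE p x) (hp2 : p ≠ 2) (h2 : x ^ 2 = 1) : x = 1 := by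
  obtain ⟨k, hk⟩ := h
  exact orderOf_eq_one_iff.1 (Nat.eq_one_of_dvd_coprimes (((Nat.coprime_primes Nat.prime_two
    hp.out).2 hp2.symm).pow_right k) (orderOf_dvd_of_pow_eq_one h2) hk.dvd)

omit [Finite G] in
theorem PE.eq_one_of_inv {x s : G} (h : PE p x) (hp2 : p ≠ 2) (h1 : s * x * s⁻¹ = x⁻¹)
    (h2 : Commute s x) : x = 1 :=
  h.eq_one hp2 (sq_eq_one_of_inverts_of_centralizes h1 (mem_centralizer_singleton_iff.2 h2))

theorem PE.mem_sylow {x : G} (h : PE p x) {P : Sylow p G} (hx : x ∈ normalizer (P : Set G)) :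
    x ∈ P := by
  have := (isPGroup_zpowers_iff.2 h).inf_normalizer_sylow P
  rw [inf_eq_left.2 (zpowers_le.2 hx)] at this
  exact (mem_inf.1 (this ▸ mem_zpowers x)).2

theorem pe_of_mem {P : Sylow p G} {x : G} (hx : x ∈ P) : PE p x :=
  orderOf_eq_pow_of_mem_isPGroup P.isPGroup' hx

theorem orbit {T : Subgroup G} (hT : Nat.card T ≤ p + 1) {y : G} (hy : PE p y)
    (h1 : y ∈ normalizer (T : Set G)) (h2 : y ∉ centralizer (T : Set G)) :
    Nat.card T = p + 1 ∧ (∀ x ∈ T, Commute x y → x = 1) ∧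
      ∀ s ∈ T, ∀ t ∈ T, s ≠ 1 → t ≠ 1 → ∃ z ∈ zpowers y, z * t * z⁻¹ = s := by
  have h3 := H1.card_modEq_card_inf_centralizer_elem (isPGroup_zpowers_iff.2 hy) h1
  have h4 : T ⊓ centralizer {y} < T := inf_lt_left.2 fun h => h2 (mem_centralizer_iff.2 fun x hx =>
    mem_centralizer_singleton_iff.1 (h hx))
  have h5 := card_lt_card_of_lt h4
  have h6 : 0 < Nat.card ↥(T ⊓ centralizer {y}) := Nat.card_pos
  have h7 := Nat.le_of_dvd (by omega) ((Nat.modEq_iff_dvd' h5.le).1 h3.symm)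
  have h8 : T ⊓ centralizer {y} = ⊥ := card_eq_one.1 (by omega)
  have h9 : ∀ x ∈ T, Commute x y → x = 1 := fun x hx hc =>
    mem_bot.1 (h8 ▸ mem_inf.2 ⟨hx, mem_centralizer_singleton_iff.2 hc⟩)
  refine ⟨by omega, h9, fun s hs t ht hs1 ht1 => ?_⟩
  have hinj : Set.InjOn (fun i : ℕ => y ^ i * t * (y ^ i)⁻¹) (Set.Iio p) := by
    have key : ∀ i j, i < j → j < p → y ^ i * t * (y ^ i)⁻¹ ≠ y ^ j * t * (y ^ j)⁻¹ := by
      intro i j hij hj h
      obtain ⟨d, rfl⟩ := Nat.exists_eq_add_of_lt hij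
      have hc : Commute t (y ^ (d + 1)) := by
        calc t * y ^ (d + 1) = (y ^ i)⁻¹ * (y ^ i * t * (y ^ i)⁻¹) * y ^ (i + d + 1) := by group
          _ = _ := by rw [h]; group
      obtain ⟨k, hk⟩ := hy
      obtain ⟨m, hm⟩ := exists_pow_eq_self_of_coprime (x := y) (n := d + 1) (by
        rw [hk]; exact (Nat.coprime_of_lt_prime (by omega) (by omega) hp.out).symm.pow_right k)
      exact ht1 (h9 t ht (hm ▸ hc.pow_right m))
    intro i hi j hj h
    rcases lt_trichotomy i j with h' | h' | h'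
    · exact absurd h (key i j h' hj)
    · exact h'
    · exact absurd h.symm (key j i h' hi)
  have hsub : (fun i : ℕ => y ^ i * t * (y ^ i)⁻¹) '' Set.Iio p ⊆ (T : Set G) \ {1} := by
    rintro _ ⟨i, -, rfl⟩
    exact ⟨conj_mem_of_mem_normalizer (pow_mem h1 i) ht, by simpa using ht1⟩
  have heq := Set.eq_of_subset_of_ncard_le hsub (by
    rw [hinj.ncard_image, Set.ncard_diff_singleton_of_mem T.one_mem, Set.ncard_Iio_nat,
      ← Nat.card_coe_set_eq, SetLike.coe_sort_coe]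
    omega)
  obtain ⟨i, -, hi⟩ : s ∈ (fun i : ℕ => y ^ i * t * (y ^ i)⁻¹) '' Set.Iio p := heq ▸ ⟨hs, hs1⟩
  exact ⟨y ^ i, pow_mem (mem_zpowers y) i, hi⟩

omit hp in
theorem comm_of {q : ℕ} (hp : p.Prime) (hq : q.Prime) (hpq : p ≠ q) {A B : Subgroup G}
    (hA : IsPGroup p A) (hB : IsPGroup q B) {a b : G} (ha : a ∈ A) (hb : b ∈ B)
    (h1 : a ∈ normalizer (B : Set G)) (h2 : b ∈ normalizer (A : Set G)) : Commute a b := by
  haveI := Fact.mk hp
  haveI := Fact.mk hq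
  rw [← commutatorElement_eq_one_iff_commute, ← mem_bot, ← (IsPGroup.disjoint_of_ne p q hpq A B
    hA hB).eq_bot, commutatorElement_def]
  refine mem_inf.2 ⟨?_, mul_mem (conj_mem_of_mem_normalizer h1 hb) (inv_mem hb)⟩
  have := mul_mem ha (conj_mem_of_mem_normalizer h2 (inv_mem ha))
  rwa [← mul_assoc, ← mul_assoc] at this

omit [Finite G] hp in
theorem mem_norm_zpowers {g x : G} (h : Commute g x) : g ∈ normalizer (zpowers x : Set G) :=
  centralizer_le_normalizer _ (by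
    rw [centralizer_zpowers_eq]; exact mem_centralizer_singleton_iff.2 h)

omit hp in
theorem mem_norm_zpowers_inv {g x : G} (h : g * x * g⁻¹ = x⁻¹) :
    g ∈ normalizer (zpowers x : Set G) :=
  mem_normalizer_zpowers_of_conj_mem (h ▸ inv_mem (mem_zpowers x))

omit [Finite G] hp in
theorem two_dvd {H : Subgroup G} {t : G} (ht : orderOf t = 2) (h : t ∈ H) : 2 ∣ Nat.card H :=
  ht ▸ orderOf_dvd_natCard H h

omit [Finite G] hp in
theorem ne_one_of {t : G} (ht : orderOf t = 2) : t ≠ 1 := by rintro rfl; simp at ht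

omit [Finite G] hp in
theorem sq_of {t : G} (ht : orderOf t = 2) : t ^ 2 = 1 := ht ▸ pow_orderOf_eq_one t

structure Hyp (p : ℕ) (G : Type*) [Group G] : Prop where
  odd : p ≠ 2
  ev : ∀ H : Subgroup G, H ≠ ⊤ → 2 ∣ Nat.card H → ∀ r : ℕ, r.Prime → r ∣ Nat.card H →
    r = 2 ∨ r = p
  n2 : ∀ N : Subgroup G, IsPGroup 2 N → N ≠ ⊥ → normalizer (N : Set G) ≠ ⊤
  np : ∀ N : Subgroup G, IsPGroup p N → N ≠ ⊥ → normalizer (N : Set G) ≠ ⊤
  ab : ∀ P : Subgroup G, IsPGroup p P → ∀ x ∈ P, ∀ y ∈ P, Commute x y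
  small : ∀ T : Subgroup G, IsPGroup 2 T → Nat.card T ≤ p + 1
  ex : ∃ (T : Subgroup G) (y : G), IsPGroup 2 T ∧ PE p y ∧ y ∈ normalizer (T : Set G) ∧
    y ∉ centralizer (T : Set G)

namespace Hyp
variable (h : Hyp p G)
include h

theorem toSyl {T : Subgroup G} (hT : IsPGroup 2 T) {y : G} (hy : PE p y)
    (h1 : y ∈ normalizer (T : Set G)) (h2 : y ∉ centralizer (T : Set G)) :
    ∃ Q : Sylow 2 G, (Q : Subgroup G) = T := by
  obtain ⟨Q, hQ⟩ := hT.exists_le_sylow
  exact ⟨Q, (eq_of_le_of_card_le hQ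
    ((h.small _ Q.isPGroup').trans (orbit (h.small T hT) hy h1 h2).1.ge)).symm⟩

theorem syl (Q : Sylow 2 G) : ∃ y : G, PE p y ∧ y ∈ normalizer ((Q : Subgroup G) : Set G) ∧
    y ∉ centralizer ((Q : Subgroup G) : Set G) := by
  obtain ⟨T, y, hT, hy, h1, h2⟩ := h.ex
  obtain ⟨Q0, rfl⟩ := h.toSyl hT hy h1 h2
  obtain ⟨g, rfl⟩ := MulAction.exists_smul_eq G Q0 Q
  refine ⟨g * y * g⁻¹, hy.conj g, ?_, ?_⟩
  · rw [sylow_coe_smul_eq_map, normalizer_map_conj]; exact conj_mem_map_conj h1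
  · rw [sylow_coe_smul_eq_map, centralizer_map_conj, mem_map_conj_iff]
    simpa [mul_assoc] using h2

theorem card_two (Q : Sylow 2 G) : Nat.card Q = p + 1 := by
  obtain ⟨y, h1, h2, h3⟩ := h.syl Q
  exact (orbit (h.small _ Q.isPGroup') h1 h2 h3).1

theorem ord (Q : Sylow 2 G) {x : G} (hx : x ∈ Q) (h1 : x ≠ 1) : orderOf x = 2 := by
  obtain ⟨y, h2, h3, h4⟩ := h.syl Q
  obtain ⟨⟨t, htQ⟩, ht⟩ := exists_prime_orderOf_dvd_card' (G := Q) 2
    (h.card_two Q ▸ (hp.out.odd_of_ne_two h.odd).add_one.two_dvd)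
  rw [orderOf_mk] at ht
  obtain ⟨z, -, rfl⟩ := (orbit (h.small _ Q.isPGroup') h2 h3 h4).2.2 x hx t htQ h1 (ne_one_of ht)
  rw [orderOf_conj', ht]

theorem sq (Q : Sylow 2 G) {x : G} (hx : x ∈ Q) : x ^ 2 = 1 := by
  by_cases h1 : x = 1
  · simp [h1]
  · exact sq_of (h.ord Q hx h1)

theorem comm (Q : Sylow 2 G) {x y : G} (hx : x ∈ Q) (hy : y ∈ Q) : Commute x y := by
  have h1 := inv_eq_self_of_sq (h.sq Q (mul_mem hx hy))
  rw [mul_inv_rev, inv_eq_self_of_sq (h.sq Q hx), inv_eq_self_of_sq (h.sq Q hy)] at h1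
  exact h1.symm

theorem isConj {s t : G} (hs : orderOf s = 2) (ht : orderOf t = 2) : ∃ g, g * t * g⁻¹ = s := by
  obtain ⟨Q, hQ⟩ := exists_sylow_mem_of_orderOf (p := 2) (k := 1) hs
  obtain ⟨Q', hQ'⟩ := exists_sylow_mem_of_orderOf (p := 2) (k := 1) ht
  obtain ⟨g, rfl⟩ := MulAction.exists_smul_eq G Q Q'
  obtain ⟨y, h2, h3, h4⟩ := h.syl Q
  obtain ⟨z, -, hz⟩ := (orbit (h.small _ Q.isPGroup') h2 h3 h4).2.2 s hQ _ (mem_smul_sylow.1 hQ')
    (ne_one_of hs) (ne_one_of (by rwa [orderOf_conj'']))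
  exact ⟨z * g⁻¹, by rw [← hz]; group⟩

theorem dich {L S : Subgroup G} (hL : L ≠ ⊤) (h2 : 2 ∣ Nat.card L) (hS : IsSylowIn p S L) :
    L ≤ normalizer (S : Set G) ∨ ∃ Q : Sylow 2 G, (Q : Subgroup G) ≤ L ∧
      L ≤ normalizer ((Q : Subgroup G) : Set G) ∧
      ∃ y ∈ S, y ∉ centralizer ((Q : Subgroup G) : Set G) := by
  by_cases hc : S ≤ centralizer (pCoreOf 2 L : Set G)
  · left
    have hsol := isSolvable_of_two_primes Nat.prime_two hp.out (h.ev L hL h2)
    have h1 : fittingOf L ≤ centralizer (S : Set G) := H1.fittingOf_le_of_forall fun r hr => by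
      by_cases hb : pCoreOf r L = ⊥
      · rw [hb]; exact bot_le
      rcases h.ev L hL h2 r hr.out (((H1.pCoreOf_isPGroup L).card_eq_or_dvd.resolve_left
        fun h' => hb (card_eq_one.1 h')).trans (card_dvd_of_le (H1.pCoreOf_le L))) with rfl | rfl
      · exact le_centralizer_iff.1 hc
      · exact fun x hx => mem_centralizer_iff.2 fun y hy =>
          h.ab S hS.isPGroup y hy x (H1.pCoreOf_le_sylow hS hx)
    have h3 := H1.le_pCoreOf_of_le_fittingOf ((le_inf hS.le (le_centralizer_iff.1 h1)).trans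
      (H1.inf_centralizer_fittingOf_le (H1.layerIn_eq_bot_of_isSolvable hsol))) hS.isPGroup
    rw [le_antisymm h3 (H1.pCoreOf_le_sylow hS)]
    exact H1.le_normalizer_pCoreOf L
  · right
    obtain ⟨y, hy, hyc⟩ := SetLike.not_le_iff_exists.1 hc
    obtain ⟨Q, hQ⟩ := h.toSyl (H1.pCoreOf_isPGroup L) (orderOf_eq_pow_of_mem_isPGroup hS.isPGroup hy)
      (H1.le_normalizer_pCoreOf L (hS.le hy)) hyc
    exact ⟨Q, hQ ▸ H1.pCoreOf_le L, hQ ▸ H1.le_normalizer_pCoreOf L, y, hy, hQ ▸ hyc⟩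

omit hp in
theorem cent_ne {t : G} (ht : orderOf t = 2) : centralizer ({t} : Set G) ≠ ⊤ := fun h' =>
  h.n2 (zpowers t) (isPGroup_zpowers_iff.2 ⟨1, ht⟩) (by simpa using ne_one_of ht)
    (top_le_iff.1 fun g _ => mem_norm_zpowers (mem_centralizer_singleton_iff.1 (h' ▸ mem_top g)))

theorem exK {t : G} (ht : orderOf t = 2) :
    ∃ K : Subgroup G, IsPGroup p K ∧ K ≤ centralizer {t} ∧ ∀ y, PE p y → Commute y t → y ∈ K := by
  obtain ⟨S, hS⟩ := IsSylowIn.exists_in (p := p) (centralizer ({t} : Set G))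
  have htC : t ∈ centralizer ({t} : Set G) := mem_centralizer_singleton_iff.2 rfl
  rcases h.dich (h.cent_ne ht) (two_dvd ht htC) hS with h1 | ⟨Q, -, h1, y, hy, hyc⟩
  · refine ⟨S, hS.isPGroup, hS.le, fun y hy hc => ?_⟩
    have hc' := zpowers_le.2 (mem_centralizer_singleton_iff.2 hc)
    rw [← hS.eq_of_le (H1.isPGroup_sup_of_le_normalizer (isPGroup_zpowers_iff.2 hy) hS.isPGroup
      (hc'.trans h1)) le_sup_right (sup_le hc' hS.le)]
    exact mem_sup_left (mem_zpowers y)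
  · exact absurd ((orbit (h.small _ Q.isPGroup') (orderOf_eq_pow_of_mem_isPGroup hS.isPGroup hy)
      (h1 (hS.le hy)) hyc).2.1 t (PE.mem_sylow ⟨1, ht⟩ (h1 htC))
      (mem_centralizer_singleton_iff.1 (hS.le hy)).symm) (ne_one_of ht)

theorem kcomm {t : G} (ht : orderOf t = 2) {y z : G} (hy : PE p y) (hz : PE p z)
    (h1 : Commute y t) (h2 : Commute z t) : Commute y z := by
  obtain ⟨K, hK, -, h3⟩ := h.exK ht
  exact h.ab K hK y (h3 y hy h1) z (h3 z hz h2)

end Hyp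

/-- The normalizer of `⟨y⟩` normalizes the Sylow subgroups containing `y`. -/
def NP (p : ℕ) (y : G) : Prop :=
  ∀ P : Sylow p G, y ∈ P → normalizer (zpowers y : Set G) ≤ normalizer ((P : Subgroup G) : Set G)

namespace Hyp
variable (h : Hyp p G)
include h

theorem uniq {y : G} (hy : NP p y) {P P' : Sylow p G} (h1 : y ∈ P) (h2 : y ∈ P') : P' = P :=
  Sylow.ext (P'.is_maximal' P.isPGroup' fun x hx => (pe_of_mem hx).mem_sylow
    (hy P h1 (mem_norm_zpowers (h.ab _ P'.isPGroup' x hx y h2)))).symm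

theorem mem_norm {y g : G} (hy : NP p y) {P : Sylow p G} (h1 : y ∈ P) (h2 : g * y * g⁻¹ ∈ P) :
    g ∈ normalizer ((P : Subgroup G) : Set G) := by
  have := h.uniq hy h1 (P' := g⁻¹ • P) (mem_smul_sylow.2 (by rwa [inv_inv]))
  exact inv_mem_iff.1 (Sylow.smul_eq_iff_mem_normalizer.1 this)

theorem np_or {y : G} (hy : PE p y) (h1 : y ≠ 1)
    (h2 : 2 ∣ Nat.card (normalizer (zpowers y : Set G))) :
    NP p y ∨ ∃ Q : Sylow 2 G, (∀ u ∈ Q, Commute y u) ∧
      normalizer (zpowers y : Set G) ≤ normalizer ((Q : Subgroup G) : Set G) := by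
  by_cases hn : NP p y
  · exact Or.inl hn
  right
  simp only [NP, not_forall] at hn
  obtain ⟨P, hP, hn⟩ := hn
  obtain ⟨Q, h3, h4, -⟩ := (h.dich (h.np _ (isPGroup_zpowers_iff.2 hy) (by simpa using h1)) h2
    (IsSylowIn.of_sylow P fun x hx => mem_norm_zpowers (h.ab _ P.isPGroup' x hx y hP))).resolve_left hn
  exact ⟨Q, fun u hu => comm_of hp.out Nat.prime_two h.odd (isPGroup_zpowers_iff.2 hy) Q.isPGroup'
    (mem_zpowers y) hu (h4 (le_normalizer (mem_zpowers y))) (h3 hu), h4⟩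

theorem np_inv {s x : G} (hs : orderOf s = 2) (hx : PE p x) (h1 : x ≠ 1)
    (hi : s * x * s⁻¹ = x⁻¹) : NP p x := by
  refine (h.np_or hx h1 (two_dvd hs (mem_norm_zpowers_inv hi))).resolve_right ?_
  rintro ⟨Q, h2, h3⟩
  exact h1 (hx.eq_one_of_inv h.odd hi
    (h2 s (PE.mem_sylow ⟨1, hs⟩ (h3 (mem_norm_zpowers_inv hi)))).symm)

theorem eq_of_inv {s x : G} (hs : orderOf s = 2) (hx : (orderOf x).Prime) (h2 : orderOf x ≠ 2)
    (hi : s * x * s⁻¹ = x⁻¹) : orderOf x = p := by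
  by_contra hne
  have hd := card_sup_dvd_mul (zpowers_le.2 (mem_norm_zpowers_inv hi))
  rw [Nat.card_zpowers, Nat.card_zpowers, hs] at hd
  refine (h.ev (zpowers s ⊔ zpowers x) (fun ht => ?_) (two_dvd hs (mem_sup_left (mem_zpowers s)))
    _ hx (orderOf_dvd_natCard _ (mem_sup_right (mem_zpowers x)))).elim h2 hne
  obtain ⟨T, y, -, ⟨k, hk⟩, -, hy⟩ := h.ex
  rcases k with _ | k
  · exact hy (orderOf_eq_one_iff.1 hk ▸ one_mem _)
  have : p ∣ 2 * orderOf x := ((dvd_pow_self p (by omega)).trans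
    (hk ▸ orderOf_dvd_natCard _ (ht ▸ mem_top y))).trans hd
  rcases (Nat.Prime.dvd_mul hp.out).1 this with h3 | h3
  · exact h.odd ((Nat.prime_dvd_prime_iff_eq hp.out Nat.prime_two).1 h3)
  · exact hne ((Nat.prime_dvd_prime_iff_eq hp.out hx).1 h3).symm

theorem ex_inv {s : G} (hs : orderOf s = 2) : ∃ x, PE p x ∧ x ≠ 1 ∧ s * x * s⁻¹ = x⁻¹ := by
  obtain ⟨x, h1, h2, h3⟩ := exists_inverted_of_notMem_pCore (sq_of hs) fun h' =>
    h.n2 _ (pCore_isPGroup 2) (fun h'' => ne_one_of hs (mem_bot.1 (h'' ▸ h')))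
      (normalizer_eq_top _)
  exact ⟨x, ⟨1, by rw [h.eq_of_inv hs h1 h2 h3, pow_one]⟩,
    by rintro rfl; simp [Nat.not_prime_one] at h1, h3⟩

theorem prod {s t : G} (hs : orderOf s = 2) (ht : orderOf t = 2) (hc : ¬ Commute s t) :
    ∃ x ∈ zpowers (s * t), PE p x ∧ x ≠ 1 := by
  obtain ⟨r, hr, hd, hr2⟩ : ∃ r : ℕ, r.Prime ∧ r ∣ orderOf (s * t) ∧ r ≠ 2 := by
    by_contra hcon
    push Not at hcon
    obtain ⟨Q, hQ⟩ := exists_sylow_mem_of_orderOf (Nat.eq_prime_pow_of_unique_prime_dvd (p := 2)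
      (orderOf_pos (s * t)).ne' fun {d} hd hd' => hcon d hd hd')
    have h1 := inv_eq_self_of_sq (h.sq Q hQ)
    rw [mul_inv_rev, inv_eq_self_of_sq (sq_of hs), inv_eq_self_of_sq (sq_of ht)] at h1
    exact hc h1.symm
  haveI := Fact.mk hr
  obtain ⟨⟨x, hx⟩, hxr⟩ := exists_prime_orderOf_dvd_card' (G := zpowers (s * t)) r
    (by rwa [Nat.card_zpowers])
  rw [orderOf_mk] at hxr
  subst hxr
  exact ⟨x, hx, ⟨1, by rw [h.eq_of_inv hs hr hr2 (inverts_of_mem_zpowers
    (inverts_mul_left (sq_of hs) (sq_of ht)) hx), pow_one]⟩,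
    by rintro rfl; simp [Nat.not_prime_one] at hr⟩

theorem ex_inv_mem (Q : Sylow 2 G) : ∃ s ∈ Q, orderOf s = 2 := by
  obtain ⟨⟨t, htQ⟩, ht⟩ := exists_prime_orderOf_dvd_card' (G := Q) 2
    (h.card_two Q ▸ (hp.out.odd_of_ne_two h.odd).add_one.two_dvd)
  exact ⟨t, htQ, by rwa [orderOf_mk] at ht⟩

theorem alpha (Q : Sylow 2 G) {z : G} (hz : PE p z) (h1 : z ≠ 1) (hc : ∀ u ∈ Q, Commute z u) :
    normalizer (zpowers z : Set G) ≤ normalizer ((Q : Subgroup G) : Set G) := by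
  obtain ⟨s, hsQ, hs⟩ := h.ex_inv_mem Q
  obtain ⟨K, hK, -, hK'⟩ := h.exK hs
  obtain ⟨y, hy, hyN, hyC⟩ := h.syl Q
  have hyZ : y ∈ normalizer ((K ⊓ centralizer ((Q : Subgroup G) : Set G) : Subgroup G) : Set G) :=
    mem_normalizer_of_conj_mem fun w hw => by
      have h2 := conj_mem_of_mem_normalizer (normalizer_le_normalizer_centralizer' _ hyN)
        (mem_inf.1 hw).2
      exact mem_inf.2 ⟨hK' _ (PE.conj (orderOf_eq_pow_of_mem_isPGroup hK (mem_inf.1 hw).1) y)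
        (mem_centralizer_iff.1 h2 s hsQ).symm, h2⟩
  obtain ⟨P, hP⟩ := (H1.isPGroup_sup_of_le_normalizer (isPGroup_zpowers_iff.2 hy)
    (hK.to_le inf_le_left) (zpowers_le.2 hyZ)).exists_le_sylow
  have hzP : z ∈ P := hP (mem_sup_right (mem_inf.2 ⟨hK' z hz (hc s hsQ),
    mem_centralizer_iff.2 fun u hu => (hc u hu).symm⟩))
  rcases h.np_or hz h1 (two_dvd hs (mem_norm_zpowers (hc s hsQ).symm)) with h2 | ⟨Q', -, h2⟩
  · exact absurd (mem_centralizer_iff.2 fun u hu => (comm_of hp.out Nat.prime_two h.odd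
      P.isPGroup' Q.isPGroup' (hP (mem_sup_left (mem_zpowers y))) hu hyN
      (h2 P hzP (mem_norm_zpowers (hc u hu).symm))).symm) hyC
  · rwa [show Q = Q' from Sylow.ext (Q.is_maximal' Q'.isPGroup' fun u hu => (pe_of_mem hu).mem_sylow
      (h2 (mem_norm_zpowers (hc u hu).symm))).symm]

theorem B0 (Q : Sylow 2 G) {z : G} (hz : PE p z) (hc : ∀ u ∈ Q, Commute z u) : z = 1 := by
  by_contra h1
  obtain ⟨s, hsQ, hs⟩ := h.ex_inv_mem Q
  have beta : ∀ w, PE p w → Commute w s → ∀ u ∈ Q, Commute w u := fun w hw hws u hu => by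
    by_contra hn
    exact ne_one_of hs ((orbit (h.small _ Q.isPGroup') hw (h.alpha Q hz h1 hc (mem_norm_zpowers
      (h.kcomm hs hw hz hws (hc s hsQ)))) fun h' => hn (mem_centralizer_iff.1 h' u hu).symm).2.1
      s hsQ hws.symm)
  obtain ⟨x, hx, hx1, hxi⟩ := h.ex_inv hs
  obtain ⟨P1, hP1⟩ := hx.elim fun _ hk => exists_sylow_mem_of_orderOf hk
  have hsP := h.np_inv hs hx hx1 hxi P1 hP1 (mem_norm_zpowers_inv hxi)
  obtain ⟨P, hP⟩ := hz.elim fun _ hk => exists_sylow_mem_of_orderOf hk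
  obtain ⟨g, rfl⟩ := MulAction.exists_smul_eq G P P1
  set z1 := g * z * g⁻¹ with hz1
  have h2 : z1 ∈ g • P := mem_smul_sylow.2 (by simpa [hz1, mul_assoc] using hP)
  have h3 : s * z1 * s⁻¹ ∈ g • P := conj_mem_of_mem_normalizer hsP h2
  have hz11 : z1 ≠ 1 := by simpa [hz1] using h1
  by_cases hw : z1 * (s * z1 * s⁻¹) = 1
  · have hi : s * z1 * s⁻¹ = z1⁻¹ := eq_inv_of_mul_eq_one_right hw
    have hc1 : ∀ u ∈ g • Q, Commute z1 u := fun u hu => by
      simpa [hz1, mul_assoc] using (hc _ (mem_smul_sylow.1 hu)).map (MulAut.conj g)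
    exact hz11 ((hz.conj g).eq_one_of_inv h.odd hi (hc1 s (PE.mem_sylow ⟨1, hs⟩
      (h.alpha _ (hz.conj g) hz11 hc1 (mem_norm_zpowers_inv hi)))).symm)
  · have h4 := mul_mem h2 h3
    have h5 : Commute (z1 * (s * z1 * s⁻¹)) s := by
      have e := (h.ab _ (g • P).isPGroup' _ h2 _ h3).eq
      have e2 := inv_eq_self_of_sq (sq_of hs)
      calc z1 * (s * z1 * s⁻¹) * s = s * (s⁻¹ * z1 * s * z1) := by group
        _ = s * (s * z1 * s⁻¹ * z1) := by rw [e2]
        _ = _ := by rw [← e]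
    exact hx1 (hx.eq_one_of_inv h.odd hxi (comm_of hp.out Nat.prime_two h.odd (g • P).isPGroup'
      Q.isPGroup' hP1 hsQ (h.alpha Q (pe_of_mem h4) hw (beta _ (pe_of_mem h4) h5)
      (mem_norm_zpowers (h.ab _ (g • P).isPGroup' _ hP1 _ h4))) hsP).symm)

theorem np' {y t : G} (hy : PE p y) (h1 : y ≠ 1) (ht : orderOf t = 2) (hc : Commute y t) :
    NP p y :=
  (h.np_or hy h1 (two_dvd ht (mem_norm_zpowers hc.symm))).resolve_right fun ⟨Q, h2, _⟩ =>
    h1 (h.B0 Q hy h2)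

end Hyp

namespace Hyp
variable (h : Hyp p G)
include h

omit hp h in
theorem exQ {s t : G} (hs : orderOf s = 2) (ht : orderOf t = 2) (hc : Commute s t) :
    ∃ Q : Sylow 2 G, s ∈ Q ∧ t ∈ Q := by
  obtain ⟨Q, hQ⟩ := (H1.isPGroup_sup_of_le_normalizer (p := 2) (isPGroup_zpowers_iff.2 ⟨1, hs⟩)
    (isPGroup_zpowers_iff.2 ⟨1, ht⟩) (zpowers_le.2 (mem_norm_zpowers hc))).exists_le_sylow
  exact ⟨Q, hQ (mem_sup_left (mem_zpowers s)), hQ (mem_sup_right (mem_zpowers t))⟩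

section caseB
variable {t y : G} {P : Sylow p G} (ht : orderOf t = 2) (hy : y ∈ P) (hy1 : y ≠ 1)
  (hc : Commute y t)
include ht hy hy1 hc

theorem B1 {g : G} (hg : Commute g t) : g ∈ normalizer ((P : Subgroup G) : Set G) := by
  have hn := h.np' (pe_of_mem hy) hy1 ht hc
  refine h.mem_norm hn hy (((pe_of_mem hy).conj g).mem_sylow (hn P hy (mem_norm_zpowers
    (h.kcomm ht ((pe_of_mem hy).conj g) (pe_of_mem hy) ?_ hc))))
  exact (hg.mul_left hc).mul_left hg.inv_left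

theorem B2 {u : G} (hu : orderOf u = 2) (hut : u ≠ t) (hc' : Commute u t) {x : G} (hx : x ∈ P) :
    u * x * u⁻¹ = x⁻¹ := by
  refine inverts_of_fixedPointFree (K := (P : Subgroup G)) (sq_of hu) (h.B1 ht hy hy1 hc hc')
    (fun y' hy' hc2 => ?_) hx
  by_contra hy1'
  obtain ⟨Q, huQ, htQ⟩ := exQ hu ht hc'
  obtain ⟨y0, h1, h2, h3⟩ := h.syl Q
  obtain ⟨z, hz, rfl⟩ := (orbit (h.small _ Q.isPGroup') h1 h2 h3).2.2 u huQ t htQ (ne_one_of hu)
    (ne_one_of ht)
  have hn := h.np' (pe_of_mem hy') hy1' hu (Commute.symm hc2)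
  have h4 : z * y * z⁻¹ ∈ P := ((pe_of_mem hy).conj z).mem_sylow (hn P hy' (mem_norm_zpowers
    (h.kcomm hu ((pe_of_mem hy).conj z) (pe_of_mem hy') (hc.map (MulAut.conj z))
      (Commute.symm hc2))))
  have h5 : z ∈ P := (h1.of_mem_zpowers hz).mem_sylow
    (h.mem_norm (h.np' (pe_of_mem hy) hy1 ht hc) hy h4)
  have h6 := comm_of hp.out Nat.prime_two h.odd P.isPGroup' Q.isPGroup' h5 htQ
    (zpowers_le.2 h2 hz) (h.B1 ht hy hy1 hc (Commute.refl t))
  exact hut (by rw [h6.eq, mul_inv_cancel_right])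

theorem B3 {u v : G} (hu : orderOf u = 2) (hut : u ≠ t) (hc1 : Commute u t) (hv : orderOf v = 2)
    (hvt : v ≠ t) (hc2 : Commute v t) {x : G} (hx : x ∈ P) : Commute (u * v) x := by
  have h1 := h.B2 ht hy hy1 hc hv hvt hc2 hx
  have h2 := h.B2 ht hy hy1 hc hu hut hc1 (inv_mem hx)
  rw [inv_inv, ← h1] at h2
  calc u * v * x = u * (v * x * v⁻¹) * u⁻¹ * (u * v) := by group
    _ = _ := by rw [h2]

theorem B4 {u v : G} (hu : orderOf u = 2) (hut : u ≠ t) (hc1 : Commute u t) (hv : orderOf v = 2)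
    (hvt : v ≠ t) (hc2 : Commute v t) (huv : u ≠ v) (hc3 : Commute u v) : u * v = t := by
  by_contra hne
  have h1 : orderOf (u * v) = 2 := orderOf_eq_prime (by rw [hc3.mul_pow, sq_of hu, sq_of hv, one_mul])
    fun h' => huv (by rw [eq_inv_of_mul_eq_one_left h', inv_eq_self_of_sq (sq_of hv)])
  exact hy1 ((pe_of_mem hy).eq_one_of_inv h.odd (h.B2 ht hy hy1 hc h1 hne (hc1.mul_left hc2) hy)
    (h.B3 ht hy hy1 hc hu hut hc1 hv hvt hc2 hy))

theorem B5 {x : G} (hx : x ∈ P) : Commute t x := by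
  obtain ⟨Q, htQ⟩ := exists_sylow_mem_of_orderOf (p := 2) (k := 1) ht
  obtain ⟨u, huQ, hu⟩ : ∃ u ∈ Q, u ∉ zpowers t := by
    refine SetLike.not_le_iff_exists.1 fun h' : (Q : Subgroup G) ≤ zpowers t => ?_
    have := card_le_of_le h'
    rw [h.card_two, Nat.card_zpowers, ht] at this
    have := hp.out.two_le
    omega
  have h1 : u * t ∈ Q := mul_mem huQ htQ
  have h2 : u * t ∉ zpowers t := fun h' => hu ((mul_mem_cancel_right (mem_zpowers t)).1 h')
  have h3 := h.ord Q huQ fun h' => hu (h' ▸ one_mem _)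
  have := h.B3 ht hy hy1 hc h3 (fun h' => hu (h' ▸ mem_zpowers _)) (h.comm Q huQ htQ)
    (h.ord Q h1 fun h' => h2 (h' ▸ one_mem _)) (fun h' => h2 (by rw [h']; exact mem_zpowers _))
    (h.comm Q h1 htQ) hx
  rwa [← mul_assoc, mul_self_eq_one_of_sq (sq_of h3), one_mul] at this

theorem B6 {g : G} (hg : g ∈ normalizer ((P : Subgroup G) : Set G)) : Commute g t := by
  obtain ⟨Q, htQ⟩ := exists_sylow_mem_of_orderOf (p := 2) (k := 1) ht
  have hne := h.np _ P.isPGroup' fun h' => hy1 (mem_bot.1 (h' ▸ hy))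
  have hQ : (Q : Subgroup G) ≤ normalizer ((P : Subgroup G) : Set G) := fun u hu =>
    h.B1 ht hy hy1 hc (h.comm Q hu htQ)
  refine mem_centralizer_singleton_iff.1 (le_of_forall_sylow_le (fun r hr hd => ?_) hg)
  rcases h.ev _ hne (two_dvd ht (hQ htQ)) r hr.out hd with rfl | rfl
  · obtain ⟨S, hS⟩ := (IsSylowIn.of_sylow Q hQ).exists_sylow_map
    exact ⟨S, hS ▸ fun u hu => mem_centralizer_singleton_iff.2 (h.comm Q hu htQ)⟩
  · obtain ⟨S, hS⟩ := (IsSylowIn.of_sylow P le_normalizer).exists_sylow_map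
    exact ⟨S, hS.le.trans fun x hx => mem_centralizer_singleton_iff.2 (h.B5 ht hy hy1 hc hx).symm⟩

end caseB

theorem caseB {t y : G} (ht : orderOf t = 2) (hy : PE p y) (hy1 : y ≠ 1) (hc : Commute y t) :
    False := by
  obtain ⟨P0, hP0⟩ := hy.elim fun _ hk => exists_sylow_mem_of_orderOf hk
  have cj : ∀ g : G, orderOf (g * t * g⁻¹) = 2 ∧ g * y * g⁻¹ ∈ g • P0 ∧ g * y * g⁻¹ ≠ 1 ∧
      Commute (g * y * g⁻¹) (g * t * g⁻¹) := fun g =>
    ⟨by rwa [orderOf_conj'], mem_smul_sylow.2 (by simpa [mul_assoc] using hP0), by simpa using hy1,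
      hc.map (MulAut.conj g)⟩
  obtain ⟨v, hv, hv'⟩ := exists_involution_commute_all ht fun s s' hs hs' hne => by
    by_cases hss : Commute s s'
    · have h1 : orderOf (s * s') = 2 := orderOf_eq_prime
        (by rw [hss.mul_pow, sq_of hs, sq_of hs', one_mul])
        fun h' => hne (by rw [eq_inv_of_mul_eq_one_left h', inv_eq_self_of_sq (sq_of hs')])
      refine ⟨s * s', ⟨h1, by simpa using ne_one_of hs', by simpa using ne_one_of hs,
        (Commute.refl s).mul_right hss, hss.symm.mul_right (Commute.refl s')⟩, ?_⟩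
      rintro u ⟨h2, h3, h4, h5, h6⟩
      obtain ⟨g, rfl⟩ := h.isConj hs ht
      obtain ⟨k1, k2, k3, k4⟩ := cj g
      rw [← h.B4 k1 k2 k3 k4 h2 h3 h5.symm hs' hne.symm hss.symm h4 h6.symm, mul_assoc,
        mul_self_eq_one_of_sq (sq_of hs'), mul_one]
    · obtain ⟨x, hx, hx1, hx2⟩ := h.prod hs hs' hss
      have i1 := inverts_of_mem_zpowers (inverts_mul_left (sq_of hs) (sq_of hs')) hx
      have i2 := inverts_of_mem_zpowers (inverts_mul_right (sq_of hs) (sq_of hs')) hx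
      obtain ⟨P, hP⟩ := hx1.elim fun _ hk => exists_sylow_mem_of_orderOf hk
      have hn := h.np_inv hs hx1 hx2 i1 P hP
      obtain ⟨g, rfl⟩ := MulAction.exists_smul_eq G P0 P
      obtain ⟨k1, k2, k3, k4⟩ := cj g
      have c1 := h.B6 k1 k2 k3 k4 (hn (mem_norm_zpowers_inv i1))
      have c2 := h.B6 k1 k2 k3 k4 (hn (mem_norm_zpowers_inv i2))
      refine ⟨g * t * g⁻¹, ⟨k1, fun h' => hss (h' ▸ c2).symm, fun h' => hss (h' ▸ c1), c1, c2⟩, ?_⟩
      rintro u ⟨h2, -, -, h5, h6⟩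
      by_contra hu
      have h7 : Commute x u := by
        obtain ⟨n, rfl⟩ := hx
        exact (h5.mul_left h6).zpow_left n
      exact hx2 (hx1.eq_one_of_inv h.odd (h.B2 h2 hP hx2 h7 k1 (Ne.symm hu)
        (h.B6 h2 hP hx2 h7 (h.B1 k1 k2 k3 k4 (Commute.refl _))) hP) (h.B5 k1 k2 k3 k4 hP))
  obtain ⟨x, h1, h2, h3⟩ := h.ex_inv hv
  have h4 : ¬ Commute v x := fun h' => h2 (h1.eq_one_of_inv h.odd h3 h')
  refine h4 ?_
  have h5 := hv' (v * x) (orderOf_eq_prime (by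
    calc (v * x) ^ 2 = v * x * v⁻¹ * v ^ 2 * x := by rw [pow_two, pow_two]; group
      _ = 1 := by rw [h3, sq_of hv]; group) fun h' => h4 (by
        rw [eq_inv_of_mul_eq_one_right h']; exact (Commute.refl v).inv_right))
  simpa using ((Commute.refl v).inv_right).mul_right h5

theorem caseA (hA : ∀ t y : G, orderOf t = 2 → PE p y → Commute y t → y = 1) : False := by
  classical
  obtain ⟨Q⟩ : Nonempty (Sylow 2 G) := inferInstance
  obtain ⟨s, hsQ, hs⟩ := h.ex_inv_mem Q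
  have hCs : ∀ g, Commute g s → g ∈ Q := fun g hg => by
    have h1 : IsPGroup 2 (centralizer ({s} : Set G)) :=
      IsPGroup.of_card (Nat.eq_prime_pow_of_unique_prime_dvd Nat.card_pos.ne' fun {r} hr hd => by
        refine (h.ev _ (h.cent_ne hs) (two_dvd hs (mem_centralizer_singleton_iff.2 rfl)) r hr
          hd).resolve_right ?_
        rintro rfl
        obtain ⟨⟨y, hy⟩, hyr⟩ := exists_prime_orderOf_dvd_card' r hd
        rw [orderOf_mk] at hyr
        rw [hA s y hs ⟨1, by rw [hyr, pow_one]⟩ (mem_centralizer_singleton_iff.1 hy),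
          orderOf_one] at hyr
        exact hr.one_lt.ne hyr)
    have := Q.is_maximal' h1 fun u hu => mem_centralizer_singleton_iff.2 (h.comm Q hu hsQ)
    exact (this ▸ mem_centralizer_singleton_iff.2 hg : g ∈ (Q : Subgroup G))
  have hCx : ∀ (x g u : G) (P : Sylow p G), x ∈ P → x ≠ 1 → orderOf u = 2 → u * x * u⁻¹ = x⁻¹ →
      Commute g x → g ∈ P := fun x g u P hx hx1 hu hi hg => by
    have h1 : IsPGroup p (centralizer ({x} : Set G)) :=
      IsPGroup.of_card (Nat.eq_prime_pow_of_unique_prime_dvd Nat.card_pos.ne' fun {r} hr hd => by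
        refine (h.ev _ (h.np _ (isPGroup_zpowers_iff.2 (pe_of_mem hx)) (by simpa using hx1))
          (two_dvd hu (mem_norm_zpowers_inv hi)) r hr (hd.trans (card_dvd_of_le fun g hg =>
            mem_norm_zpowers (mem_centralizer_singleton_iff.1 hg)))).resolve_left ?_
        rintro rfl
        obtain ⟨⟨t, ht⟩, htr⟩ := exists_prime_orderOf_dvd_card' 2 hd
        rw [orderOf_mk] at htr
        exact hx1 (hA t x htr (pe_of_mem hx) (mem_centralizer_singleton_iff.1 ht).symm))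
    have := P.is_maximal' h1 fun y hy => mem_centralizer_singleton_iff.2
      (h.ab _ P.isPGroup' y hy x hx)
    exact (this ▸ mem_centralizer_singleton_iff.2 hg : g ∈ (P : Subgroup G))
  have hinv : ∀ (u : G) (P : Sylow p G), orderOf u = 2 → u ∈ normalizer ((P : Subgroup G) : Set G) →
      ∀ x ∈ P, u * x * u⁻¹ = x⁻¹ := fun u P hu hn x hx =>
    inverts_of_fixedPointFree (K := (P : Subgroup G)) (sq_of hu) hn
      (fun y hy hc => hA u y hu (pe_of_mem hy) (Commute.symm hc)) hx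
  obtain ⟨x0, hx0, hx01, hx0i⟩ := h.ex_inv hs
  obtain ⟨P, hP⟩ := hx0.elim fun _ hk => exists_sylow_mem_of_orderOf hk
  have hsP := h.np_inv hs hx0 hx01 hx0i P hP (mem_norm_zpowers_inv hx0i)
  have two : ∀ u v : G, orderOf u = 2 → u ∈ normalizer ((P : Subgroup G) : Set G) →
      orderOf v = 2 → v ∈ normalizer ((P : Subgroup G) : Set G) → u * v ∈ P := fun u v hu hun hv hvn => by
    refine hCx x0 _ s P hP hx01 hs hx0i ?_
    have h1 := hinv v P hv hvn x0 hP
    have h2 := hinv u P hu hun _ (inv_mem hP)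
    rw [inv_inv, ← h1] at h2
    calc u * v * x0 = u * (v * x0 * v⁻¹) * u⁻¹ * (u * v) := by group
      _ = _ := by rw [h2]
  set J : Set G := {t | orderOf t = 2 ∧ t ∉ Q} with hJ
  have hpJ : p ∣ J.ncard := by
    obtain ⟨y, h1, h2, h3⟩ := h.syl Q
    refine dvd_trans ?_ (H1.card_dvd_ncard_of_free_conj (B := zpowers y) J (fun b hb t ht => ?_)
      fun b hb t ht hc => hA t b ht.1 (h1.of_mem_zpowers hb) (mul_inv_eq_iff_eq_mul.1 hc))
    · obtain ⟨k, hk⟩ := h1
      rw [Nat.card_zpowers, hk]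
      refine dvd_pow_self p ?_
      rintro rfl
      exact h3 (orderOf_eq_one_iff.1 hk ▸ one_mem _)
    · refine ⟨by rw [orderOf_conj', ht.1], fun h' => ht.2 ?_⟩
      exact (mem_normalizer_iff.1 (zpowers_le.2 h2 hb) t).2 h'
  letI := Fintype.ofFinite G
  have count := Finset.card_mul_eq_card_mul (fun u t : G => u⁻¹ * (s * t) * u ∈ P)
    (s := ((Q : Subgroup G) : Set G).toFinset) (t := J.toFinset) (m := Nat.card P - 1) (n := 2)
    (fun u hu => ?_) fun t ht => ?_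
  · rw [← Set.ncard_eq_toFinset_card', ← Set.ncard_eq_toFinset_card', ← Nat.card_coe_set_eq,
      SetLike.coe_sort_coe, h.card_two] at count
    have h1 : p ∣ Nat.card P - 1 := (Nat.Coprime.dvd_mul_left (by simp)).1
      (count ▸ hpJ.mul_right 2)
    have h2 : p ∣ Nat.card P := P.isPGroup'.card_eq_or_dvd.resolve_left fun h' =>
      hx01 (mem_bot.1 (card_eq_one.1 h' ▸ hP))
    have h3 : 0 < Nat.card P := Nat.card_pos
    exact hp.out.one_lt.ne' (Nat.dvd_one.1 (by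
      have := Nat.dvd_sub h2 h1
      rwa [Nat.sub_sub_self h3] at this))
  · have huQ : u ∈ Q := by simpa using hu
    have hus := h.comm Q huQ hsQ
    rw [← SetLike.coe_sort_coe, Nat.card_coe_set_eq, ← Set.ncard_diff_singleton_of_mem P.1.one_mem,
      Set.ncard_eq_toFinset_card']
    refine Finset.card_bij (fun t _ => u⁻¹ * (s * t) * u) (fun t ht => ?_)
      (fun t _ t' _ h => by simpa using h) fun x hx => ?_
    · simp only [Finset.mem_bipartiteAbove, Set.mem_toFinset] at ht ⊢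
      refine ⟨ht.2, fun h' => ht.1.2 ?_⟩
      rw [show t = s⁻¹ by
        calc t = s⁻¹ * u * (u⁻¹ * (s * t) * u) * u⁻¹ := by group
          _ = _ := by rw [Set.mem_singleton_iff.1 h']; group]
      exact inv_mem hsQ
    · simp only [Set.mem_toFinset] at hx
      have hx1 : x ≠ 1 := hx.2
      have hi := hinv s P hs hsP x hx.1
      have e : u⁻¹ * (s * (u * (s * x) * u⁻¹)) * u = x := by
        calc _ = u⁻¹ * (s * u) * s * x := by group
          _ = s ^ 2 * x := by rw [← hus.eq, pow_two]; group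
          _ = x := by rw [sq_of hs, one_mul]
      refine ⟨u * (s * x) * u⁻¹, ?_, e⟩
      simp only [Finset.mem_bipartiteAbove, Set.mem_toFinset]
      have hnc : ¬ Commute s x := fun h' => hx1 (hA s x hs (pe_of_mem hx.1) h'.symm)
      refine ⟨⟨?_, fun h' => hnc (h.comm Q hsQ ?_)⟩, by rw [e]; exact hx.1⟩
      · rw [orderOf_conj']
        refine orderOf_eq_prime ?_ fun h' => hnc (by
          rw [eq_inv_of_mul_eq_one_right h']; exact (Commute.refl s).inv_right)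
        calc (s * x) ^ 2 = s * x * s⁻¹ * s ^ 2 * x := by rw [pow_two, pow_two]; group
          _ = 1 := by rw [hi, sq_of hs]; group
      · have := mul_mem (inv_mem hsQ) (mul_mem (mul_mem (inv_mem huQ) h') huQ)
        rwa [show s⁻¹ * (u⁻¹ * (u * (s * x) * u⁻¹) * u) = x by group] at this
  · obtain ⟨ht, htQ⟩ : t ∈ J := by simpa using ht
    obtain ⟨x, hx, hx1, hx2⟩ := h.prod hs ht fun h' => htQ (hCs t h'.symm)
    have i1 := inverts_of_mem_zpowers (inverts_mul_left (sq_of hs) (sq_of ht)) hx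
    have hn := h.np_inv hs hx1 hx2 i1
    obtain ⟨P', hP'⟩ := hx1.elim fun _ hk => exists_sylow_mem_of_orderOf hk
    have hst : s * t ∈ P' := hCx x _ s P' hP' hx2 hs i1 (commute_of_mem_zpowers (mem_zpowers _) hx)
    have hsP' := hn P' hP' (mem_norm_zpowers_inv i1)
    obtain ⟨g, rfl⟩ := MulAction.exists_smul_eq G P P'
    rw [sylow_coe_smul_eq_map, normalizer_map_conj, mem_map_conj_iff] at hsP'
    have h1 := two s _ hs hsP (by rwa [orderOf_conj'']) hsP'
    obtain ⟨y, hy, hys⟩ := exists_conj_of_odd (sq_of hs) (sq_of (t := g⁻¹ * s * g)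
      (by rwa [orderOf_conj''])) (by
        obtain ⟨k, hk⟩ := pe_of_mem h1
        rw [hk]; exact ((Nat.coprime_primes hp.out Nat.prime_two).2 h.odd).pow_left k)
    have hyP : y ∈ P := zpowers_le.2 h1 hy
    set u := g * y⁻¹ with hu
    have huQ : u ∈ Q := hCs u (by
      calc u * s = u * (y * (g⁻¹ * s * g) * y⁻¹) := by rw [hys]
        _ = _ := by rw [hu]; group)
    have hr : ∀ w, w ∈ g • P → u⁻¹ * w * u ∈ P := fun w hw => by
      have := mul_mem (mul_mem hyP (mem_smul_sylow.1 hw)) (inv_mem hyP)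
      rwa [show y * (g⁻¹ * w * g) * y⁻¹ = u⁻¹ * w * u by rw [hu]; group] at this
    rw [show Finset.bipartiteBelow (fun u t : G => u⁻¹ * (s * t) * u ∈ P)
      ((Q : Subgroup G) : Set G).toFinset t = {u, u * s} from ?_,
      Finset.card_pair (by simpa using ne_one_of hs)]
    ext v
    simp only [Finset.mem_bipartiteBelow, Set.mem_toFinset, Finset.mem_insert,
      Finset.mem_singleton, SetLike.mem_coe]
    constructor
    · rintro ⟨hv, hv'⟩
      have h2 : v⁻¹ * x * v ∈ P := by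
        obtain ⟨n, rfl⟩ := hx
        have := zpow_mem hv' n
        rwa [show (v⁻¹ * (s * t) * v) ^ n = v⁻¹ * (s * t) ^ n * v by
          simpa using conj_zpow (a := v⁻¹) (b := s * t) (i := n)] at this
      have h3 : u • P = v • P :=
        h.uniq hn (mem_smul_sylow.2 h2) (mem_smul_sylow.2 (hr x hP'))
      have h4 : u⁻¹ * v ∈ normalizer ((P : Subgroup G) : Set G) :=
        Sylow.smul_eq_iff_mem_normalizer.1 (by rw [mul_smul, ← h3, inv_smul_smul])
      have h5 : u⁻¹ * v ∈ Q := mul_mem (inv_mem huQ) hv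
      by_cases h6 : u⁻¹ * v = 1
      · exact Or.inl (inv_mul_eq_one.1 h6).symm
      · right
        have h7 := two _ s (h.ord Q h5 h6) h4 hs hsP
        have h8 := (pe_of_mem h7).eq_one h.odd (h.sq Q (mul_mem h5 hsQ))
        rw [← inv_mul_eq_iff_eq_mul, eq_inv_of_mul_eq_one_left h8, inv_eq_self_of_sq (sq_of hs)]
    · rintro (rfl | rfl)
      · exact ⟨huQ, hr _ hst⟩
      · refine ⟨mul_mem huQ hsQ, ?_⟩
        have := conj_mem_of_mem_normalizer' hsP (hr _ hst)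
        rwa [show s⁻¹ * (u⁻¹ * (s * t) * u) * s = (u * s)⁻¹ * (s * t) * (u * s) by group] at this

theorem false : False :=
  h.caseA fun _ _ ht hy hc => by_contra fun h1 => h.caseB ht hy h1 hc

end Hyp

end aux

theorem main.{u} {p q : ℕ} (hp : p.Prime) (hq : q.Prime) (hpq : p ≠ q) (hp2 : p ≠ 2)
    (G : Type u) [Group G] [Finite G] : p ∣ Nat.card G → q ∣ Nat.card G →
    (∀ H : Subgroup G, H ≠ ⊤ → ¬ IsPGroup q H → q ∣ Nat.card H → p ∣ Nat.card H) →
    ((∀ T : Subgroup G, IsPGroup q T → Nat.card T ≤ p) ∨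
      ((∀ T : Subgroup G, IsPGroup q T → Nat.card T ≤ p + 1) ∧
        ∀ P : Subgroup G, IsPGroup p P → ∀ x ∈ P, ∀ y ∈ P, Commute x y)) →
    ∀ r : ℕ, r.Prime → r ∣ Nat.card G → r = p ∨ r = q := by
  haveI := Fact.mk hp
  haveI := Fact.mk hq
  refine card_induction (P := fun G _ _ => p ∣ Nat.card G → q ∣ Nat.card G →
    (∀ H : Subgroup G, H ≠ ⊤ → ¬ IsPGroup q H → q ∣ Nat.card H → p ∣ Nat.card H) →
    ((∀ T : Subgroup G, IsPGroup q T → Nat.card T ≤ p) ∨
      ((∀ T : Subgroup G, IsPGroup q T → Nat.card T ≤ p + 1) ∧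
        ∀ P : Subgroup G, IsPGroup p P → ∀ x ∈ P, ∀ y ∈ P, Commute x y)) →
    ∀ r : ℕ, r.Prime → r ∣ Nat.card G → r = p ∨ r = q) ?_ G
  intro G _ _ ih hpG hqG hmix hl r hr hrG
  by_contra hrn
  push Not at hrn
  haveI := Fact.mk hr
  have ev : ∀ H : Subgroup G, H ≠ ⊤ → q ∣ Nat.card H → ∀ s : ℕ, s.Prime → s ∣ Nat.card H →
      s = p ∨ s = q := fun H hH hqH s hs hd => by
    by_cases hH' : IsPGroup q H
    · obtain ⟨k, hk⟩ := IsPGroup.iff_card.1 hH'
      exact Or.inr ((Nat.prime_dvd_prime_iff_eq hs hq).1 (hs.dvd_of_dvd_pow (hk ▸ hd)))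
    refine ih H (card_lt_of_ne_top hH) (hmix H hH hH' hqH) hqH (fun K _ hK hqK => ?_) ?_ s hs hd
    · rw [← card_map_subtype] at hqK ⊢
      exact hmix _ (fun h => hH (top_le_iff.1 (h ▸ map_subtype_le K)))
        (fun h => hK (h.of_equiv (K.equivMapOfInjective _ H.subtype_injective).symm)) hqK
    · refine hl.imp (fun h T hT => ?_) fun h => ⟨fun T hT => ?_, fun P hP x hx y hy => ?_⟩
      · rw [← card_map_subtype]; exact h _ (hT.map _)
      · rw [← card_map_subtype]; exact h.1 _ (hT.map _)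
      · exact Subtype.ext (h.2 _ (hP.map H.subtype) x (mem_map_of_mem _ hx) y
          (mem_map_of_mem _ hy)).eq
  have mixed : ∀ (s : ℕ) (A B : Subgroup G), s.Prime → s ≠ p → s ≠ q → IsPGroup s A → A ≠ ⊥ →
      IsPGroup q B → B ≠ ⊥ → Nat.card ↥(A ⊔ B) ∣ Nat.card A * Nat.card B → False := by
    intro s A B hs hsp hsq hA hA1 hB hB1 hd
    haveI := Fact.mk hs
    refine (ev (A ⊔ B) (fun h => ?_) ((hB.card_eq_or_dvd.resolve_left fun h =>
      hB1 (card_eq_one.1 h)).trans (card_dvd_of_le le_sup_right)) s hs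
      ((hA.card_eq_or_dvd.resolve_left fun h => hA1 (card_eq_one.1 h)).trans
        (card_dvd_of_le le_sup_left))).elim hsp hsq
    obtain ⟨k, hk⟩ := IsPGroup.iff_card.1 hA
    obtain ⟨l, hl⟩ := IsPGroup.iff_card.1 hB
    rw [h, card_top, hk, hl] at hd
    rcases (Nat.Prime.dvd_mul hp).1 (hpG.trans hd) with h' | h'
    · exact hsp ((Nat.prime_dvd_prime_iff_eq hp hs).1 (hp.dvd_of_dvd_pow h')).symm
    · exact hpq ((Nat.prime_dvd_prime_iff_eq hp hq).1 (hp.dvd_of_dvd_pow h'))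
  obtain ⟨R⟩ : Nonempty (Sylow r G) := inferInstance
  have hR : (R : Subgroup G) ≠ ⊥ := R.ne_bot_of_dvd_card hrG
  have hnq : ¬ HasNormalPComplement q G := fun h => by
    obtain ⟨N, hN, h1, k, h2⟩ := PCompl.hnpc_exists_normal h
    obtain ⟨m, hm⟩ := IsPGroup.iff_card.1 R.isPGroup'
    have hRN : (R : Subgroup G) ≤ N := le_of_coprime_index (by
      rw [hm, h2]; exact Nat.Coprime.pow _ _ ((Nat.coprime_primes hr hq).2 hrn.2))
    have h3 := R.normalizer_sup_eq_top' hRN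
    have h4 := card_sup_dvd_mul (CommCalc.le_normalizer_of_normal' N (normalizer (R : Set G)))
    rw [h3, card_top] at h4
    obtain ⟨⟨y, hy⟩, hyq⟩ := exists_prime_orderOf_dvd_card' q
      ((h1.symm.dvd_mul_right).1 (hqG.trans h4))
    rw [orderOf_mk] at hyq
    refine mixed r R (zpowers y) hr hrn.1 hrn.2 R.isPGroup' hR
      (isPGroup_zpowers_iff.2 ⟨1, by rw [hyq, pow_one]⟩)
      (fun h => hq.one_lt.ne' (by rw [← hyq, zpowers_eq_bot.1 h, orderOf_one])) ?_
    rw [sup_comm, mul_comm]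
    exact card_sup_dvd_mul (zpowers_le.2 hy)
  obtain ⟨T, y, s, k, hT, hT1, hyN, hs, hsq, hyo, hyC⟩ :=
    FrobNPC.exists_not_centralizes_of_not_hnpc hnq
  obtain rfl : p = s := by
    by_contra hsp
    haveI := Fact.mk hs
    exact mixed s (zpowers y) T hs (Ne.symm hsp) hsq (isPGroup_zpowers_iff.2 ⟨k, hyo⟩)
      (fun h => hyC (zpowers_eq_bot.1 h ▸ one_mem _)) hT hT1 (card_sup_dvd_mul (zpowers_le.2 hyN))
  have hc := (orbit (p := p) (hl.elim (fun h => (h T hT).trans (Nat.le_succ p)) fun h => h.1 T hT)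
    ⟨k, hyo⟩ hyN hyC).1
  obtain ⟨hl1, hl2⟩ := hl.resolve_left fun h => by have := h T hT; omega
  obtain rfl : q = 2 := by
    obtain ⟨m, hm⟩ := IsPGroup.iff_card.1 hT
    exact ((Nat.prime_dvd_prime_iff_eq Nat.prime_two hq).1 (Nat.prime_two.dvd_of_dvd_pow
      (hm ▸ hc ▸ (hp.odd_of_ne_two hp2).add_one.two_dvd))).symm
  refine Hyp.false (p := p) (G := G) ⟨hp2, fun H h1 h2 s h3 h4 => (ev H h1 h2 s h3 h4).symm,
    fun N hN hN1 hn => mixed r R N hr hrn.1 hrn.2 R.isPGroup' hR hN hN1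
      (card_sup_dvd_mul (hn ▸ le_top)), fun N hN hN1 hn => ?_, hl2, hl1,
    T, y, hT, ⟨k, hyo⟩, hyN, hyC⟩
  haveI := normalizer_eq_top_iff.1 hn
  obtain ⟨m, hm⟩ := IsPGroup.iff_card.1 hN
  have hcop : ∀ s : ℕ, s.Prime → s ≠ p → s.Coprime (Nat.card N) := fun s hs hsp => by
    rw [hm]; exact ((Nat.coprime_primes hs hp).2 hsp).pow_right m
  have hdq : ∀ s : ℕ, s.Prime → s ≠ p → s ∣ Nat.card G → s ∣ Nat.card (G ⧸ N) := fun s hs hsp hd =>
    ((hcop s hs hsp).dvd_mul_right).1 (card_eq_card_quotient_mul_card_subgroup N ▸ hd)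
  by_cases hpN : p ∣ Nat.card (G ⧸ N)
  · have hf := QuotientGroup.mk'_surjective N
    refine (ih (G ⧸ N) (card_quotient_lt hN1) hpN (hdq 2 hq hpq.symm hqG) (fun H hH hH2 h2 => ?_)
      (Or.inr ⟨fun T hT => ?_, fun P hP x hx y hy => ?_⟩) r hr (hdq r hr hrn.1 hrG)).elim hrn.1 hrn.2
    · by_contra hpH
      refine hH2 (IsPGroup.of_card (Nat.eq_prime_pow_of_unique_prime_dvd Nat.card_pos.ne'
        fun {s} hs hd => ?_))
      have e := card_comap_mk' N H
      refine (ev (H.comap (QuotientGroup.mk' N)) (fun h => hH ?_) (e ▸ h2.mul_right _) s hs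
        (e ▸ hd.mul_right _)).resolve_left (by rintro rfl; exact hpH hd)
      rw [← map_comap_eq_self_of_surjective hf H, h, map_top_of_surjective _ hf]
    · obtain ⟨S, hS⟩ := hT.exists_le_sylow
      obtain ⟨S, rfl⟩ := Sylow.mapSurjective_surjective hf 2 S
      exact (card_le_of_le hS).trans ((Nat.le_of_dvd Nat.card_pos (card_map_dvd _ _)).trans
        (hl1 _ S.isPGroup'))
    · obtain ⟨x, rfl⟩ := hf x
      obtain ⟨y, rfl⟩ := hf y
      exact (hl2 _ (hP.comap_of_ker_isPGroup _ (by rwa [QuotientGroup.ker_mk'])) x hx y hy).map _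
  · obtain ⟨K, hK⟩ := exists_right_complement'_of_coprime (N := N) (by
      rw [hm]; exact ((Nat.Prime.coprime_iff_not_dvd hp).2 hpN).pow_left m)
    have hKc : Nat.card K = Nat.card (G ⧸ N) := hK.symm.index_eq_card.symm
    refine (ev K (fun h => ?_) (hKc ▸ hdq 2 hq hpq.symm hqG) r hr
      (hKc ▸ hdq r hr hrn.1 hrG)).elim hrn.1 hrn.2
    exact hN1 (by simpa [h] using hK.disjoint)


/-- Let G be a finite group and let p and q be distinct primes dividing the order of G, with p odd. Suppose that p divides the order of every proper subgroup of G that is neither a q-group nor of order prime to q. Let q^a be the q-part of the order of G. If p > q^a − 1, or if p = q^a − 1 and the Sylow p-subgroups of G are abelian, then p and q are the only primes dividing the order of G. -/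
theorem result {G : Type*} [Group G] [Finite G]
    {p q : ℕ} (hp : p.Prime) (hq : q.Prime) (hpq : p ≠ q) (hp2 : p ≠ 2)
    (hpG : p ∣ Nat.card G) (hqG : q ∣ Nat.card G)
    (hmix : ∀ H : Subgroup G, H ≠ ⊤ → ¬ IsPGroup q H → q ∣ Nat.card H → p ∣ Nat.card H)
    (hlarge : q ^ (Nat.card G).factorization q - 1 < p ∨
      (p = q ^ (Nat.card G).factorization q - 1 ∧ ∀ P : Sylow p G, IsMulCommutative P)) :
    ∀ r : ℕ, r.Prime → r ∣ Nat.card G → r = p ∨ r = q := by
  haveI := Fact.mk hp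
  haveI := Fact.mk hq
  have key : ∀ T : Subgroup G, IsPGroup q T → Nat.card T ≤ q ^ (Nat.card G).factorization q :=
    fun T hT => by
      obtain ⟨S, hS⟩ := hT.exists_le_sylow
      exact S.card_eq_multiplicity ▸ card_le_of_le hS
  refine main hp hq hpq hp2 G hpG hqG hmix (hlarge.imp (fun h T hT => ?_)
    fun h => ⟨fun T hT => ?_, fun P hP x hx y hy => ?_⟩)
  · have := key T hT; omega
  · have := key T hT; omega
  · obtain ⟨S, hS⟩ := hP.exists_le_sylow
    exact PGrp.isMulCommutative_iff_forall.1 (h.2 S) x (hS hx) y (hS hy)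

end Cfsg.Agent.S4017
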