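import Cfsg.Statements.S4018
import Mathlib
import Cfsg.Agent.Lib.H5Involutions
import Cfsg.Agent.Lib.CoreSolvable
import Cfsg.Agent.Lib.SylowIn

set_option autoImplicit false
open Cfsg

namespace Cfsg.Agent.S4018
open Subgroup CfsgLib CfsgLib.H5

/-- Let G be a finite group with an abelian Sylow 3-subgroup P such that the normalizer of P has order 4·#P, the centralizer C of P has order 2·#P, C meets each of its conjugates by elements outside its normalizer trivially, and every proper subgroup of G of even order has order dividing 4·#P. Then G is not simple. -/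
theorem result {G : Type*} [Group G] [Finite G]
    (P : Sylow 3 G) (hab : IsMulCommutative P)
    (hN : Nat.card (Subgroup.normalizer ((P : Subgroup G) : Set G)) = 4 * Nat.card P)
    (hC : Nat.card (Subgroup.centralizer (P : Set G)) = 2 * Nat.card P)
    (hTI : Cfsg.IsTISubset (Subgroup.centralizer (P : Set G) : Set G))
    (heven : ∀ H : Subgroup G, H ≠ ⊤ → 2 ∣ Nat.card H → Nat.card H ∣ 4 * Nat.card P) :
    ¬ IsSimpleGroup G := by
  intro hs
  set C := centralizer ((P : Subgroup G) : Set G) with hCdef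
  set N := normalizer ((P : Subgroup G) : Set G) with hNdef
  replace hC : Nat.card C = 2 * Nat.card P := hC
  replace hTI : IsTISubset (C : Set G) := hTI
  have hPpos : 0 < Nat.card P := Nat.card_pos
  have hPodd : (Nat.card P).Coprime 2 := by
    obtain ⟨k, hk⟩ := IsPGroup.iff_card.mp P.isPGroup'
    rw [hk]
    exact Nat.Coprime.pow_left k (by norm_num)
  have hna : ¬ IsMulCommutative G := by
    intro h
    have h1 : C = ⊤ := eq_top_iff.mpr fun x _ y _ => h.is_comm.comm y x
    have h2 : N = ⊤ := eq_top_iff.mpr (h1 ▸ centralizer_le_normalizer _)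
    rw [h1] at hC
    rw [h2] at hN
    omega
  have hcomm : commutator G = ⊤ := by
    refine (hs.eq_bot_or_eq_top_of_normal _ inferInstance).resolve_left fun h => hna ?_
    exact (commutator_eq_bot_iff G).mp h
  have hcent : ∀ x : G, x ∈ center G → x = 1 := by
    intro x hx
    rcases hs.eq_bot_or_eq_top_of_normal (center G) inferInstance with h | h
    · rwa [h, mem_bot] at hx
    · exact absurd (center_eq_top_iff.mp h) hna
  have hPC : (P : Subgroup G) ≤ C := fun x hx y hy =>
    congrArg Subtype.val (hab.is_comm.comm ⟨y, hy⟩ ⟨x, hx⟩)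
  have hCN : C ≤ N := centralizer_le_normalizer _
  have hiP : (P : Subgroup G).relIndex C = 2 := by
    have := card_mul_relIndex hPC
    rw [hC, mul_comm] at this
    exact Nat.eq_of_mul_eq_mul_right hPpos this
  have hiC : C.relIndex N = 2 := by
    have := card_mul_relIndex hCN
    rw [hC, hN, show 4 * Nat.card P = 2 * Nat.card P * 2 by ring] at this
    exact Nat.eq_of_mul_eq_mul_left (by omega) this
  have hPone : ∀ y ∈ (P : Subgroup G), y ^ 2 = 1 → y = 1 := fun y hy h2 =>
    orderOf_eq_one_iff.mp (Nat.eq_one_of_dvd_coprimes hPodd (orderOf_dvd_natCard _ hy)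
      (orderOf_dvd_of_pow_eq_one h2))
  have hsq : ∀ s : G, orderOf s = 2 → s ^ 2 = 1 := fun s hs => hs ▸ pow_orderOf_eq_one s
  have hne : ∀ s : G, orderOf s = 2 → s ≠ 1 := fun s hs h => by simp [h] at hs
  obtain ⟨⟨z, hzC⟩, hz⟩ := exists_prime_orderOf_dvd_card' (G := C) 2 (hC ▸ dvd_mul_right _ _)
  rw [orderOf_mk] at hz
  have huniq : ∀ s ∈ C, orderOf s = 2 → s = z := by
    intro s hsC hs2
    have h1 : s * z ∈ (P : Subgroup G) :=
      (mul_mem_iff_of_index_two hiP (a := ⟨s, hsC⟩) (b := ⟨z, hzC⟩)).mpr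
        (iff_of_false (fun h => hne s hs2 (hPone s h (hsq s hs2)))
          (fun h => hne z hz (hPone z h (hsq z hz))))
    have h2 : Commute s (s * z) := (hsC _ h1).symm
    have h3 : Commute s z := by
      have := (Commute.refl s).inv_right.mul_right h2
      rwa [inv_mul_cancel_left] at this
    have h4 := hPone _ h1 (by rw [h3.mul_pow, hsq s hs2, hsq z hz, one_mul])
    rw [mul_eq_one_iff_eq_inv.mp h4, inv_eq_self_of_sq (hsq z hz)]
  have hNC : normalizer (C : Set G) ≤ centralizer ({z} : Set G) := by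
    intro g hg
    rw [mem_centralizer_singleton_iff, ← mul_inv_eq_iff_eq_mul]
    exact huniq _ (conj_mem_of_mem_normalizer hg hzC) ((orderOf_conj' g z).trans hz)
  have hNz : N = centralizer ({z} : Set G) := by
    have h1 : N ≤ centralizer ({z} : Set G) :=
      le_trans (normalizer_le_normalizer_centralizer' _) hNC
    refine eq_of_le_of_card_le h1 (hN ▸ Nat.le_of_dvd (by omega) (heven _ (fun h => ?_) ?_))
    · exact hne z hz (hcent z (mem_center_iff.mpr fun g =>
        mem_centralizer_singleton_iff.mp (h ▸ mem_top g)))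
    · exact hz ▸ orderOf_dvd_natCard _ (mem_centralizer_singleton_iff.mpr rfl)
  have hidx : C.index % 4 = 2 := by
    obtain ⟨S⟩ : Nonempty (Sylow 2 G) := inferInstance
    have h1 : (S : Subgroup G) ≠ ⊤ := by
      intro h
      have h2 : IsPGroup 2 G := (h ▸ S.isPGroup').of_equiv topEquiv
      have := isSolvable_of_isPGroup h2
      exact hna (IsSimpleGroup.comm_iff_isSolvable.mpr this |> fun h => ⟨⟨h⟩⟩)
    have h2 := card_mul_index N
    have h3 : ¬ 2 ∣ N.index := by
      rintro ⟨k, hk⟩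
      have h4 : 2 ^ 3 ∣ Nat.card G := ⟨Nat.card P * k, by rw [← h2, hN, hk]; ring⟩
      have h5 : 2 ^ 3 ∣ Nat.card S := by
        rw [← card_mul_index (S : Subgroup G)] at h4
        exact (Nat.Coprime.pow_left 3 ((Nat.Prime.coprime_iff_not_dvd Nat.prime_two).mpr
          S.not_dvd_index)).dvd_of_dvd_mul_right h4
      have h6 := h5.trans (heven _ h1 ((dvd_pow_self 2 three_ne_zero).trans h5))
      have h7 := (hPodd.symm.pow_left 3).dvd_of_dvd_mul_right h6
      norm_num at h7
    rw [← relIndex_mul_index hCN, hiC]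
    omega
  have hconj : ∀ t : G, orderOf t = 2 → ∃ g : G, g * z * g⁻¹ = t := by
    intro t ht
    obtain ⟨g, hg⟩ := exists_conj_mem_of_index_mod_four hidx (hsq t ht) (hcomm ▸ mem_top t)
    exact ⟨g, by rw [← huniq _ hg ((orderOf_conj'' g t).trans ht)]; group⟩
  have key1 : ∀ s t : G, orderOf s = 2 → orderOf t = 2 → s ≠ t → s * t ∈ (P : Subgroup G) →
      z ≠ s ∧ z ≠ t ∧ Commute s z ∧ Commute t z := by
    intro s t hs2 ht2 hst hx
    have hx1 : s * t ≠ 1 := fun h =>
      hst (by rw [mul_eq_one_iff_eq_inv.mp h, inv_eq_self_of_sq (hsq t ht2)])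
    have h1 : ∀ g : G, g * (s * t) * g⁻¹ = (s * t)⁻¹ → z ≠ g ∧ Commute g z := by
      intro g hg
      refine ⟨?_, ?_⟩
      · rintro rfl
        exact hx1 (hPone _ hx (sq_eq_one_of_inverts_of_centralizes hg
          (mem_centralizer_singleton_iff.mpr (hzC _ hx).symm)))
      · refine mem_centralizer_singleton_iff.mp (hNC ?_)
        by_contra h0
        exact hx1 (hTI g h0 _ (hPC hx) (hg ▸ inv_mem (hPC hx)))
    have h2 := h1 s (inverts_mul_left (hsq s hs2) (hsq t ht2))
    have h3 := h1 t (inverts_mul_right (hsq s hs2) (hsq t ht2))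
    exact ⟨h2.1, h3.1, h2.2, h3.2⟩
  have key2 : ∀ s t a : G, orderOf s = 2 → orderOf t = 2 → a * z * a⁻¹ ≠ s → a * z * a⁻¹ ≠ t →
      Commute s (a * z * a⁻¹) → Commute t (a * z * a⁻¹) → a⁻¹ * (s * t) * a ∈ C := by
    intro s t a hs2 ht2 h1 h2 h3 h4
    have h5 : ∀ w : G, orderOf w = 2 → a * z * a⁻¹ ≠ w → Commute w (a * z * a⁻¹) →
        a⁻¹ * w * a ∈ N ∧ a⁻¹ * w * a ∉ C := by
      intro w hw h1 h2
      refine ⟨hNz ▸ mem_centralizer_singleton_iff.mpr ?_, fun h => h1 ?_⟩
      · calc a⁻¹ * w * a * z = a⁻¹ * (w * (a * z * a⁻¹)) * a := by group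
          _ = _ := by rw [h2.eq]; group
      · rw [← huniq _ h ((orderOf_conj'' a w).trans hw)]; group
    have h6 := h5 s hs2 h1 h3
    have h7 := h5 t ht2 h2 h4
    have h8 : a⁻¹ * s * a * (a⁻¹ * t * a) ∈ C :=
      (mul_mem_iff_of_index_two hiC (a := ⟨_, h6.1⟩) (b := ⟨_, h7.1⟩)).mpr
        (iff_of_false h6.2 h7.2)
    convert h8 using 1
    group
  obtain ⟨v, hv, hvall⟩ := exists_involution_commute_all hz fun s t hs2 ht2 hst => by
    refine existsUnique_of_exists_of_unique ?_ ?_
    · by_cases h2 : 2 ∣ orderOf (s * t)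
      · obtain ⟨u, -, hu⟩ := exists_common_involution_of_even hs2 ht2 h2
        exact ⟨u, hu⟩
      have hodd := ((Nat.Prime.coprime_iff_not_dvd Nat.prime_two).mpr h2).symm
      have h3 : zpowers s ⊔ zpowers (s * t) ≠ ⊤ := by
        intro h
        have h4 := normal_of_le_normalizer_top
          (h ▸ sup_le_normalizer_zpowers_mul (hsq s hs2) (hsq t ht2))
        rcases hs.eq_bot_or_eq_top_of_normal _ h4 with h5 | h5
        · rw [zpowers_eq_bot] at h5
          exact hst (by rw [mul_eq_one_iff_eq_inv.mp h5, inv_eq_self_of_sq (hsq t ht2)])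
        · exact hna ⟨⟨fun a b => commute_of_mem_zpowers (h5 ▸ mem_top a) (h5 ▸ mem_top b)⟩⟩
      have h4 := (orderOf_dvd_natCard _ (mem_sup_right (mem_zpowers (s * t)))).trans
        (heven _ h3 (hs2 ▸ orderOf_dvd_natCard _ (mem_sup_left (mem_zpowers s))))
      have h5 := (hodd.pow_right 2).dvd_of_dvd_mul_left h4
      obtain ⟨k, hk⟩ := IsPGroup.iff_card.mp P.isPGroup'
      obtain ⟨j, -, hj⟩ := (Nat.dvd_prime_pow Nat.prime_three).mp (hk ▸ h5)
      obtain ⟨g, -, hg⟩ := (IsSylowIn.sylow_top P).exists_conj_le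
        (isPGroup_zpowers_iff.mpr ⟨j, hj⟩) le_top
      have h6 := key1 (g * s * g⁻¹) (g * t * g⁻¹) ((orderOf_conj' g s).trans hs2)
        ((orderOf_conj' g t).trans ht2) (fun h => hst (conj_injective h))
        (by rw [conj_mul]; exact hg (conj_mem_map_conj (mem_zpowers _)))
      refine ⟨g⁻¹ * z * g, (orderOf_conj'' g z).trans hz, fun h => h6.1 ?_, fun h => h6.2.1 ?_,
        ?_, ?_⟩
      · rw [← h]; group
      · rw [← h]; group
      · calc s * (g⁻¹ * z * g) = g⁻¹ * (g * s * g⁻¹ * z) * g := by group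
          _ = _ := by rw [h6.2.2.1.eq]; group
      · calc t * (g⁻¹ * z * g) = g⁻¹ * (g * t * g⁻¹ * z) * g := by group
          _ = _ := by rw [h6.2.2.2.eq]; group
    · rintro u u' ⟨hu, h1, h2, h3, h4⟩ ⟨hu', h1', h2', h3', h4'⟩
      obtain ⟨a, rfl⟩ := hconj u hu
      obtain ⟨b, rfl⟩ := hconj u' hu'
      have h5 := key2 s t a hs2 ht2 h1 h2 h3 h4
      have h6 := key2 s t b hs2 ht2 h1' h2' h3' h4'
      have h7 : b⁻¹ * a ∈ normalizer (C : Set G) := by
        by_contra h0
        have h8 := hTI _ h0 _ h5 (by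
          rw [show b⁻¹ * a * (a⁻¹ * (s * t) * a) * (b⁻¹ * a)⁻¹ = b⁻¹ * (s * t) * b by group]
          exact h6)
        have h9 : s * t = 1 := by
          calc s * t = a * (a⁻¹ * (s * t) * a) * a⁻¹ := by group
            _ = 1 := by rw [h8]; group
        exact hst (by rw [mul_eq_one_iff_eq_inv.mp h9, inv_eq_self_of_sq (hsq t ht2)])
      have h8 := mem_centralizer_singleton_iff.mp (hNC h7)
      calc a * z * a⁻¹ = b * (b⁻¹ * a * z) * a⁻¹ := by group
        _ = _ := by rw [h8]; group
  have h1 : normalClosure ({v} : Set G) ≤ centralizer ({v} : Set G) := by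
    rw [normalClosure, closure_le]
    intro w hw
    obtain ⟨v', hv', hw'⟩ := Group.mem_conjugatesOfSet_iff.mp hw
    rw [Set.mem_singleton_iff.mp hv'] at hw'
    obtain ⟨g, rfl⟩ := isConj_iff.mp hw'
    exact mem_centralizer_singleton_iff.mpr (hvall _ ((orderOf_conj' g _).trans hv)).eq.symm
  rcases hs.eq_bot_or_eq_top_of_normal (normalClosure ({v} : Set G)) inferInstance with h | h
  · exact hne v hv (mem_bot.mp (h ▸ subset_normalClosure rfl))
  · exact hne v hv (hcent v (mem_center_iff.mpr fun g =>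
      mem_centralizer_singleton_iff.mp (h1 (h ▸ mem_top g))))

end Cfsg.Agent.S4018
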