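import Cfsg.Statements.S4047
import Cfsg.Agent.Lib.GD.PiHom
import Cfsg.Agent.Lib.GD.Main
import Cfsg.Agent.Lib.WApp.TwoTrans

set_option autoImplicit false
open Cfsg

namespace Cfsg.Agent.S4047

/-- Let π be a set of odd primes and G a finite group whose Sylow 2-subgroups are dihedral or abelian. If N_G(H)/C_G(H) is a π-group for every nontrivial π-subgroup H of G, then the π'-elements of G form a subgroup. -/
theorem result {G : Type*} [Group G] [Finite G] (π : Set ℕ)
    (hodd : ∀ p ∈ π, p.Prime ∧ p ≠ 2) (h2 : ∀ S : Sylow 2 G, IsMulCommutative S ∨ ∃ n : ℕ, Nonempty ((S : Subgroup G) ≃* DihedralGroup n))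
    (hhom : (∀ H : Subgroup G, H ≠ ⊥ → (∀ p : ℕ, p.Prime → p ∣ Nat.card ↥H → p ∈ π) →
        ∀ p : ℕ, p.Prime → p ∣ (Subgroup.centralizer (H : Set G)).relIndex (Subgroup.normalizer (H : Set G)) → p ∈ π)) :
    (∃ K : Subgroup G, ∀ x : G, x ∈ K ↔ ∀ p : ℕ, p.Prime → p ∣ orderOf x → p ∉ π) := by
  open Subgroup CfsgLib CfsgLib.GD CfsgLib.GD.PH in
  refine H5.piClosed_of_piSep (π := πᶜ) (PiSep.compl (Hom.piSep (fun e => (hodd 2 e).2 rfl)
    (fun X _ _ => GD.main X) G (fun p hp hπ X hX g hg ho => ?_) ?_))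
    fun H hH h1 p hp hd e => e (hhom H hH (fun r hr h => not_not.1 (h1 r hr h)) p hp hd)
  · by_cases hb : X = ⊥
    · subst hb
      exact mem_centralizer_iff.mpr fun x hx => by rw [mem_bot.mp hx, one_mul, mul_one]
    · letI := Fintype.ofFinite G
      have := Fact.mk hp
      obtain ⟨n, hn⟩ := IsPGroup.iff_card.1 hX
      exact FT.mem_of_coprime_relIndex (H5.normalizer_le_normalizer_centralizer' X) hg
        (IsPiNum.coprime_compl (hhom X hb (hn ▸ (isPiNum_prime hp hπ).pow n)) ho).symm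
  · by_cases h : ∃ S : Sylow 2 G, IsMulCommutative S
    · exact Or.inl (WApp.abTwo_of_sylow _ h.choose_spec)
    · exact Or.inr (dih_of_sylow fun S => by
        obtain ⟨n, ⟨e⟩⟩ := (h2 S).resolve_left fun e => h ⟨S, e⟩
        exact (dih_dihedral n).of_injective e.toMonoidHom e.injective)

end Cfsg.Agent.S4047
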