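import Cfsg.Statements.S4078
import Cfsg.Agent.Lib.H8TwoGen
import Cfsg.Agent.Lib.H5Involutions

set_option autoImplicit false
open Cfsg

namespace Cfsg.Agent.S4078

open Subgroup CfsgLib in
/-- For an element x of a finite group G let Sol(x) be the set of y ∈ G such that x and y generate a solvable subgroup. Then G is solvable if and only if Sol(x) is (the carrier of) a subgroup of G for every x ∈ G. -/
theorem result {G : Type*} [Group G] [Finite G] :
    Group.IsSolvable G ↔ ∀ x : G, ∃ H : Subgroup G, (H : Set G) = {y : G | Group.IsSolvable ↥(Subgroup.closure ({x, y} : Set G))} := by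
  refine ⟨fun h x => ⟨⊤, Set.ext fun y => ⟨fun _ => (inferInstance : Group.IsSolvable _),
    fun _ => mem_top y⟩⟩, ?_⟩
  refine H8TwoGen.solvable_of_hereditary (fun G _ => ∀ x : G, ∃ H : Subgroup G,
    (H : Set G) = {y : G | Group.IsSolvable ↥(Subgroup.closure ({x, y} : Set G))})
    (fun X _ _ hX K x => ?_) (fun X _ _ hX N _ hN x => ?_) (fun X _ _ hX h1 h2 => ?_) G
  · obtain ⟨H, hH⟩ := hX x
    refine ⟨H.subgroupOf K, Set.ext fun y => ?_⟩
    rw [Set.mem_setOf_eq, H8TwoGen.isSolvable_closure_pair_coe]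
    exact Set.ext_iff.mp hH y
  · obtain ⟨x, rfl⟩ := QuotientGroup.mk_surjective x
    obtain ⟨H, hH⟩ := hX x
    refine ⟨H.map (QuotientGroup.mk' N), Set.ext fun y => ?_⟩
    constructor
    · rintro ⟨y, hy, rfl⟩
      exact (H8TwoGen.isSolvable_closure_pair_mk hN x y).mpr ((Set.ext_iff.mp hH y).mp hy)
    · obtain ⟨y, rfl⟩ := QuotientGroup.mk_surjective y
      exact fun hy => ⟨y, (Set.ext_iff.mp hH y).mpr
        ((H8TwoGen.isSolvable_closure_pair_mk hN x y).mp hy), rfl⟩
  · by_contra hns
    have : Fact (Nat.Prime 2) := ⟨Nat.prime_two⟩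
    obtain ⟨t, ht⟩ := exists_prime_orderOf_dvd_card' (G := X) 2 (H8FT.two_dvd_of_not_solvable hns)
    have hI : normalClosure ({t} : Set X) = ⊤ := (h2 _ inferInstance).resolve_left fun h0 => by
      have : t ∈ normalClosure ({t} : Set X) := subset_normalClosure rfl
      rw [h0, mem_bot] at this
      rw [this, orderOf_one] at ht
      omega
    have key : ∀ x : X, (∀ s : X, orderOf s = 2 → Group.IsSolvable (closure {x, s})) →
        ∀ y : X, Group.IsSolvable (closure {x, y}) := by
      intro x hx y
      obtain ⟨H, hH⟩ := hX x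
      have h3 : normalClosure ({t} : Set X) ≤ H := (closure_le _).mpr fun s hs => by
        obtain ⟨t', ht', hs'⟩ := Group.mem_conjugatesOfSet_iff.mp hs
        rw [Set.mem_singleton_iff.mp ht'] at hs'
        obtain ⟨c, rfl⟩ := isConj_iff.mp hs'
        exact (Set.ext_iff.mp hH _).mpr (hx _ (by rw [H5.orderOf_conj', ht]))
      exact (Set.ext_iff.mp hH y).mp (h3 (hI ▸ mem_top y))
    have h4 : ∀ s u : X, orderOf s = 2 → orderOf u = 2 → Group.IsSolvable (closure {s, u}) := by
      intro s u hs hu
      have hs2 : s ^ 2 = 1 := hs ▸ pow_orderOf_eq_one s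
      have hu2 : u ^ 2 = 1 := hu ▸ pow_orderOf_eq_one u
      refine isSolvable_of_le (isSolvable_sup (H := zpowers s) (N := zpowers (s * u))
        (le_sup_left.trans (H5.sup_le_normalizer_zpowers_mul hs2 hu2))
        isSolvable_of_isMulCommutative isSolvable_of_isMulCommutative) ((closure_le _).mpr ?_)
      rintro _ (rfl | rfl)
      · exact mem_sup_left (mem_zpowers _)
      · simpa using mul_mem (inv_mem (mem_sup_left (mem_zpowers s)))
          (mem_sup_right (mem_zpowers _) : _ ∈ zpowers s ⊔ zpowers (s * _))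
    refine hns (H8TwoGen.solvable_of_min h1 h2 fun x => key x fun s hs => ?_)
    rw [Set.pair_comm]
    exact key s (fun u hu => h4 s u hs hu) x

end Cfsg.Agent.S4078
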