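import Cfsg.Statements.S4113
import Cfsg.Agent.Lib.FrobBasic

set_option autoImplicit false
open Cfsg

namespace Cfsg.Agent.S4113

open CfsgLib CfsgLib.Frob Subgroup in

/-- Let G be a finite group, M ≤ N non-trivial proper normal subgroups, and H a subgroup with HM = G and H ∩ M = 1. Then every element of G outside N acts fixed-point-freely on M (C_G(x) ≤ N for every x ∈ M, x ≠ 1) if and only if H ∩ gHg⁻¹ ≤ H ∩ N for every g outside H, with H proper and non-trivial and H ∩ N proper in H. -/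
theorem result {G : Type*} [Group G] [Finite G] (N M : Subgroup G) [N.Normal] [M.Normal] (hMN : M ≤ N) (hM1 : M ≠ ⊥) (hN2 : N ≠ ⊤)
    (H : Subgroup G) (hHM : H ⊔ M = ⊤) (hHM' : H ⊓ M = ⊥) :
    (∀ x ∈ M, x ≠ 1 → Subgroup.centralizer ({x} : Set G) ≤ N) ↔
      (H ≠ ⊥ ∧ H ≠ ⊤ ∧ H ⊓ N < H ∧ ∀ g : G, g ∉ H → H ⊓ H.map (MulAut.conj g).toMonoidHom ≤ N) := by
  have hdec : ∀ g : G, ∃ m ∈ M, ∃ h ∈ H, m * h = g := by
    intro g
    have : g ∈ M ⊔ H := by rw [sup_comm, hHM]; trivial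
    rw [← SetLike.mem_coe, normal_mul] at this
    obtain ⟨m, hm, h, hh, e⟩ := this
    exact ⟨m, hm, h, hh, e⟩
  have hdisj : ∀ x, x ∈ H → x ∈ M → x = 1 := fun x h1 h2 => by
    have : x ∈ H ⊓ M := ⟨h1, h2⟩
    rwa [hHM', mem_bot] at this
  have hMn : M.Normal := inferInstance
  have hNn : N.Normal := inferInstance
  constructor
  · intro hc
    have hlt : H ⊓ N < H := by
      refine lt_of_le_of_ne inf_le_left fun e => hN2 ?_
      rw [eq_top_iff, ← hHM]
      exact sup_le (e ▸ inf_le_right) hMN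
    refine ⟨fun e => ?_, fun e => ?_, hlt, fun g hg y hy => ?_⟩
    · rw [e] at hlt; exact not_lt_bot hlt
    · rw [e, top_inf_eq] at hHM'; exact hM1 hHM'
    · obtain ⟨hyH, hy⟩ := hy
      obtain ⟨m, hm, h, hh, rfl⟩ := hdec g
      obtain ⟨z, hz, e⟩ := hy
      have hm1 : m ≠ 1 := by
        rintro rfl
        exact hg (by simpa using hh)
      have e' : y = m * (h * z * h⁻¹) * m⁻¹ := by
        rw [← e]; simp [mul_assoc]
      have hz' : h * z * h⁻¹ ∈ H := H.mul_mem (H.mul_mem hh hz) (H.inv_mem hh)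
      generalize h * z * h⁻¹ = w at e' hz'
      have h1 : y * w⁻¹ = 1 := by
        refine hdisj _ (H.mul_mem hyH (H.inv_mem hz')) ?_
        have : y * w⁻¹ = m * (w * m⁻¹ * w⁻¹) := by rw [e']; group
        rw [this]
        exact M.mul_mem hm (hMn.conj_mem _ (M.inv_mem hm) w)
      have h2 : y = w := mul_inv_eq_one.mp h1
      refine hc m hm hm1 (mem_centralizer_singleton_iff.mpr ?_)
      rw [← h2] at e'
      calc y * m = m * y * m⁻¹ * m := by rw [← e']
        _ = m * y := by group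
  · rintro ⟨-, -, -, hc⟩ x hx hx1 g hg
    by_contra hgN
    obtain ⟨m, hm, h, hh, rfl⟩ := hdec g
    have hhN : h ∉ N := fun h' => hgN (N.mul_mem (hMN hm) h')
    have hf : ∀ k ∈ M, h * k = k * h → k = 1 := by
      intro k hk e
      by_contra hk1
      refine hhN (hc k (fun hkH => hk1 (hdisj k hkH hk)) ⟨hh, h, hh, ?_⟩)
      simp [← e]
    obtain ⟨y, hy, e⟩ := exists_conj_eq_mul_of_fpf (fun k hk => hMn.conj_mem k hk h) hf hm
    have hg' := mem_centralizer_singleton_iff.mp hg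
    rw [← e] at hg'
    have := hf (y⁻¹ * x * y) (by simpa using hMn.conj_mem x hx y⁻¹) (by
      calc h * (y⁻¹ * x * y) = y⁻¹ * (y * h * y⁻¹ * x) * y := by group
        _ = y⁻¹ * (x * (y * h * y⁻¹)) * y := by rw [hg']
        _ = y⁻¹ * x * y * h := by group)
    apply hx1
    calc x = y * (y⁻¹ * x * y) * y⁻¹ := by group
      _ = 1 := by rw [this]; group

end Cfsg.Agent.S4113
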