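import Cfsg.Statements.S4132
import Cfsg.Agent.Lib.SF.Solv
import Cfsg.Agent.Lib.IG.MainA
import Cfsg.Agent.Lib.IG.Rank
import Cfsg.Agent.Lib.IG.CitBig

set_option autoImplicit false
open Cfsg

namespace Cfsg.Agent.S4132

/-- Let G be a finite group in which every element of prime-power order has a conjugacy class of square-free size. Then G is supersolvable, its third derived subgroup is trivial, G/F(G) is abelian of square-free exponent (a direct product of elementary abelian groups), and the derived subgroup of F(G) has square-free order. -/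
theorem result {G : Type*} [Group G] [Finite G]
    (h : ∀ x : G, (∃ (r : ℕ) (k : ℕ), r.Prime ∧ orderOf x = r ^ k) → Squarefree (Subgroup.centralizer ({x} : Set G)).index) :
    Cfsg.IsSupersolvable G ∧ derivedSeries G 3 = ⊥ ∧
    (∀ _h : (Cfsg.fittingSubgroup G).Normal, IsMulCommutative (G ⧸ Cfsg.fittingSubgroup G) ∧ Squarefree (Monoid.exponent (G ⧸ Cfsg.fittingSubgroup G))) ∧
    Squarefree (Nat.card (commutator ↥(Cfsg.fittingSubgroup G))) := by
  exact CfsgLib.SFSolv.SqF.conclusion' (CfsgLib.IG.not_sq_of fun _ _ _ hs hna hI hT =>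
    CfsgLib.IG.false_of_simple_of hs hna hT (CfsgLib.IG.rank hs hna hI)
      fun _ _ hb => CfsgLib.IG.big_four hb) h

end Cfsg.Agent.S4132
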