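import Cfsg.Statements.S4146
import Mathlib
import Cfsg.Agent.Lib.H5FourClsB

set_option autoImplicit false
open Cfsg

namespace Cfsg.Agent.S4146
open Subgroup CfsgLib CfsgLib.H5 CfsgLib.H5.TwoCls

/-- Let G be a finite group whose conjugacy class sizes are exactly 1, n, m and nm for coprime integers n, m > 1. Then G is nilpotent and n and m are prime powers. -/
theorem result {G : Type*} [Group G] [Finite G] (n m : ℕ) (hn : 1 < n) (hm : 1 < m) (hcop : n.Coprime m)
    (h : Set.range (fun x : G => (Subgroup.centralizer ({x} : Set G)).index) = ({1, n, m, n * m} : Set ℕ)) :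
    Group.IsNilpotent G ∧ IsPrimePow n ∧ IsPrimePow m := by
  have h1 : ∀ k ∈ ({1, n, m, n * m} : Set ℕ), ∃ x : G, (centralizer ({x} : Set G)).index = k :=
    fun k hk => h.ge hk
  have H : Four G n m := ⟨hn, hm, hcop, fun g => h.le ⟨g, rfl⟩⟩
  obtain ⟨x₀, hx₀⟩ := h1 n (by simp)
  obtain ⟨y₀, hy₀⟩ := h1 m (by simp)
  obtain ⟨w, hw⟩ := h1 (n * m) (by simp)
  obtain ⟨x, s, i, hs, hi, hx⟩ := H.exists_primePow hx₀
  obtain ⟨y, r, j, hr, hj, hy⟩ := H.symm.exists_primePow hy₀
  by_contra hcon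
  have b1 : ∀ (u : G) (c k : ℕ), c.Prime → orderOf u = c ^ k →
      (centralizer ({u} : Set G)).index = m → c ∣ n := fun u c k hc hk hu => by
    by_contra h2
    exact hcon (H.of_good hc hs hu hk h2 hx hi)
  have b2 : ∀ (u : G) (c k : ℕ), c.Prime → orderOf u = c ^ k →
      (centralizer ({u} : Set G)).index = n → c ∣ m := fun u c k hc hk hu => by
    by_contra h2
    have := H.symm.of_good hc hr hu hk h2 hy hj
    exact hcon ⟨this.1, this.2.2, this.2.1⟩
  have hd := (relIndex_center_mul w).symm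
  rw [hw] at hd
  have hd' := hd.trans (congrArg _ (mul_comm n m))
  have hc0 : ∀ c : ℕ, c.Prime → c ∣ n → ¬ c ∣ m := fun c hc h2 h3 =>
    hc.one_lt.ne' (Nat.eq_one_of_dvd_coprimes hcop h2 h3)
  have hrm := hc0 r hr (b1 y r j hr hj hy)
  have hsn : ¬ s ∣ n := fun h2 => hc0 s hs h2 (b2 x s i hs hi hx)
  obtain ⟨c, hc, hcd⟩ := Nat.exists_prime_and_dvd
    (n := (center G).relIndex (centralizer {w})) fun e => by
      rw [Frob.index_centralizer_eq_one_iff.2
        (relIndex_eq_one.1 e (mem_centralizer_singleton_iff.2 rfl))] at hw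
      nlinarith
  have h2 : r ∣ (center G).relIndex (centralizer {w}) := by
    by_cases hcn : c ∣ n
    · exact (H.of_bad hd b1 hr hy hj hs
        (H.symm.of_bad hd' b2 hs hx hi hc hcd (hc0 c hc hcn)).2 hsn).2
    · exact (H.of_bad hd b1 hr hy hj hc hcd hcn).2
  have h3 := H.symm.of_bad hd' b2 hs hx hi hr h2 hrm
  have h4 := H.of_bad hd b1 hr hy hj hs h3.2 hsn
  exact Bad.false (p := r) (q := s) ⟨H, hr, hs, h4.1, h3.1, H.exists_of_dvd hd hr h2,
    H.exists_of_dvd hd hs h3.2, fun z k hk e => hrm (b2 z r k hr hk e),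
    fun z k hk e => hsn (b1 z s k hs hk e)⟩ hi hx hj hy

end Cfsg.Agent.S4146
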