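import Cfsg.Statements.S4165
import Cfsg.Agent.Lib.TZ.Cl3
import Cfsg.Agent.Lib.TZ.Thm7

set_option autoImplicit false
open Cfsg

namespace Cfsg.Agent.S4165

/-- Let the finite group A act on the finite group G by automorphisms with the orders of A and G coprime. Suppose the A-invariant conjugacy classes of G of size greater than 1 can be split into two non-empty families such that the size of any class in the first family is coprime to the size of any class in the second. Then G is solvable. -/
theorem result {G A : Type*} [Group G] [Finite G] [Group A] [Finite A]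
    [MulDistribMulAction A G] (hcop : (Nat.card A).Coprime (Nat.card G))
    (X Y : Set (ConjClasses G)) (hX : X.Nonempty) (hY : Y.Nonempty)
    (hcover : ∀ C : ConjClasses G, (1 < Nat.card C.carrier ∧ ∀ a : A, ∀ g ∈ C.carrier, a • g ∈ C.carrier) ↔ (C ∈ X ∨ C ∈ Y))
    (hsplit : ∀ C ∈ X, ∀ D ∈ Y, (Nat.card C.carrier).Coprime (Nat.card D.carrier)) :
    Group.IsSolvable G := by
  exact CfsgLib.TZ.Cl.split_solvable CfsgLib.TZ.thm7 hcop X Y hX hY hcover hsplit

end Cfsg.Agent.S4165
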