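import Cfsg.Statements.S4190
import Cfsg.Agent.Lib.SLin.Zp

set_option autoImplicit false
open Cfsg

namespace Cfsg.Agent.S4190

/-- Let G be a finite solvable group and p a prime dividing the index of the Fitting subgroup of G. Then the number of conjugacy classes of G is at least p/(3·log₂ p). -/
theorem result {G : Type*} [Group G] [Finite G] (hG : Group.IsSolvable G) (p : ℕ) [Fact p.Prime] (hp : p ∣ (Cfsg.fittingSubgroup G).index) : (p : ℝ) / (3 * Real.logb 2 p) ≤ Nat.card (ConjClasses G) := by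
  have hpp : p.Prime := Fact.out
  obtain ⟨j, h1, h2⟩ : ∃ j, 2 ^ j ≤ p ^ 3 ∧ p ≤ Nat.card (ConjClasses G) * j := by
    by_cases h : 11 ≤ p
    · exact CfsgLib.SLin.fit_bound hpp h G hG hp
    · refine ⟨p + 1, ?_, le_trans (Nat.le_succ p) (Nat.le_mul_of_pos_left _ Nat.card_pos)⟩
      push Not at h
      interval_cases p <;> first | decide | exact absurd hpp (by decide)
  have h3 : (1 : ℝ) < p := by exact_mod_cast hpp.one_lt
  have h4 : (j : ℝ) ≤ 3 * Real.logb 2 p := by
    have h5 : ((2 : ℝ) ^ j) ≤ (p : ℝ) ^ 3 := by exact_mod_cast h1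
    have h6 := Real.logb_le_logb_of_le one_lt_two (by positivity) h5
    rwa [Real.logb_pow, Real.logb_pow, Real.logb_self_eq_one one_lt_two, mul_one] at h6
  rw [div_le_iff₀ (mul_pos three_pos (Real.logb_pos one_lt_two h3))]
  refine le_trans ?_ (mul_le_mul_of_nonneg_left h4 (Nat.cast_nonneg _))
  exact_mod_cast h2

end Cfsg.Agent.S4190
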