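import Cfsg.Statements.S4194
import Cfsg.Agent.Lib.CaminaHerzog

set_option autoImplicit false
open Cfsg

namespace Cfsg.Agent.S4194

/-- A finite group G has commutative Sylow 2-subgroups if and only if every 2-element of G (element of order a power of 2) is 2-central, that is, its centralizer contains a Sylow 2-subgroup of G. -/
theorem result {G : Type*} [Group G] [Finite G] (P : Sylow 2 G) :
    IsMulCommutative (P : Subgroup G) ↔ ∀ x : G, (∃ k : ℕ, orderOf x = 2 ^ k) → (∃ Q : Sylow 2 G, (Q : Subgroup G) ≤ Subgroup.centralizer ({x} : Set G)) := by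
  have := Fact.mk Nat.prime_two
  constructor
  · intro h x hx
    obtain ⟨Q, hQ⟩ := CfsgLib.exists_sylow_mem_of_orderOf hx.choose_spec
    obtain ⟨g, rfl⟩ := MulAction.exists_smul_eq G P Q
    refine ⟨g • P, fun y hy => Subgroup.mem_centralizer_singleton_iff.2 ?_⟩
    obtain ⟨a, ha, rfl⟩ := hQ
    obtain ⟨b, hb, rfl⟩ := hy
    have := CfsgLib.PGrp.isMulCommutative_iff_forall.1 h b hb a ha
    exact (Commute.map this (MulAut.conj g)).eq
  · intro h
    refine CfsgLib.CaminaHerzog.camina_herzog G (fun x hx hd => ?_) P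
    obtain ⟨Q, hQ⟩ := h x hx
    exact Q.not_dvd_index (hd.trans (Subgroup.index_dvd_of_le hQ))

end Cfsg.Agent.S4194
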