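import Cfsg.Statements.S4343
import Cfsg.Agent.Lib.H9SylowNum
import Cfsg.Agent.Lib.PGroupBasic
import Cfsg.Agent.Lib.CorePi

set_option autoImplicit false
open Cfsg

namespace Cfsg.Agent.S4343

open Subgroup CfsgLib CfsgLib.H9

section
variable {G : Type*} [Group G] [Finite G] {p : ℕ} [hp : Fact p.Prime]

theorem card_inf_mul (hn : Nat.card (Sylow p G) < p ^ 2) {P Q : Sylow p G} (h : P ≠ Q) :
    Nat.card ((P : Subgroup G) ⊓ Q : Subgroup G) * p = Nat.card (P : Subgroup G) := by
  have h1 := ClassCount.relIndex_le_index (normalizer ((Q : Subgroup G) : Set G)) (P : Subgroup G)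
  rw [← card_sylow_eq_index Q, ← inf_relIndex_right, inf_comm,
    show (P : Subgroup G) ⊓ normalizer ((Q : Subgroup G) : Set G) = (P : Subgroup G) ⊓ Q from
      P.isPGroup'.inf_normalizer_sylow Q] at h1
  obtain ⟨k, hk⟩ := IsPGroup.iff_card.1 P.isPGroup'
  obtain ⟨e, -, he⟩ : ∃ e ≤ k, ((P : Subgroup G) ⊓ Q).relIndex P = p ^ e :=
    (Nat.dvd_prime_pow hp.out).1 (by rw [← hk]; exact relIndex_dvd_card _ _)
  have h2 : e < 2 := by
    rw [he] at h1
    exact (Nat.pow_lt_pow_iff_right hp.out.one_lt).1 (h1.trans_lt hn)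
  have h3 : e ≠ 0 := by
    rintro rfl
    rw [pow_zero, relIndex_eq_one, le_inf_iff] at he
    exact h (Sylow.ext (P.is_maximal' Q.isPGroup' he.2).symm)
  obtain rfl : e = 1 := by omega
  rw [← card_mul_relIndex (inf_le_left : (P : Subgroup G) ⊓ Q ≤ P), he, pow_one]

theorem eq_inf (hn : Nat.card (Sylow p G) < p ^ 2) {P Q R T : Sylow p G} (h : P ≠ Q) (h' : R ≠ T)
    (h1 : (P : Subgroup G) ⊓ Q ≤ R) (h2 : (P : Subgroup G) ⊓ Q ≤ T) :
    (P : Subgroup G) ⊓ Q = (R : Subgroup G) ⊓ T := by
  refine eq_of_le_of_card_le (le_inf h1 h2) (le_of_eq ?_)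
  refine Nat.eq_of_mul_eq_mul_right hp.out.pos ?_
  rw [card_inf_mul hn h, card_inf_mul hn h', P.card_eq_multiplicity, R.card_eq_multiplicity]

theorem succ_le_ncard {P Q : Sylow p G} (h : P ≠ Q) :
    p + 1 ≤ {T : Sylow p G | (P : Subgroup G) ⊓ Q ≤ T}.ncard := by
  have hD : IsPGroup p ((P : Subgroup G) ⊓ Q : Subgroup G) := P.isPGroup'.to_le inf_le_left
  have h1 := hD.card_modEq_card_fixedPoints (Sylow p G)
  have h2 : MulAction.fixedPoints ((P : Subgroup G) ⊓ Q : Subgroup G) (Sylow p G) =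
      {T : Sylow p G | (P : Subgroup G) ⊓ Q ≤ T} := by
    ext T
    exact hD.sylow_mem_fixedPoints_iff
  rw [h2, Nat.card_coe_set_eq] at h1
  have h3 := h1.symm.trans (card_sylow_modEq_one p G)
  have h4 : 1 < {T : Sylow p G | (P : Subgroup G) ⊓ Q ≤ T}.ncard :=
    (Set.one_lt_ncard (Set.toFinite _)).2 ⟨P, (inf_le_left : (P : Subgroup G) ⊓ Q ≤ P), Q, (inf_le_right : (P : Subgroup G) ⊓ Q ≤ Q), h⟩
  have h5 := Nat.le_of_dvd (by omega) ((Nat.modEq_iff_dvd' h4.le).1 h3.symm)
  omega

theorem inf_le_sylow (hn : Nat.card (Sylow p G) < p ^ 2) {P Q : Sylow p G} (h : P ≠ Q)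
    (R : Sylow p G) : (P : Subgroup G) ⊓ Q ≤ R := by
  classical
  by_contra hR
  have := Fintype.ofFinite (Sylow p G)
  let L : Sylow p G → Sylow p G → Finset (Sylow p G) := fun A B =>
    Finset.univ.filter fun T => (A : Subgroup G) ⊓ B ≤ T
  have hL : ∀ A B, A ≠ B → p + 1 ≤ (L A B).card := by
    intro A B hAB
    have := succ_le_ncard hAB
    rwa [Set.ncard_eq_toFinset_card', Set.toFinset_ofPred] at this
  have hRT : ∀ T ∈ L P Q, R ≠ T := by
    rintro T hT rfl
    exact hR (Finset.mem_filter.1 hT).2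
  have hdisj : ((L P Q : Finset _) : Set (Sylow p G)).PairwiseDisjoint
      fun T => (L R T).erase R := by
    intro T hT T' hT' hne
    rw [Function.onFun, Finset.disjoint_left]
    intro U hU hU'
    rw [Finset.mem_erase, Finset.mem_filter] at hU hU'
    have e1 := eq_inf hn (hRT T hT) hU.1.symm inf_le_left hU.2.2
    have e2 := eq_inf hn (hRT T' hT') hU.1.symm inf_le_left hU'.2.2
    have e3 := eq_inf hn h hne (Finset.mem_filter.1 hT).2 (Finset.mem_filter.1 hT').2
    have e4 := eq_inf hn (hRT T hT) hne inf_le_right (by rw [e1, ← e2]; exact inf_le_right)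
    apply hR
    rw [e3, ← e4]
    exact inf_le_left
  have h1 := Finset.card_biUnion hdisj
  have h2 : ((L P Q).biUnion fun T => (L R T).erase R).card ≤ Fintype.card (Sylow p G) :=
    Finset.card_le_univ _
  have h3 : (L P Q).card * p ≤ ∑ T ∈ L P Q, ((L R T).erase R).card := by
    rw [← smul_eq_mul]
    refine Finset.card_nsmul_le_sum _ _ _ fun T hT => ?_
    have := hL R T (hRT T hT)
    have := Finset.pred_card_le_card_erase (s := L R T) (a := R)
    omega
  have h4 := hL P Q h
  rw [Nat.card_eq_fintype_card] at hn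
  nlinarith [hp.out.pos]

end

/-- Let S be a finite non-abelian simple group and p a prime dividing its order. If S has fewer than p² Sylow p-subgroups, then its Sylow p-subgroups have order p. -/
theorem result {S : Type*} [Group S] [Finite S]
    [IsSimpleGroup S] (hS : ¬ IsMulCommutative S) (p : ℕ) [Fact p.Prime] (hp : p ∣ Nat.card S)
    (hn : Nat.card (Sylow p S) < p ^ 2) (P : Sylow p S) : Nat.card P = p := by
  have hp' : p.Prime := Fact.out
  have h0 : pCore p S = ⊥ := by
    rcases (inferInstance : (pCore p S).Normal).eq_bot_or_eq_top with h | h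
    · exact h
    · exfalso
      have hP := pCore_eq_top_iff.1 h
      have := hP.center_nontrivial
      rw [Subgroup.nontrivial_iff_ne_bot] at this
      rcases (inferInstance : (center S).Normal).eq_bot_or_eq_top with h | h
      · exact this h
      · apply hS
        refine PGrp.isMulCommutative_iff_forall'.2 fun a b => ?_
        have : b ∈ center S := by rw [h]; trivial
        exact mem_center_iff.1 this a
  have : ∃ Q : Sylow p S, P ≠ Q := by
    by_contra hcon
    push Not at hcon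
    apply P.ne_bot_of_dvd_card hp
    rw [eq_bot_iff, ← h0, pCore_eq_iInf_sylow]
    exact le_iInf fun Q => by rw [hcon Q]
  obtain ⟨Q, hQ⟩ := this
  have h1 : (P : Subgroup S) ⊓ Q = ⊥ := by
    rw [eq_bot_iff, ← h0, pCore_eq_iInf_sylow]
    exact le_iInf fun R => inf_le_sylow hn hQ R
  have h2 := card_inf_mul hn hQ
  rw [h1, card_bot, one_mul] at h2
  exact h2.symm

end Cfsg.Agent.S4343
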