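import Cfsg.Statements.S4236
import Cfsg.Agent.Lib.SylowAction
import Cfsg.Agent.S4343

set_option autoImplicit false
open Cfsg

namespace Cfsg.Agent.S4236


open Subgroup CfsgLib H4 MulAction

theorem simple_case {S : Type*} [Group S] [Finite S] [IsSimpleGroup S] :
    Nat.card (Sylow 17 S) ≠ 35 := by
  classical
  intro hn
  have h17 : Fact (Nat.Prime 17) := ⟨by norm_num⟩
  have hn1 : Nat.card (Sylow 17 S) ≠ 1 := by omega
  obtain ⟨g, P, hg⟩ := exists_sylow_smul_ne hn1
  have := faithfulSMul_of_simple hg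
  have hdvd := prime_dvd_card_of_card_sylow_ne_one hn1
  have := Fintype.ofFinite (Sylow 17 S)
  have hP := Cfsg.Agent.S4343.result (not_isMulCommutative_of_card_sylow_ne_one hn1) 17 hdvd
    (by rw [hn]; norm_num) P
  obtain ⟨x, hx, hxz⟩ := exists_zpowers_eq_of_card_prime (P := (P : Subgroup S)) hP
  have hfix : fixedBy (Sylow 17 S) x = {P} := by
    ext Q
    rw [mem_fixedBy, sylow_smul_eq_iff_mem (hx.trans (pow_one _).symm), ← zpowers_le, hxz]
    exact ⟨fun h => Sylow.ext (P.is_maximal' Q.isPGroup' h), fun h => h ▸ le_rfl⟩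
  have hC := isPGroup_centralizer_of_two_cycles (Ω := Sylow 17 S)
    (sign_eq_one_of_simple fun h => absurd (hdvd.trans h) (by norm_num)) (by norm_num) hx
    (by rw [hfix]; simp) (by rw [hfix, hn]; simp)
  rw [← centralizer_coe_zpowers, hxz] at hC
  have hcyc : IsCyclic (P : Subgroup S) := isCyclic_of_prime_card hP
  have hidx := H9.card_sylow_eq_index P
  rw [hn] at hidx
  have h5 : 5 ∣ Nat.card S := (show 5 ∣ 35 by norm_num).trans (hidx ▸ index_dvd_card _)
  by_cases h2 : 2 ∣ Nat.card S
  · obtain ⟨Q, hQ⟩ := IsSylowIn.exists_in (p := 2) (normalizer ((P : Subgroup S) : Set S))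
    obtain ⟨R, hR⟩ := IsSylowIn.top_iff.mp (show IsSylowIn 2 Q ⊤ from ⟨le_top, hQ.isPGroup, by
      rw [relIndex_top_right, ← relIndex_mul_index hQ.le, ← hidx]
      exact fun h => (Nat.prime_two.dvd_mul.mp h).elim hQ.not_dvd (by norm_num)⟩)
    refine not_hnpc_of_simple h17.out (by norm_num) h2 hdvd (PCompl.hnpc_two_of_isCyclic R ?_)
    rw [hR]
    have : IsCyclic (MulAut (P : Subgroup S)) := by
      have e := IsCyclic.mulAutMulEquiv (P : Subgroup S)
      rw [show Nat.card (P : Subgroup S) = 17 from hP] at e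
      exact isCyclic_of_injective e.toMonoidHom e.injective
    refine isCyclic_of_injective
      ((P : Subgroup S).normalizerMonoidHom.comp (inclusion hQ.le)) ?_
    rw [injective_iff_map_eq_one]
    intro a ha
    have h3 : inclusion hQ.le a ∈ (P : Subgroup S).normalizerMonoidHom.ker := ha
    rw [normalizerMonoidHom_ker] at h3
    have h4 := IsPGroup.disjoint_of_ne 2 17 (by norm_num) _ _ hQ.isPGroup hC
    exact Subtype.ext (disjoint_def.mp h4 a.2 h3)
  · refine not_hnpc_of_simple (r := 5) (by norm_num) (by norm_num) hdvd h5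
      (PCompl.hnpc_of_normalizer_le_centralizer P ?_)
    have h3 := relIndex_centralizer_dvd_totient (P : Subgroup S)
    rw [show Nat.card (P : Subgroup S) = 17 from hP, Nat.totient_prime h17.out] at h3
    obtain ⟨i, -, hi⟩ := (Nat.dvd_prime_pow Nat.prime_two (m := 4)).mp h3
    rcases i with _ | i
    · exact relIndex_eq_one.mp hi
    · exact absurd (((dvd_pow_self 2 i.succ_ne_zero).trans hi.symm.dvd).trans
        ((index_dvd_card _).trans (card_subgroup_dvd_card _))) h2

/-- No finite group has exactly 35 Sylow 17-subgroups. -/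
theorem result {G : Type*} [Group G] [Finite G] : Nat.card (Sylow 17 G) ≠ 35 := by

  intro hn
  have h17 : Fact (Nat.Prime 17) := ⟨by norm_num⟩
  obtain ⟨S, _, _, hS, h⟩ := exists_simple_of_card_sylow hn (by norm_num)
    (not_isPrimePow_mul (a := 5) (b := 7) (by norm_num) (by norm_num) (by norm_num))
    (fun m hm h1 => by
      have := Nat.le_of_dvd (by norm_num) hm
      interval_cases m <;> omega)
  exact simple_case h

end Cfsg.Agent.S4236
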