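import Cfsg.Statements.S4241
import Cfsg.Agent.Lib.T3.Main
import Cfsg.Agent.Lib.H8Inv

set_option autoImplicit false
open Cfsg

namespace Cfsg.Agent.S4241

open Subgroup CfsgLib CfsgLib.CopAut CfsgLib.H8Inv CfsgLib.PCompl CfsgLib.PRes CfsgLib.H1

theorem core {A G : Type*} [Group A] [Group G] [Finite A] [Finite G] {φ : A →* MulAut G}
    (hcop : (Nat.card A).Coprime (Nat.card G)) {p : ℕ} (hp : p.Prime) (hpG : p ∣ Nat.card G)
    (h : ∀ H : Subgroup G, Inv φ H → H ≠ ⊤ → p ∣ Nat.card H → Group.IsNilpotent H)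
    (hn : ∀ N : Subgroup G, N.Normal → Group.IsSolvable N → N = ⊥) : False := by
  have hs := H8FT.solvable_or_of_coprime hcop
  have hns : ¬ Group.IsSolvable G := fun h1 => by
    have h2 := hn ⊤ inferInstance (solvable_top_of h1)
    rw [← card_top, h2, card_bot] at hpG
    exact hp.one_lt.ne' (Nat.dvd_one.1 hpG)
  have hnorm : ∀ {q : ℕ} [Fact q.Prime] {X : Subgroup G}, IsPGroup q X → X ≠ ⊥ →
      normalizer (X : Set G) ≠ ⊤ := fun hX h0 e =>
    h0 (hn _ (normalizer_eq_top_iff.1 e) (isSolvable_of_isPGroup hX))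
  -- a normal `q`-complement forces `q = p`
  have h1 : ∀ (q : ℕ) [Fact q.Prime], q ∣ Nat.card G → HasNormalPComplement q G →
      q = p ∧ ¬ p ∣ Nat.card (pResidual q G) := fun q _ hq h1 => by
    have hc := pResidual_characteristic (p := q) (G := G)
    have h2 := hnpc_iff_not_dvd_pResidual.mp h1
    have h3 : ¬ p ∣ Nat.card (pResidual q G) := fun h3 => by
      have := h _ (inv_of_characteristic (pResidual q G)) (fun e => h2 (by rwa [e, card_top])) h3
      exact hns (isSolvable_of_isPGroup
        (pResidual_eq_bot_iff.mp (hn (pResidual q G) pResidual_normal inferInstance)))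
    refine ⟨?_, h3⟩
    obtain ⟨k, hk⟩ := exists_index_pResidual_eq_pow (p := q) (G := G)
    rw [← (pResidual q G).card_mul_index, hk] at hpG
    exact ((Nat.prime_dvd_prime_iff_eq hp Fact.out).1
      (hp.dvd_of_dvd_pow ((hp.dvd_mul.1 hpG).resolve_left h3))).symm
  have h2 : ∀ (q : ℕ) [Fact q.Prime] (Q : Sylow q G), q ≠ 2 → Inv φ Q →
      p ∣ Nat.card (normalizer ((Q : Subgroup G) : Set G)) → HasNormalPComplement q G := by
    intro q _ Q hq hQ hd
    refine H5.thompson_of_characteristic hq Q fun X hX hc => ?_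
    have := h _ (inv_normalizer (inv_map_subtype_of_characteristic hQ X))
      (hnorm (Q.isPGroup'.to_le (map_subtype_le X))
        (by rwa [Ne, map_eq_bot_iff_of_injective _ (subtype_injective _)]))
      (hd.trans (card_dvd_of_le (normalizer_le_normalizer_map_subtype_of_characteristic _ X)))
    exact hnpc_of_isNilpotent
  have h3 : ∀ (q : ℕ) [Fact q.Prime] (Q : Sylow q G), q ≠ 2 → q ∣ Nat.card G → Inv φ Q →
      ¬ p ∣ Nat.card (normalizer ((Q : Subgroup G) : Set G)) := by
    intro q _ Q hq hqG hQ hd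
    obtain ⟨rfl, h3⟩ := h1 q hqG (h2 q Q hq hQ hd)
    have hN : (pResidual q G).Normal := pResidual_normal
    obtain ⟨r, hr, hr2, hrd⟩ : ∃ r : ℕ, r.Prime ∧ r ≠ 2 ∧ r ∣ Nat.card (pResidual q G) := by
      by_contra h4
      push Not at h4
      refine hns (isSolvable_of_isPGroup (pResidual_eq_bot_iff.mp (hn (pResidual q G) hN
        (isSolvable_of_isPGroup (p := 2) (IsPGroup.of_card
          (Nat.eq_prime_pow_of_unique_prime_dvd Nat.card_pos.ne' fun {r} hr hrd => ?_))))))
      by_contra h5
      exact h4 r hr h5 hrd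
    have : Fact r.Prime := ⟨hr⟩
    have hrq : r ≠ q := fun e => h3 (e ▸ hrd)
    obtain ⟨R, hR⟩ := exists_inv_sylow (φ := φ) r hcop hs
    have h4 := IsSylowIn.of_sylow R (le_pResidual_of_isPGroup (p := q) hrq R.isPGroup')
    have h5 : normalizer ((R : Subgroup G) : Set G) ⊔ pResidual q G = ⊤ := by
      rw [eq_top_iff, sup_comm]
      exact (h4.frattini_le le_top le_normalizer_of_normal).trans (sup_le_sup_left inf_le_right _)
    have h6 := H5.index_dvd_card_of_sup_eq_top le_normalizer_of_normal h5
    rw [← (normalizer ((R : Subgroup G) : Set G)).card_mul_index] at hqG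
    exact hrq (h1 r (hrd.trans (card_subgroup_dvd_card _)) (h2 r R hr2 hR
      ((hp.dvd_mul.1 hqG).resolve_right fun h7 => h3 (h7.trans h6)))).1
  have hp2 : p = 2 := by
    by_contra h4
    have : Fact p.Prime := ⟨hp⟩
    obtain ⟨P, hP⟩ := exists_inv_sylow (φ := φ) p hcop hs
    exact h3 p P h4 hpG hP ((P.dvd_card_of_dvd_card hpG).trans (card_dvd_of_le le_normalizer))
  subst hp2
  refine hns (T3.solvable_of_odd_norm (fun r hr hr2 hrd => ?_) ?_)
  · have : Fact r.Prime := ⟨hr⟩
    obtain ⟨R, hR⟩ := exists_inv_sylow (φ := φ) r hcop hs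
    refine ⟨R, IsSylowIn.sylow_top R, ?_⟩
    rw [← Nat.not_even_iff_odd, even_iff_two_dvd]
    intro h4
    have h5 : Inv φ (dSub (R : Subgroup G)) := inv_iff_map_eq.2 fun a => by
      rw [← SE.dSub_map _ fun x _ e => (map_eq_one_iff _ (φ a).injective).1 e,
        inv_iff_map_eq.1 hR a]
    have h6 := h _ (inv_normalizer h5) (hnorm (R.isPGroup'.to_le (dSub_le _))
      (dSub_ne_bot R.isPGroup' (R.ne_bot_of_dvd_card hrd))) h4
    exact h3 r R hr2 hrd hR (h4.trans (card_dvd_of_le
      (H5.le_normalizer_of_isSylowIn_of_isNilpotent (IsSylowIn.of_sylow R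
        (le_normalizer.trans (normalizer_le_normalizer_dSub _))) h6)))
  · by_contra h4
    have h5 : Group.IsSolvable (commutator G) := by
      by_cases h5 : 2 ∣ Nat.card (commutator G)
      · have := h _ (inv_of_characteristic _) h4 h5
        infer_instance
      · exact FT.feit_thompson (Nat.not_even_iff_odd.1 (by rwa [even_iff_two_dvd]))
    have h6 := hn _ inferInstance h5
    refine hns (Group.isSolvable_of_comm fun a b => ?_)
    rw [← commutatorElement_eq_one_iff_mul_comm, ← mem_bot, ← h6]
    exact commutator_mem_commutator (mem_top a) (mem_top b)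

/-- Let a finite group A act by automorphisms on a finite group G of order coprime to that of A, and let p be a prime dividing the order of G. If every maximal A-invariant proper subgroup of G whose order is divisible by p is nilpotent, then G is solvable. -/
theorem result {A G : Type*} [Group A] [Group G] [Finite A] [Finite G] [MulDistribMulAction A G]
    (hcop : (Nat.card A).Coprime (Nat.card G)) (p : ℕ) (hp : p.Prime) (hpG : p ∣ Nat.card G)
    (hmax : ∀ H : Subgroup G, H ≠ ⊤ → (∀ a : A, ∀ x ∈ H, a • x ∈ H) →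
      (∀ K : Subgroup G, H < K → (∀ a : A, ∀ x ∈ K, a • x ∈ K) → K = ⊤) → p ∣ Nat.card H → Group.IsNilpotent H) :
    Group.IsSolvable G := by
  let φ := MulDistribMulAction.toMulAut A G
  have h : ∀ H : Subgroup G, Inv φ H → H ≠ ⊤ → p ∣ Nat.card H → Group.IsNilpotent H := by
    intro H hH hH' hd
    obtain ⟨M, h1, h2, h3, h4⟩ := exists_maximal_inv_ge hH hH'
    exact isNilpotent_of_le (hmax M h2 h3 h4 (hd.trans (card_dvd_of_le h1))) h1
  have := solvableRadical_characteristic (G := G)
  set R := solvableRadical G with hR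
  have hR0 : solvableRadical (G ⧸ R) = ⊥ := solvableRadical_quotient_solvableRadical
  refine isSolvable_of_normal_of_quotient R solvableRadical_isSolvable ?_
  have hcop' : (Nat.card A).Coprime (Nat.card (G ⧸ R)) :=
    hcop.coprime_dvd_right (card_quotient_dvd_card R)
  have hsj := QuotientGroup.mk'_surjective R
  have h' : ∀ H : Subgroup (G ⧸ R), Inv (quot φ R) H → H ≠ ⊤ →
      p ∣ Nat.card (H.comap (QuotientGroup.mk' R)) → Group.IsNilpotent H := by
    intro H hH hH' hd
    have h1 := h _ (inv_comap_quot hH) (fun h2 => hH' (by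
      rw [← map_comap_eq_self_of_surjective hsj H, h2, map_top_of_surjective _ hsj])) hd
    rw [← map_comap_eq_self_of_surjective hsj H]
    exact isNilpotent_map h1 _
  by_cases hd : p ∣ Nat.card R
  · exact solvable_of_forall_nilpotent hcop' fun H hH hH' => h' H hH hH'
      (hd.trans (card_dvd_of_le (QuotientGroup.le_comap_mk' R H)))
  · refine (core (φ := quot φ R) hcop' hp ?_ (fun H hH hH' h1 => h' H hH hH' ?_) fun N _ hN =>
      le_bot_iff.mp (hR0 ▸ le_solvableRadical hN)).elim
    · rw [card_eq_card_quotient_mul_card_subgroup R] at hpG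
      exact (hp.dvd_mul.1 hpG).resolve_right hd
    · refine h1.trans ?_
      conv_lhs => rw [← map_comap_eq_self_of_surjective hsj H]
      exact card_map_dvd _ _

end Cfsg.Agent.S4241
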