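import Cfsg.Statements.S4349
import Mathlib
import Cfsg.Agent.Lib.H5SymC

set_option autoImplicit false
open Cfsg

namespace Cfsg.Agent.S4349

open CfsgLib.H5.SymSyl Equiv Equiv.Perm in
theorem len_eq {n : ℕ} (x : Equiv.Perm (Fin n)) (u : Fin n) (hu : x u ≠ u) :
    len x u = (x.cycleOf u).support.card := by
  unfold len
  rw [← Set.ncard_coe_finset]
  congr 1
  ext v
  simp [mem_support_cycleOf_iff' hu]

open CfsgLib.H5.SymSyl Equiv Equiv.Perm in
theorem nfix_eq {n : ℕ} (x : Equiv.Perm (Fin n)) : nfix x + x.support.card = n := by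
  unfold nfix
  rw [← Set.ncard_coe_finset]
  have := Set.ncard_add_ncard_compl {v | x v = v}
  rw [Nat.card_eq_fintype_card, Fintype.card_fin] at this
  convert this
  ext v
  simp

open CfsgLib.H5.SymSyl Equiv Equiv.Perm in
theorem no_three {n : ℕ} (P : Subgroup (Equiv.Perm (Fin n))) (hP : IsPGroup 2 P) {a b c : Fin n}
    (ab : a ≠ b) (ac : a ≠ c) (bc : b ≠ c) (h1 : swap a b ∈ P) (h2 : swap a c ∈ P) : False := by
  obtain ⟨k, hk⟩ := (two_iff P).2 hP _ (Subgroup.mul_mem _ h1 h2)
  have h3 := orderOf_dvd_of_pow_eq_one hk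
  rw [(isThreeCycle_swap_mul_swap_same ab ac bc).orderOf] at h3
  have := (Nat.prime_dvd_prime_iff_eq Nat.prime_three Nat.prime_two).1
    (Nat.prime_three.dvd_of_dvd_pow h3)
  omega

open Equiv Equiv.Perm in
theorem conj_swap {n : ℕ} (g : Equiv.Perm (Fin n)) (a b : Fin n) :
    g * swap a b * g⁻¹ = swap (g a) (g b) := by
  rw [swap_apply_apply]


/-- Let n ≥ 2 and let x be an element of 2-power order of the symmetric group of degree n. Then x lies in exactly one Sylow 2-subgroup if and only if x has at most two fixed points and the nontrivial cycles of x have pairwise different lengths. -/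
theorem result (n : ℕ) (hn : 2 ≤ n)
    (x : Equiv.Perm (Fin n)) (hx : ∃ k : ℕ, orderOf x = 2 ^ k) :
    (∃! P : Sylow 2 (Equiv.Perm (Fin n)), x ∈ P) ↔ (n ≤ x.support.card + 2 ∧ x.cycleType.Nodup) := by
  classical
  have hx' : ∃ k : ℕ, x ^ 2 ^ k = 1 := by
    obtain ⟨k, hk⟩ := hx
    exact ⟨k, by rw [← hk, pow_orderOf_eq_one]⟩
  constructor
  · rintro ⟨P, hP, huniq⟩
    have hsw : ∀ a b : Fin n, (∀ j : ℤ, Commute (Equiv.swap a b)
        (Equiv.swap ((x ^ j) a) ((x ^ j) b))) → Equiv.swap a b ∈ (P : Subgroup _) := by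
      intro a b h
      obtain ⟨R, hR, hxR, hz⟩ := CfsgLib.H5.SymSyl.exists_two_of_comm hx'
        (Equiv.swap_mul_self a b) (fun j => by rw [conj_swap]; exact h j)
      obtain ⟨Q, hQ⟩ := hR.exists_le_sylow
      have := huniq Q (hQ hxR)
      rw [← this]
      exact hQ hz
    constructor
    · by_contra hlt
      have h1 := nfix_eq x
      have h2 : 2 < CfsgLib.H5.SymSyl.nfix x := by omega
      obtain ⟨a, b, c, ha, hb, hc, ab, ac, bc⟩ := (Set.two_lt_ncard_iff (Set.toFinite _)).1 h2
      have key : ∀ u v, x u = u → x v = v → Equiv.swap u v ∈ (P : Subgroup _) := by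
        intro u v hu hv
        refine hsw u v fun j => ?_
        rw [Equiv.Perm.zpow_apply_eq_self_of_apply_eq_self hu,
          Equiv.Perm.zpow_apply_eq_self_of_apply_eq_self hv]
      exact no_three _ P.isPGroup' ab ac bc (key a b ha hb) (key a c ha hc)
    · rw [Equiv.Perm.cycleType_def, Multiset.nodup_map_iff_inj_on (Finset.nodup _)]
      intro c hc d hd e
      by_contra hne
      have hc' : c ∈ x.cycleFactorsFinset := hc
      have hd' : d ∈ x.cycleFactorsFinset := hd
      have e' : c.support.card = d.support.card := e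
      obtain ⟨a, ha⟩ := (Equiv.Perm.mem_cycleFactorsFinset_iff.1 hc').1.nonempty_support
      obtain ⟨b, hb⟩ := (Equiv.Perm.mem_cycleFactorsFinset_iff.1 hd').1.nonempty_support
      have key : ∀ u ∈ c.support, ∀ v ∈ d.support, Equiv.swap v u ∈ (P : Subgroup _) ∧ v ≠ u := by
        intro u hu v hv
        have eu := Equiv.Perm.cycle_is_cycleOf hu hc'
        have ev := Equiv.Perm.cycle_is_cycleOf hv hd'
        have xu : x u ≠ u := Equiv.Perm.mem_support.1
          (Equiv.Perm.mem_cycleFactorsFinset_support_le hc' hu)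
        have xv : x v ≠ v := Equiv.Perm.mem_support.1
          (Equiv.Perm.mem_cycleFactorsFinset_support_le hd' hv)
        have hns : ¬ x.SameCycle u v := fun h => hne (by rw [eu, ev, h.cycleOf_eq])
        have huv : v ≠ u := fun h => hns (h ▸ Equiv.Perm.SameCycle.refl _ _)
        refine ⟨hsw v u fun j => ?_, huv⟩
        have hiff : (x ^ j) u = u ↔ (x ^ j) v = v := by
          have h1 := Equiv.Perm.zpow_eq_zpow_on_iff x (m := j) (n := 0) xu
          have h2 := Equiv.Perm.zpow_eq_zpow_on_iff x (m := j) (n := 0) xv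
          rw [← eu] at h1
          rw [← ev, ← e'] at h2
          simpa using h1.trans h2.symm
        by_cases h0 : (x ^ j) u = u
        · rw [h0, hiff.1 h0]
        · have h1 : (x ^ j) v ≠ v := fun h => h0 (hiff.2 h)
          apply Equiv.Perm.Disjoint.commute
          apply Equiv.Perm.disjoint_swap_swap
          have h2 : v ≠ (x ^ j) u := fun h => hns ⟨j, h.symm⟩
          have h3 : u ≠ (x ^ j) v := fun h => hns (Equiv.Perm.SameCycle.symm ⟨j, h.symm⟩)
          have h4 : (x ^ j) v ≠ (x ^ j) u := fun h => huv ((x ^ j).injective h)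
          simp [huv, h2, h3, h4, Ne.symm h0, Ne.symm h1]
      have ha' : c a ∈ c.support := Equiv.Perm.apply_mem_support.2 ha
      exact no_three _ P.isPGroup' (key a ha b hb).2 (key _ ha' b hb).2
        (Equiv.Perm.mem_support.1 ha).symm (key a ha b hb).1 (key _ ha' b hb).1
  · rintro ⟨h1, h2⟩
    have hg : CfsgLib.H5.SymSyl.Good x := by
      refine ⟨hx', fun u v hu e => ?_, by have := nfix_eq x; omega⟩
      have hv : x v ≠ v := fun h => hu (CfsgLib.H5.SymSyl.len_eq_one.1
        (e.trans (CfsgLib.H5.SymSyl.len_eq_one.2 h)))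
      rw [len_eq x u hu, len_eq x v hv] at e
      rw [Equiv.Perm.cycleType_def, Multiset.nodup_map_iff_inj_on (Finset.nodup _)] at h2
      have h3 := h2 _ (Equiv.Perm.cycleOf_mem_cycleFactorsFinset_iff.2
        (Equiv.Perm.mem_support.2 hu)) _ (Equiv.Perm.cycleOf_mem_cycleFactorsFinset_iff.2
        (Equiv.Perm.mem_support.2 hv)) e
      rw [← Equiv.Perm.mem_support_cycleOf_iff' hu, h3, Equiv.Perm.mem_support_cycleOf_iff' hv]
    obtain ⟨Q, hQ⟩ := hg.u _ _ x rfl
    obtain ⟨P, hP⟩ := (CfsgLib.H5.SymSyl.two_zpowers hx').exists_le_sylow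
    have key : ∀ S : Sylow 2 (Equiv.Perm (Fin n)), x ∈ S → Q = S := fun S hS =>
      S.is_maximal' hQ.two (hQ.max _ le_top S.isPGroup' hS)
    refine ⟨P, hP (Subgroup.mem_zpowers x), fun S hS => Sylow.ext ?_⟩
    rw [← key S hS, key P (hP (Subgroup.mem_zpowers x))]

end Cfsg.Agent.S4349
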