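import Cfsg.Statements.S4354
import Cfsg.Agent.Lib.SylowIn
import Cfsg.Agent.Lib.ClassSize
import Cfsg.Agent.Lib.CoreElements
import Cfsg.Agent.Lib.H5SylowIn
import Cfsg.Agent.Lib.PGroupBasic

set_option autoImplicit false
open Cfsg

namespace Cfsg.Agent.S4354

open Subgroup CfsgLib

theorem comm_of {G : Type*} [Group G] [Finite G] (p : ℕ) [hp : Fact p.Prime]
    (h : ∀ x : G, (∃ k : ℕ, orderOf x = p ^ k) → ¬ p ∣ (centralizer ({x} : Set G)).index)
    (N : Subgroup G) [hN : N.Normal] (P : Sylow p G)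
    (h1 : ∀ a ∈ (P : Subgroup G), ∀ b ∈ (P : Subgroup G), a ∈ N → b ∈ N → a * b = b * a)
    (h2 : ∀ a ∈ (P : Subgroup G), ∀ b ∈ (P : Subgroup G),
      (a : G ⧸ N) * (b : G ⧸ N) = (b : G ⧸ N) * (a : G ⧸ N)) :
    IsMulCommutative P := by
  have key : ∀ x ∈ (P : Subgroup G), ∃ z ∈ centralizer ((P : Subgroup G) : Set G),
      ∃ n ∈ (P : Subgroup G), n ∈ N ∧ x = z * n := by
    intro x hx
    have hxo := orderOf_eq_pow_of_mem_isPGroup P.isPGroup' hx
    obtain ⟨Q, hQ⟩ := H5.exists_sylow_le_of_not_dvd_index (h x hxo)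
    set H := (centralizer ({(x : G ⧸ N)} : Set (G ⧸ N))).comap (QuotientGroup.mk' N) with hH
    have hPH : (P : Subgroup G) ≤ H := by
      intro a ha
      rw [hH, mem_comap, mem_centralizer_singleton_iff]
      exact h2 a ha x hx
    have hQH : (Q : Subgroup G) ≤ H := by
      intro a ha
      rw [hH, mem_comap, mem_centralizer_singleton_iff]
      have := mem_centralizer_singleton_iff.1 (hQ ha)
      rw [QuotientGroup.mk'_apply, ← QuotientGroup.mk_mul, this, QuotientGroup.mk_mul]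
    obtain ⟨g, hgH, hg⟩ := (IsSylowIn.of_sylow P hPH).exists_conj_eq (IsSylowIn.of_sylow Q hQH)
    have hzc : g * x * g⁻¹ ∈ centralizer ((P : Subgroup G) : Set G) := by
      intro a ha
      rw [← hg] at ha
      have ha' := mem_centralizer_singleton_iff.1 (hQ (mem_map_conj_iff.1 ha))
      calc a * (g * x * g⁻¹) = g * ((g⁻¹ * a * g) * x) * g⁻¹ := by group
        _ = g * (x * (g⁻¹ * a * g)) * g⁻¹ := by rw [ha']
        _ = _ := by group
    have hzP : g * x * g⁻¹ ∈ (P : Subgroup G) := by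
      have hzp : IsPGroup p (zpowers (g * x * g⁻¹)) := by
        rw [isPGroup_zpowers_iff]
        obtain ⟨k, hk⟩ := hxo
        exact ⟨k, by rw [← hk]; exact (MulAut.conj g).orderOf_eq x⟩
      have hle : zpowers (g * x * g⁻¹) ≤ normalizer ((P : Subgroup G) : Set G) :=
        (zpowers_le.2 hzc).trans (centralizer_le_normalizer _)
      have := P.is_maximal' (IsPGroup.to_sup_of_normal_left' P.isPGroup' hzp hle) le_sup_left
      rw [← this]
      exact mem_sup_right (mem_zpowers _)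
    refine ⟨g * x * g⁻¹, hzc, (g * x * g⁻¹)⁻¹ * x, mul_mem (inv_mem hzP) hx, ?_, by group⟩
    rw [← QuotientGroup.eq]
    rw [hH, mem_comap, mem_centralizer_singleton_iff, QuotientGroup.mk'_apply] at hgH
    rw [QuotientGroup.mk_mul, QuotientGroup.mk_mul, hgH, QuotientGroup.mk_inv, mul_inv_cancel_right]
  rw [PGrp.isMulCommutative_iff_forall]
  intro a ha b hb
  obtain ⟨z, hz, n, hn, hnN, rfl⟩ := key a ha
  obtain ⟨w, hw, m, hm, hmN, hb'⟩ := key b hb
  have e1 : b * z = z * b := hz b hb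
  have e2 : n * b = b * n := by
    rw [hb', ← mul_assoc, hw n hn, mul_assoc, h1 n hn m hm hnN hmN, mul_assoc]
  rw [mul_assoc, e2, ← mul_assoc, ← e1, mul_assoc]

/-- Let G be a finite group and p a prime such that the Sylow p-subgroups of G are non-abelian while every element of p-power order has conjugacy class size prime to p, and suppose no nontrivial proper normal subgroup N of G has this property and no quotient G/N by such an N has it. Then G is simple. -/
theorem result {G : Type*} [Group G] [Finite G]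
    (p : ℕ) [Fact p.Prime] (h : ((∃ P : Sylow p G, ¬ IsMulCommutative P) ∧ ∀ x : G, (∃ k : ℕ, orderOf x = p ^ k) → ¬ p ∣ (Subgroup.centralizer ({x} : Set G)).index))
    (hmin : ∀ (N : Subgroup G) [N.Normal], N ≠ ⊥ → N ≠ ⊤ →
      ¬ ((∃ P : Sylow p N, ¬ IsMulCommutative P) ∧ ∀ x : N, (∃ k : ℕ, orderOf x = p ^ k) → ¬ p ∣ (Subgroup.centralizer ({x} : Set N)).index) ∧
      ¬ ((∃ P : Sylow p (G ⧸ N), ¬ IsMulCommutative P) ∧ ∀ x : (G ⧸ N), (∃ k : ℕ, orderOf x = p ^ k) → ¬ p ∣ (Subgroup.centralizer ({x} : Set (G ⧸ N))).index)) :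
    IsSimpleGroup G := by
  obtain ⟨⟨P, hP⟩, hc⟩ := h
  have hnt : Nontrivial G := by
    by_contra hnt
    rw [not_nontrivial_iff_subsingleton] at hnt
    exact hP (PGrp.isMulCommutative_iff_forall.2 fun a _ b _ => Subsingleton.elim _ _)
  refine ⟨fun N hN => ?_⟩
  by_contra hne
  push Not at hne
  obtain ⟨h1, h2⟩ := hmin N hne.1 hne.2
  apply hP
  refine comm_of p hc N P ?_ ?_
  · by_contra hcon
    apply h1
    obtain ⟨S, hS⟩ := (IsSylowIn.sylow_inf_normal P N).exists_sylow
    refine ⟨⟨S, fun hcomm => hcon ?_⟩, ?_⟩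
    · intro a ha b hb haN hbN
      have := PGrp.isMulCommutative_iff_forall.1 hcomm ⟨a, haN⟩ (by rw [hS]; exact ⟨ha, haN⟩)
        ⟨b, hbN⟩ (by rw [hS]; exact ⟨hb, hbN⟩)
      exact congrArg Subtype.val this
    · intro x hx hd
      exact hc x (by simpa using hx) (hd.trans (Frob.index_centralizer_normal_dvd N x))
  · by_contra hcon
    apply h2
    refine ⟨⟨P.mapSurjective (QuotientGroup.mk'_surjective N), fun hcomm => hcon ?_⟩, ?_⟩
    · intro a ha b hb
      exact PGrp.isMulCommutative_iff_forall.1 hcomm a ⟨a, ha, rfl⟩ b ⟨b, hb, rfl⟩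
    · intro x hx hd
      obtain ⟨y, rfl⟩ := QuotientGroup.mk'_surjective N x
      have hp : p.Prime := Fact.out
      obtain ⟨u, -, hu, huo⟩ := exists_lift_isPiNum (QuotientGroup.mk' N) (π := {p}) y
        ((isPiNum_singleton_iff hp (orderOf_pos _).ne').2 hx)
      rw [← hu] at hd
      exact hc u ((isPiNum_singleton_iff hp (orderOf_pos _).ne').1 huo)
        (hd.trans (Frob.index_centralizer_mk_dvd N u))

end Cfsg.Agent.S4354
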