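import Cfsg.Statements.S4358
import Mathlib
import Cfsg.Agent.Lib.H5Redundant

set_option autoImplicit false
open Cfsg

namespace Cfsg.Agent.S4358
open Subgroup CfsgLib CfsgLib.H5 Matrix
open scoped Pointwise

section aux
variable {ι : Type*} [Fintype ι] [DecidableEq ι] [AddCommGroup ι] {F : Type*} [Field F]

/-- Monomial matrices with a translation as permutation part. -/
def mm (k : ι) (d : ι → F) : Matrix ι ι F := Matrix.of fun i j => if j = i + k then d i else 0

theorem mm_mul_apply (k : ι) (d : ι → F) (u : Matrix ι ι F) (a b : ι) :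
    (mm k d * u) a b = d a * u (a + k) b := by
  simp [mm, mul_apply]

theorem mul_mm_apply (k : ι) (d : ι → F) (u : Matrix ι ι F) (a b : ι) :
    (u * mm k d) a b = u a (b - k) * d (b - k) := by
  simp [mm, mul_apply, ← sub_eq_iff_eq_add]

theorem mm_mul (k l : ι) (d e : ι → F) :
    mm k d * mm l e = mm (k + l) fun i => d i * e (i + k) := by
  ext a b
  rw [mm_mul_apply]
  simp [mm, add_assoc]

omit [Fintype ι] in
theorem mm_zero_one : mm (0 : ι) (fun _ => (1 : F)) = 1 := by
  ext a b
  simp [mm, one_apply, eq_comm]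

theorem trace_mm {k : ι} (hk : k ≠ 0) (d : ι → F) : trace (mm k d) = 0 := by
  simp [trace, mm, hk]

theorem mm_mul_inv (k : ι) {d : ι → F} (hd : ∀ i, d i ≠ 0) :
    mm k d * mm (-k) (fun i => (d (i - k))⁻¹) = 1 := by
  rw [mm_mul, add_neg_cancel, ← mm_zero_one]
  congr 1; ext i; simp [hd]

/-- The invertible monomial matrix. -/
def mono (k : ι) (d : ι → F) (hd : ∀ i, d i ≠ 0) : GL ι F :=
  ⟨mm k d, mm (-k) (fun i => (d (i - k))⁻¹), mm_mul_inv k hd,
    mul_eq_one_comm.1 (mm_mul_inv k hd)⟩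

variable (ι F) in
/-- The wreath product `C_p ≀ ι`. -/
def W (p : ℕ) [hp : Fact p.Prime] : Subgroup (GL ι F) where
  carrier := {g | ∃ k d, (∀ i, d i ^ p = 1) ∧ (g : Matrix ι ι F) = mm k d}
  one_mem' := ⟨0, fun _ => 1, fun _ => one_pow _, mm_zero_one.symm⟩
  mul_mem' := by
    rintro a b ⟨k, d, hd, ha⟩ ⟨l, e, he, hb⟩
    exact ⟨k + l, fun i => d i * e (i + k), fun i => by rw [mul_pow, hd, he, one_mul],
      by rw [Units.val_mul, ha, hb, mm_mul]⟩
  inv_mem' := by
    rintro a ⟨k, d, hd, ha⟩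
    refine ⟨-k, fun i => (d (i - k))⁻¹, fun i => by rw [inv_pow, hd, inv_one],
      Units.inv_eq_of_mul_eq_one_right ?_⟩
    rw [ha]
    exact mm_mul_inv k fun i h => by simpa [h, hp.out.ne_zero] using hd i

variable {p : ℕ} [hp : Fact p.Prime]

theorem ne_zero_of_pow {a : F} (h : a ^ p = 1) : a ≠ 0 := fun h0 => by
  simp [h0, hp.out.ne_zero] at h

theorem card_W {ω : F} (hω : IsPrimitiveRoot ω p) :
    Nat.card (W ι F p) = Nat.card ι * p ^ Nat.card ι := by
  haveI : NeZero p := ⟨hp.out.ne_zero⟩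
  rw [show Nat.card ι * p ^ Nat.card ι = Nat.card (ι × (ι → rootsOfUnity p F)) by
    rw [Nat.card_prod, Nat.card_fun, hω.card_rootsOfUnity]]
  symm
  refine Nat.card_eq_of_bijective (fun x : ι × (ι → rootsOfUnity p F) =>
    (⟨mono x.1 (fun i => ((x.2 i : Fˣ) : F)) fun i => Units.ne_zero _, x.1, _,
      fun i => (mem_rootsOfUnity' _ _).1 (x.2 i).2, rfl⟩ : W ι F p)) ⟨?_, ?_⟩
  · rintro ⟨k, d⟩ ⟨l, e⟩ h
    have h' : mm k (fun i => ((d i : Fˣ) : F)) = mm l (fun i => ((e i : Fˣ) : F)) :=
      congrArg (fun g : W ι F p => ((g : GL ι F) : Matrix ι ι F)) h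
    obtain rfl : k = l := by
      by_contra hkl
      have := congrFun (congrFun h' 0) k
      simp [mm, hkl] at this
    refine Prod.ext rfl (funext fun i => Subtype.ext (Units.ext ?_))
    simpa [mm] using congrFun (congrFun h' i) (i + k)
  · rintro ⟨g, k, d, hd, hg⟩
    refine ⟨(k, fun i => rootsOfUnity.mkOfPowEq (d i) (hd i)), Subtype.ext (Units.ext ?_)⟩
    rw [hg]; rfl

theorem not_mem_normalizer {ω : F} (hω : IsPrimitiveRoot ω p) (h2 : ∀ k : ι, k + k = 0 → k = 0)
    (u : GL ι F) {a a' j : ι} (haa : a ≠ a') (ha : u a j ≠ 0) (ha' : u a' j ≠ 0) :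
    u ∉ normalizer (W ι F p : Set (GL ι F)) := by
  intro hu
  have hω0 := ne_zero_of_pow hω.pow_eq_one
  have hω1 : ω ≠ 1 := hω.ne_one hp.out.one_lt
  set δ : ι → F := fun i => if i = j then ω else 1 with hδ
  have hδp : ∀ i, δ i ^ p = 1 := fun i => by
    simp only [hδ]; split_ifs
    · exact hω.pow_eq_one
    · exact one_pow _
  set D : GL ι F := mono 0 δ fun i => ne_zero_of_pow (hδp i)
  have hD : D ∈ W ι F p := ⟨0, δ, hδp, rfl⟩
  obtain ⟨k, d, hd, hm⟩ := conj_mem_of_mem_normalizer hu hD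
  have htr : ∀ e : ι → F, trace (mm 0 e) = ∑ i, e i := fun e => by simp [trace, mm]
  obtain rfl : k = 0 := by
    by_contra hk
    have e1 : trace (mm k d) = trace (mm 0 δ) := by
      rw [← hm, Units.val_mul, Units.val_mul, trace_units_conj]; rfl
    have e2 : trace (mm k d * mm k d) = trace (mm 0 δ * mm 0 δ) := by
      rw [← hm, ← Units.val_mul, show u * D * u⁻¹ * (u * D * u⁻¹) = u * (D * D) * u⁻¹ by group,
        Units.val_mul, Units.val_mul, trace_units_conj]; rfl
    rw [trace_mm hk, htr] at e1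
    rw [mm_mul, mm_mul, trace_mm (fun h => hk (h2 k h)), add_zero, htr] at e2
    have e3 : ∑ i, (δ i * δ (i + 0) - δ i) = ω * ω - ω := by
      rw [Finset.sum_eq_single j]
      · simp [hδ]
      · intro b _ hb; simp [hδ, hb]
      · simp
    rw [Finset.sum_sub_distrib, ← e1, ← e2, sub_zero] at e3
    exact hω1 (mul_left_cancel₀ hω0 (by linear_combination -e3))
  have e : ∀ a b, d a * u a b = u a b * δ b := fun a b => by
    have : mm 0 d * (u : Matrix ι ι F) = u * mm 0 δ := by
      rw [← hm, ← Units.val_mul, inv_mul_cancel_right]; rfl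
    have := congrFun (congrFun this a) b
    rwa [mm_mul_apply, mul_mm_apply, add_zero, sub_zero] at this
  have row : ∀ a, u a j ≠ 0 → ∀ b, b ≠ j → u a b = 0 := fun a ha b hb => by
    have e1 := e a j
    have e2 := e a b
    simp only [hδ, if_true, hb, if_false] at e1 e2
    have hda : d a = ω := mul_right_cancel₀ ha (by rw [e1, mul_comm])
    rw [hda] at e2
    exact (mul_eq_zero.1 (show (ω - 1) * u a b = 0 by linear_combination e2)).resolve_left
      (sub_ne_zero.2 hω1)
  have inv : ∀ c, u c j ≠ 0 → u c j * (u⁻¹ : GL ι F) j a = (1 : Matrix ι ι F) c a := fun c hc => by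
    rw [← u.mul_inv, mul_apply, Finset.sum_eq_single j (fun b _ hb => by rw [row c hc b hb, zero_mul])
      (by simp)]
  have e1 := inv a ha
  have e2 := inv a' ha'
  rw [one_apply_eq] at e1
  rw [one_apply_ne haa.symm] at e2
  rw [(mul_eq_zero.1 e2).resolve_left ha', mul_zero] at e1
  exact zero_ne_one e1

theorem mm_pow (k : ι) {d : ι → F} (hd : ∀ i, d i ^ p = 1) (n : ℕ) :
    ∃ e : ι → F, (∀ i, e i ^ p = 1) ∧ mm k d ^ n = mm (n • k) e := by
  induction n with
  | zero => exact ⟨fun _ => 1, fun _ => one_pow _, by rw [pow_zero, zero_smul, mm_zero_one]⟩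
  | succ n ih =>
    obtain ⟨e, he, h⟩ := ih
    exact ⟨fun i => e i * d (i + n • k), fun i => by rw [mul_pow, he, hd, one_mul],
      by rw [pow_succ, h, mm_mul, succ_nsmul]⟩

theorem exists_comm {ω : F} (hω : IsPrimitiveRoot ω p) (hp2 : p ≠ 2) (hι : Nat.card ι = p)
    {k : ι} (hk : k ≠ 0) {d : ι → F} (hd : ∀ i, d i ^ p = 1) :
    ∃ (u : GL ι F) (a a' j : ι), (u : Matrix ι ι F) * mm k d = mm k d * u ∧ a ≠ a' ∧
      u a j ≠ 0 ∧ u a' j ≠ 0 := by
  have hodd : Odd p := hp.out.odd_of_ne_two hp2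
  have hpk : p • k = 0 := hι ▸ card_nsmul_eq_zero'
  have hord : addOrderOf k = p := addOrderOf_eq_prime hpk hk
  have hnk : ∀ n, 0 < n → n < p → n • k ≠ 0 := fun n h1 h2 =>
    nsmul_ne_zero_of_lt_addOrderOf h1.ne' (hord ▸ h2)
  set x := mm k d with hx
  obtain ⟨e, he, hxp⟩ := mm_pow k hd p
  rw [hpk, ← hx] at hxp
  have hek : ∀ a, e (a + k) = e a := fun a => by
    have := congrFun (congrFun (show x ^ p * x = x * x ^ p from (Commute.self_pow x p).symm.eq) a)
      (a + k)
    rw [hxp, mm_mul_apply, mul_mm_apply, add_zero, sub_zero] at this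
    simp only [hx, mm, of_apply, if_true] at this
    exact mul_left_cancel₀ (ne_zero_of_pow (hd a)) (by rw [← this, mul_comm])
  have hconst : ∀ a, e a = e 0 := fun a => by
    obtain ⟨n, rfl⟩ := mem_multiples_of_prime_card hι hk (g' := a)
    induction n with
    | zero => simp
    | succ n ih => simpa [succ_nsmul, hek] using ih
  by_cases h1 : e 0 = 1
  · have hx1 : x ^ p = 1 := by
      rw [hxp, ← mm_zero_one]; congr 1; ext a; rw [hconst, h1]
    set N := ∑ i ∈ Finset.range p, x ^ i with hN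
    have hxN : x * N = N := by
      have := mul_geom_sum x p
      rw [hx1, sub_self, sub_mul, one_mul, sub_eq_zero] at this
      exact this
    have hNx : N * x = N := by
      have := geom_sum_mul x p
      rw [hx1, sub_self, mul_sub, mul_one, sub_eq_zero] at this
      exact this
    have hNN : N * N = (p : F) • N := by
      have : ∀ i, x ^ i * N = N := fun i => by
        induction i with
        | zero => simp
        | succ i ih => rw [pow_succ, mul_assoc, hxN, ih]
      nth_rewrite 1 [hN]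
      rw [Finset.sum_mul]
      simp [this, Nat.cast_smul_eq_nsmul]
    obtain ⟨l, hl0, hl⟩ : ∃ l : F, l ≠ 0 ∧ 1 + l * p ≠ 0 := by
      by_cases h : 1 + 1 * (p : F) = 0
      · refine ⟨ω, ne_zero_of_pow hω.pow_eq_one, fun h' => hω.ne_one hp.out.one_lt ?_⟩
        linear_combination ω * h - h'
      · exact ⟨1, one_ne_zero, h⟩
    have hinv : (1 + l • N) * (1 - (l / (1 + l * p)) • N) = 1 := by
      rw [add_mul, mul_sub, mul_sub, smul_mul_smul_comm, hNN, smul_smul, one_mul, one_mul, mul_one,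
        add_sub, sub_add, sub_sub, ← sub_smul, ← add_smul]
      rw [show l / (1 + l * p) - l + l * (l / (1 + l * p)) * p = 0 by field_simp; ring]
      simp
    have hN0 : N 0 0 = 1 := by
      rw [hN, Matrix.sum_apply, Finset.sum_eq_single 0]
      · simp
      · intro i hi hi0
        obtain ⟨f, -, hf⟩ := mm_pow k hd i
        rw [hf]
        simp [mm, (hnk i (Nat.pos_of_ne_zero hi0) (Finset.mem_range.1 hi)).symm]
      · intro h; exact absurd (Finset.mem_range.2 hp.out.pos) h
    have hstep : ∀ a, N a 0 ≠ 0 → N (a + k) 0 ≠ 0 := fun a h h' => h (by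
      rw [← hxN, hx, mm_mul_apply, h', mul_zero])
    have h3 := hstep 0 (by rw [hN0]; exact one_ne_zero)
    have h4 := hstep _ h3
    have hkk : k + k ≠ 0 := by
      have := hnk 2 two_pos (lt_of_le_of_ne hp.out.two_le hp2.symm)
      rwa [two_nsmul] at this
    rw [zero_add] at h3 h4
    refine ⟨⟨_, _, hinv, mul_eq_one_comm.1 hinv⟩, k, k + k, 0, ?_, by simpa using hk, ?_, ?_⟩
    · change (1 + l • N) * x = x * (1 + l • N)
      rw [add_mul, mul_add, smul_mul_assoc, mul_smul_comm, hxN, hNx, one_mul, mul_one]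
    · change (1 + l • N) k 0 ≠ 0
      simpa [one_apply_ne hk, hl0] using h3
    · change (1 + l • N) (k + k) 0 ≠ 0
      simpa [one_apply_ne hkk, hl0] using h4
  · have h2 : 1 + e 0 ≠ 0 := fun h => h1 (by
      have h3 := he 0
      rw [show e 0 = -1 by linear_combination h, hodd.neg_one_pow] at h3
      linear_combination h + h3)
    have hinv : (1 + x) * ((1 + e 0)⁻¹ • ∑ i ∈ Finset.range p, (-x) ^ i) = 1 := by
      have := mul_neg_geom_sum (-x) p
      rw [sub_neg_eq_add, hodd.neg_pow, sub_neg_eq_add, hxp] at this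
      rw [mul_smul_comm, this]
      ext a b
      by_cases hab : a = b
      · subst hab; simp [mm, hconst a, h2]
      · simp [mm, hab, Ne.symm hab]
    refine ⟨⟨_, _, hinv, mul_eq_one_comm.1 hinv⟩, k, 0, k, ?_, hk, ?_, ?_⟩
    · change (1 + x) * x = x * (1 + x)
      rw [add_mul, mul_add, one_mul, mul_one]
    · change (1 + x) k k ≠ 0
      simp [hx, mm, hk]
    · change (1 + x) 0 k ≠ 0
      simpa [hx, mm, one_apply_ne hk.symm] using ne_zero_of_pow (hd 0)

end aux

theorem factorization_card {F : Type*} [Field F] [Fintype F] (p : ℕ) [hp : Fact p.Prime]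
    (hp2 : p ≠ 2) (h1 : p ∣ Fintype.card F - 1) (h2 : ¬ p ^ 2 ∣ Fintype.card F - 1) :
    (Nat.card (GL (Fin p) F)).factorization p = p + 1 := by
  have hq : 1 < Fintype.card F := Fintype.one_lt_card
  set q := Fintype.card F
  have hpq : ¬ p ∣ q := fun h => hp.out.one_lt.ne' (Nat.dvd_one.1 (by
    have := Nat.dvd_sub h h1
    rwa [Nat.sub_sub_self hq.le] at this))
  have hv : padicValNat p (q - 1) = 1 := by
    refine le_antisymm ?_ (one_le_padicValNat_of_dvd (by omega) h1)
    by_contra h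
    exact h2 ((padicValNat_dvd_iff_le (by omega)).2 (by omega))
  have key : ∀ i : Fin p, (q ^ p - q ^ (i : ℕ)).factorization p = 1 + if (i : ℕ) = 0 then 1 else 0 := by
    intro i
    have hi : p - i ≠ 0 := by omega
    have e : q ^ p - q ^ (i : ℕ) = q ^ (i : ℕ) * (q ^ (p - i) - 1 ^ (p - i)) := by
      rw [one_pow, mul_tsub, mul_one, ← pow_add, add_tsub_cancel_of_le i.2.le]
    have h3 : 1 < q ^ (p - i) := Nat.one_lt_pow hi hq
    rw [e, Nat.factorization_def _ hp.out, padicValNat.mul (by positivity) (by rw [one_pow]; omega),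
      padicValNat.pow_sub_pow (hp.out.odd_of_ne_two hp2) hq h1 hpq hi, hv,
      padicValNat.eq_zero_of_not_dvd fun h => hpq (hp.out.dvd_of_dvd_pow h), zero_add]
    split_ifs with h
    · rw [h, tsub_zero, padicValNat_self]
    · rw [padicValNat.eq_zero_of_not_dvd (Nat.not_dvd_of_pos_of_lt (by omega) (by omega))]
  rw [card_GL_field, Nat.factorization_prod_apply fun i _ => ?_]
  · haveI : NeZero p := ⟨hp.out.ne_zero⟩
    rw [Finset.sum_congr rfl fun i _ => key i]
    simp [Finset.sum_add_distrib]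
  · exact (Nat.sub_pos_of_lt (Nat.pow_lt_pow_right hq i.2)).ne'


/-- Let p be an odd prime and F a finite field with q elements such that p divides q - 1 but p² does not. Then GL(p, F) has a Sylow p-subgroup Q such that every element of p-power order lies in some Sylow p-subgroup other than Q (a redundant Sylow p-subgroup). -/
theorem result {F : Type*} [Field F] [Fintype F] (p : ℕ) [Fact p.Prime]
    (hp : p ≠ 2) (h1 : p ∣ Fintype.card F - 1) (h2 : ¬ p ^ 2 ∣ Fintype.card F - 1) :
    ∃ Q : Sylow p (Matrix.GeneralLinearGroup (Fin p) F), ∀ x : Matrix.GeneralLinearGroup (Fin p) F,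
      (∃ k : ℕ, orderOf x = p ^ k) → ∃ P : Sylow p (Matrix.GeneralLinearGroup (Fin p) F), P ≠ Q ∧ x ∈ P := by
  have hp' : p.Prime := Fact.out
  haveI : NeZero p := ⟨hp'.ne_zero⟩
  obtain ⟨ω, hω⟩ : ∃ ω : F, IsPrimitiveRoot ω p := by
    obtain ⟨x, hx⟩ := exists_prime_orderOf_dvd_card' (G := Fˣ) p (by
      rwa [Nat.card_units, Nat.card_eq_fintype_card])
    exact ⟨x, IsPrimitiveRoot.coe_units_iff.2 (hx ▸ IsPrimitiveRoot.orderOf x)⟩
  have hι : Nat.card (Fin p) = p := Nat.card_fin p
  let P : Sylow p (GL (Fin p) F) := Sylow.ofCard (W (Fin p) F p) (by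
    rw [card_W hω, factorization_card p hp h1 h2, hι, pow_succ'])
  have hkk : ∀ k : Fin p, k + k = 0 → k = 0 := fun k h => by
    by_contra hk
    have hord : addOrderOf k = p := addOrderOf_eq_prime
      (by have := card_nsmul_eq_zero' (x := k); rwa [hι] at this) hk
    exact nsmul_ne_zero_of_lt_addOrderOf two_ne_zero (hord ▸ lt_of_le_of_ne hp'.two_le hp.symm)
      (by rwa [two_nsmul])
  have conj : ∀ g y : GL (Fin p) F, (∃ P Q : Sylow p (GL (Fin p) F), P ≠ Q ∧ g⁻¹ * y * g ∈ P ∧
      g⁻¹ * y * g ∈ Q) → ∃ P Q : Sylow p (GL (Fin p) F), P ≠ Q ∧ y ∈ P ∧ y ∈ Q := by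
    rintro g y ⟨P, Q, hne, h1, h2⟩
    exact ⟨g • P, g • Q, fun h => hne (smul_left_cancel g h), mem_smul_sylow.2 h1,
      mem_smul_sylow.2 h2⟩
  have caseA : ∀ (y : GL (Fin p) F) (k : Fin p) (d : Fin p → F), k ≠ 0 → (∀ i, d i ^ p = 1) →
      (y : Matrix (Fin p) (Fin p) F) = mm k d →
      ∃ P Q : Sylow p (GL (Fin p) F), P ≠ Q ∧ y ∈ P ∧ y ∈ Q := fun y k d hk hd hy => by
    obtain ⟨u, a, a', j, h1, h2, h3, h4⟩ := exists_comm hω hp hι hk hd
    exact exists_two_sylow_of_not_le (P := P) (g := u) ⟨k, d, hd, hy⟩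
      (Units.ext (by rw [Units.val_mul, Units.val_mul, hy, h1])) (not_mem_normalizer hω hkk u h2 h3 h4)
  refine redundant_iff.2 fun x ⟨n, hn⟩ => ?_
  obtain ⟨Q, hQ⟩ := exists_sylow_mem_of_orderOf hn
  obtain ⟨g, rfl⟩ := MulAction.exists_smul_eq (GL (Fin p) F) P Q
  refine conj g x ?_
  have hy := mem_smul_sylow.1 hQ
  generalize g⁻¹ * x * g = y at hy
  obtain ⟨k, d, hd, hyd⟩ := id hy
  by_cases hk : k = 0
  swap
  · exact caseA y k d hk hd hyd
  subst hk
  by_cases hinj : Function.Injective d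
  · let V := GeneralLinearGroup.mkOfDetNeZero _ (det_vandermonde_ne_zero_iff.2 hinj)
    refine conj V y (caseA _ (-1) (fun _ => 1) (neg_ne_zero.2 ?_) (fun _ => one_pow _) ?_)
    · intro h
      have := congrArg Fin.val h
      rw [Fin.val_one', Nat.mod_eq_of_lt hp'.one_lt] at this
      exact one_ne_zero this
    · rw [mul_assoc, Units.val_mul, Units.inv_mul_eq_iff_eq_mul, Units.val_mul, hyd]
      ext a b
      rw [mm_mul_apply, mul_mm_apply, add_zero, mul_one, sub_neg_eq_add]
      change d a * d a ^ (b : ℕ) = d a ^ ((b + 1 : Fin p) : ℕ)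
      rw [Fin.val_add, Fin.val_one', Nat.add_mod_mod, ← pow_eq_pow_mod _ (hd a), pow_succ']
  · obtain ⟨a, b, hab, hne⟩ := Function.not_injective_iff.1 hinj
    let u := GeneralLinearGroup.mkOfDetNeZero (transvection a b (1 : F))
      (by rw [det_transvection_of_ne a b hne]; exact one_ne_zero)
    refine exists_two_sylow_of_not_le (g := u) hy (Units.ext ?_)
      (not_mem_normalizer hω hkk u (j := b) hne ?_ ?_)
    · rw [Units.val_mul, Units.val_mul, hyd]
      ext i j
      rw [mm_mul_apply, mul_mm_apply, add_zero, sub_zero]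
      change transvection a b (1 : F) i j * d j = d i * transvection a b (1 : F) i j
      simp only [transvection, Matrix.add_apply, one_apply, single, of_apply]
      split_ifs with h1 h2 h2
      · exact absurd (h2.1.trans (h1.trans h2.2.symm)) hne
      · rw [h1, mul_comm]
      · rw [← h2.1, ← h2.2, hab, mul_comm]
      · simp
    · change transvection a b (1 : F) a b ≠ 0
      simp [transvection, hne]
    · change transvection a b (1 : F) b b ≠ 0
      simp [transvection, hne]

end Cfsg.Agent.S4358
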