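import Cfsg.Statements.S4362
import Cfsg.Agent.Lib.KH.Main
import Cfsg.Agent.Lib.TG.Main
import Cfsg.Agent.Lib.FP.TGP

set_option autoImplicit false
open Cfsg

namespace Cfsg.Agent.S4362

/-- Let the finite group A act faithfully on the finite group G by automorphisms, and suppose A is a Frobenius group with kernel F and complement H such that F fixes only the identity of G. Then G and the fixed-point subgroup C_G(H) have the same Fitting height: for every n, G has a chain of normal subgroups 1 = G₀ ≤ ⋯ ≤ Gₙ = G with nilpotent factors if and only if C_G(H) has such a chain. -/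
theorem result {G A : Type*} [Group G] [Finite G] [Group A] [Finite A]
    [MulDistribMulAction A G] [FaithfulSMul A G]
    (Fk Hc : Subgroup A) [Fk.Normal] (hHc : Cfsg.IsFrobeniusComplement Hc) (hker : Cfsg.frobeniusKernel Hc = (Fk : Set A))
    (hCF : ∀ g : G, (∀ f ∈ Fk, f • g = g) → g = 1) (C : Subgroup G) (hC : ∀ g : G, g ∈ C ↔ ∀ h ∈ Hc, h • g = g) (n : ℕ) :
    (∃ F : Fin (n + 1) → Subgroup G, F 0 = ⊥ ∧ F (Fin.last n) = ⊤ ∧ Monotone F ∧ (∀ i, (F i).Normal) ∧ ∀ i : Fin n, ∃ k : ℕ, (F i.succ).lowerCentralSeries k ≤ F i.castSucc) ↔ (∃ F : Fin (n + 1) → Subgroup ↥C, F 0 = ⊥ ∧ F (Fin.last n) = ⊤ ∧ Monotone F ∧ (∀ i, (F i).Normal) ∧ ∀ i : Fin n, ∃ k : ℕ, (F i.succ).lowerCentralSeries k ≤ F i.castSucc) := by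
  refine CfsgLib.KH.s4362 (CfsgLib.FP.nf_sol fun X _ _ N _ h1 h2 =>
    CfsgLib.TG.thm X N h1 fun t ht e h3 => ?_) Fk Hc hHc hker hCF C hC n
  by_contra hne
  obtain ⟨x, hx⟩ := h2 t ht (orderOf_eq_prime (by rw [pow_two, e]) hne)
  obtain ⟨g, hg, e'⟩ := h3 x
  exact hx g hg e'

end Cfsg.Agent.S4362
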